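import Cfsg.Agent.Lib.PGroup.MaximalClass
import Cfsg.Agent.Lib.PGroup.MaxClassRank

/-!
# Layers of a `p`-group of maximal class

`lay G i` is the term of weight `i` of the lower central series (`lay G 0 = lay G 1 = G`).
-/

set_option autoImplicit false
set_option linter.style.haveILetI false

namespace CfsgLib.MaxClass94

open Subgroup
open scoped commutatorElement

/-- The term of weight `i` of the lower central series. -/
def lay (G : Type*) [Group G] (i : ℕ) : Subgroup G := (⊤ : Subgroup G).lowerCentralSeries (i - 1)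

variable {G : Type*} [Group G]

instance lay_normal (i : ℕ) : (lay G i).Normal := by unfold lay; infer_instance

theorem lay_one : lay G 1 = ⊤ := rfl

theorem lay_anti {i j : ℕ} (h : i ≤ j) : lay G j ≤ lay G i :=
  (⊤ : Subgroup G).lowerCentralSeries_antitone (by omega)

theorem lay_two : lay G 2 = commutator G := Subgroup.top_lowerCentralSeries_one

theorem lay_succ {i : ℕ} (hi : 1 ≤ i) : lay G (i + 1) = ⁅lay G i, (⊤ : Subgroup G)⁆ := by
  rw [lay, lay, show i + 1 - 1 = i - 1 + 1 by omega, Subgroup.lowerCentralSeries_succ]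

theorem comm_mem {a b : ℕ} (ha : 1 ≤ a) (hb : 1 ≤ b) {x y : G} (hx : x ∈ lay G a) (hy : y ∈ lay G b) :
    ⁅x, y⁆ ∈ lay G (a + b) := by
  have h := CfsgLib.HallPetrescu82.lcs_commutator (G := G) (a - 1) (b - 1)
  rw [show a - 1 + (b - 1) + 1 = a + b - 1 by omega] at h
  exact h (Subgroup.commutator_mem_commutator hx hy)

theorem comm_mem_le {a b c : ℕ} (ha : 1 ≤ a) (hb : 1 ≤ b) (hc : c ≤ a + b) {x y : G}
    (hx : x ∈ lay G a) (hy : y ∈ lay G b) : ⁅x, y⁆ ∈ lay G c :=
  lay_anti hc (comm_mem ha hb hx hy)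

theorem comm_mem' {b : ℕ} (hb : 1 ≤ b) (x : G) {y : G} (hy : y ∈ lay G b) : ⁅x, y⁆ ∈ lay G (b + 1) := by
  rw [Nat.add_comm]
  exact comm_mem le_rfl hb (lay_one (G := G) ▸ Subgroup.mem_top x) hy

/-- The general form of the expansion used throughout. -/
theorem expand {H : Type*} [Group H] {a b c d : H} (hac : ⁅a, c⁆ = 1) (hbc : ∀ g, Commute g ⁅b, c⁆)
    (had : ∀ g, Commute g ⁅a, d⁆) (ha : Commute a ⁅b, d⁆) (hc : Commute c ⁅b, d⁆) :
    ⁅a * b, c * d⁆ = ⁅b, c⁆ * ⁅b, d⁆ * ⁅a, d⁆ := by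
  have e : ⁅a * b, c * d⁆ =
      a * (⁅b, c⁆ * (c * ⁅b, d⁆ * c⁻¹)) * a⁻¹ * (⁅a, c⁆ * (c * ⁅a, d⁆ * c⁻¹)) := by
    simp only [commutatorElement_def]; group
  rw [e, hac, one_mul, hc.eq, mul_inv_cancel_right, (had c).eq, mul_inv_cancel_right]
  have h1 : a * (⁅b, c⁆ * ⁅b, d⁆) * a⁻¹ = ⁅b, c⁆ * ⁅b, d⁆ := by
    rw [((hbc a).mul_right ha).eq, mul_inv_cancel_right]
  rw [h1]

/-- The standing hypotheses: order `p ^ n` and class `n - 1`. -/
structure MC (G : Type*) [Group G] (p n : ℕ) : Prop where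
  card : Nat.card G = p ^ n
  three : 3 ≤ n
  ne : (⊤ : Subgroup G).lowerCentralSeries (n - 2) ≠ ⊥

variable [Finite G] {p n : ℕ} [Fact p.Prime]

theorem MC.isPGroup (h : MC G p n) : IsPGroup p G := IsPGroup.of_card h.card

theorem MC.bot (h : MC G p n) {i : ℕ} (hi : n ≤ i) : lay G i = ⊥ := by
  haveI := h.isPGroup.isNilpotent
  rw [lay, Subgroup.lowerCentralSeries_eq_bot_iff_nilpotencyClass_le]
  have := CfsgLib.MaxClass.class_le n G h.card (by have := h.three; omega)
  omega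

theorem MC.card_lay (h : MC G p n) {i : ℕ} (h2 : 2 ≤ i) (hi : i ≤ n) :
    Nat.card (lay G i) = p ^ (n - i) := by
  rw [lay, CfsgLib.MaxClassRank.card_lcs h.card h.three (h.bot (i := n) le_rfl) h.ne (i - 1) (by omega)
    (by omega)]
  congr 1; omega

theorem MC.lay_lt (h : MC G p n) {i : ℕ} (h1 : 1 ≤ i) (hi : i + 1 ≤ n) : ¬ lay G i ≤ lay G (i + 1) := by
  intro hle
  rw [lay, lay, show i + 1 - 1 = i - 1 + 1 by omega] at hle
  exact CfsgLib.MaxClassRank.not_le_succ (h.bot (i := n) le_rfl) h.ne (by omega) hle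

theorem MC.pow_mem (h : MC G p n) {i : ℕ} (h2 : 2 ≤ i) {x : G} (hx : x ∈ lay G i) :
    x ^ p ∈ lay G (i + 1) := by
  rcases le_or_gt n i with hi | hi
  · rw [h.bot hi, Subgroup.mem_bot] at hx
    rw [hx, one_pow]; exact one_mem _
  have hidx : ((lay G (i + 1)).subgroupOf (lay G i)).index = p := by
    have h1 := ((lay G (i + 1)).subgroupOf (lay G i)).card_mul_index
    rw [Nat.card_congr (Subgroup.subgroupOfEquivOfLe (lay_anti (Nat.le_succ i))).toEquiv,
      h.card_lay (by omega) (by omega), h.card_lay h2 hi.le,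
      show n - i = n - (i + 1) + 1 by omega, pow_succ] at h1
    exact Nat.eq_of_mul_eq_mul_left (pow_pos (Fact.out : p.Prime).pos _) h1
  exact hidx ▸ Subgroup.pow_index_mem ((lay G (i + 1)).subgroupOf (lay G i)) (⟨x, hx⟩ : lay G i)

/-- A layer is generated by any element outside the next one. -/
theorem MC.sup_zpowers (h : MC G p n) {i : ℕ} (h2 : 2 ≤ i) {x : G} (hx : x ∈ lay G i)
    (hx' : x ∉ lay G (i + 1)) : Subgroup.zpowers x ⊔ lay G (i + 1) = lay G i := by
  have hi : i < n := by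
    by_contra hle
    rw [h.bot (not_lt.mp hle), Subgroup.mem_bot] at hx
    exact hx' (hx ▸ one_mem _)
  refine Subgroup.eq_of_le_of_card_ge (sup_le ((Subgroup.zpowers_le).mpr hx) (lay_anti (Nat.le_succ i))) ?_
  have hlt : lay G (i + 1) < Subgroup.zpowers x ⊔ lay G (i + 1) :=
    lt_of_le_of_ne le_sup_right fun he => hx' (he.ge (Subgroup.mem_sup_left (Subgroup.mem_zpowers x)))
  have h1 := CfsgLib.Fusion.MaxClass.mul_card_le_of_lt h.isPGroup hlt
  rw [h.card_lay (by omega) (by omega), ← pow_succ', show n - (i + 1) + 1 = n - i by omega] at h1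
  rw [h.card_lay h2 hi.le]
  exact h1

/-- An element commuting with a generator of a layer modulo `L` commutes with the layer, if it does so
with the next layer. -/
theorem MC.comm_layer (h : MC G p n) {i : ℕ} (h2 : 2 ≤ i) {x y : G} (hx : x ∈ lay G i)
    (hx' : x ∉ lay G (i + 1)) {N : Subgroup G} [N.Normal] (hy : ⁅y, x⁆ ∈ N)
    (hnext : ∀ z ∈ lay G (i + 1), ⁅y, z⁆ ∈ N) : ∀ z ∈ lay G i, ⁅y, z⁆ ∈ N := by
  let π := QuotientGroup.mk' N
  have hmem : ∀ z, ⁅y, z⁆ ∈ N ↔ z ∈ (centralizer {π y}).comap π := fun z => by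
    rw [mem_comap, mem_centralizer_singleton_iff, eq_comm, ← commutatorElement_eq_one_iff_mul_comm,
      ← map_commutatorElement]
    exact (QuotientGroup.eq_one_iff _).symm
  intro z hz
  rw [hmem]
  rw [← h.sup_zpowers h2 hx hx'] at hz
  exact sup_le ((Subgroup.zpowers_le).mpr ((hmem x).mp hy)) (fun w hw => (hmem w).mp (hnext w hw)) hz

/-- A generating pair: `e` outside the derived group and `u` outside `⟨e⟩ G'`. -/
def Pair (e u : G) : Prop :=
  e ∉ lay G 2 ∧ u ∉ Subgroup.zpowers e ⊔ lay G 2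

theorem Pair.sup_eq_top (h : MC G p n) {e u : G} (hp : Pair e u) :
    Subgroup.zpowers u ⊔ (Subgroup.zpowers e ⊔ lay G 2) = ⊤ := by
  have hlt1 : lay G 2 < Subgroup.zpowers e ⊔ lay G 2 :=
    lt_of_le_of_ne le_sup_right fun he => hp.1 (he.ge (Subgroup.mem_sup_left (Subgroup.mem_zpowers e)))
  have hlt2 : Subgroup.zpowers e ⊔ lay G 2 < Subgroup.zpowers u ⊔ (Subgroup.zpowers e ⊔ lay G 2) :=
    lt_of_le_of_ne le_sup_right fun he => hp.2 (he.ge (Subgroup.mem_sup_left (Subgroup.mem_zpowers u)))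
  refine Subgroup.eq_top_of_card_eq _ (le_antisymm (Subgroup.card_le_card_group _) ?_)
  have h1 := CfsgLib.Fusion.MaxClass.mul_card_le_of_lt h.isPGroup hlt1
  have h2 := CfsgLib.Fusion.MaxClass.mul_card_le_of_lt h.isPGroup hlt2
  have h3 := h.three
  rw [h.card_lay le_rfl (by omega)] at h1
  calc Nat.card G = p * (p * p ^ (n - 2)) := by
        rw [h.card, ← mul_assoc, ← pow_two, ← pow_add]; congr 1; omega
    _ ≤ p * Nat.card ↥(Subgroup.zpowers e ⊔ lay G 2) := Nat.mul_le_mul_left _ h1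
    _ ≤ _ := h2

/-- No layer is centralized by both generators modulo the next but one. -/
theorem not_central (h : MC G p n) {e u : G} (hpair : Pair e u) {k : ℕ} (hk2 : 2 ≤ k) (hk : k + 2 ≤ n)
    {x : G} (hx : x ∈ lay G k) (hx' : x ∉ lay G (k + 1)) (he : ⁅e, x⁆ ∈ lay G (k + 2))
    (hu : ⁅u, x⁆ ∈ lay G (k + 2)) : False := by
  let π := QuotientGroup.mk' (lay G (k + 2))
  have hall : ∀ y : G, ∀ z ∈ lay G k, ⁅y, z⁆ ∈ lay G (k + 2) := by
    intro y
    refine h.comm_layer hk2 hx hx' ?_ fun z hz => comm_mem_le (a := 1) le_rfl (by omega)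
      (b := k + 1) (by omega) (lay_one (G := G) ▸ Subgroup.mem_top y) hz
    have hmem : ∀ w, ⁅w, x⁆ ∈ lay G (k + 2) ↔ w ∈ (centralizer {π x}).comap π := fun w => by
      rw [mem_comap, mem_centralizer_singleton_iff, ← commutatorElement_eq_one_iff_mul_comm,
        ← map_commutatorElement]
      exact (QuotientGroup.eq_one_iff _).symm
    rw [hmem]
    have hle : Subgroup.zpowers u ⊔ (Subgroup.zpowers e ⊔ lay G 2) ≤ (centralizer {π x}).comap π :=
      sup_le ((Subgroup.zpowers_le).mpr ((hmem u).mp hu)) (sup_le ((Subgroup.zpowers_le).mpr ((hmem e).mp he))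
        fun w hw => (hmem w).mp (comm_mem_le (by omega) (by omega) (by omega) hw hx))
    exact hle (hpair.sup_eq_top h ▸ Subgroup.mem_top y)
  refine h.lay_lt (i := k + 1) (by omega) (by omega) ?_
  rw [lay_succ (i := k) (by omega), Subgroup.commutator_le]
  intro z hz y _
  rw [← commutatorElement_inv]
  exact inv_mem (hall y z hz)

/-- The sequence of iterated commutators with `e`. -/
def seq (e u : G) : ℕ → G
  | 0 => u
  | 1 => u
  | (i + 2) => ⁅e, seq e u (i + 1)⁆

omit [Finite G] in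
theorem seq_succ (e u : G) {i : ℕ} (hi : 1 ≤ i) : seq e u (i + 1) = ⁅e, seq e u i⁆ := by
  obtain ⟨j, rfl⟩ := Nat.exists_eq_add_of_le' hi
  rfl

omit [Finite G] in
theorem seq_mem (e u : G) : ∀ i, seq e u i ∈ lay G i
  | 0 => Subgroup.mem_top _
  | 1 => Subgroup.mem_top _
  | (i + 2) => comm_mem' (by omega) e (seq_mem e u (i + 1))

theorem Pair.seq_two (h : MC G p n) {e u : G} (hpair : Pair e u) : seq e u 2 ∉ lay G 3 := by
  intro h3
  let π := QuotientGroup.mk' (lay G 3)
  have hc : ∀ a b : G, a = e ∨ a = u ∨ a ∈ lay G 2 → b = e ∨ b = u ∨ b ∈ lay G 2 → ⁅a, b⁆ ∈ lay G 3 := by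
    rintro a b (rfl | rfl | ha) (rfl | rfl | hb) <;>
      first
      | (rw [commutatorElement_self]; exact one_mem _)
      | exact h3
      | (rw [← commutatorElement_inv]; exact inv_mem h3)
      | exact comm_mem' (by omega) _ hb
      | (rw [← commutatorElement_inv]; exact inv_mem (comm_mem' (by omega) _ ha))
  refine h.lay_lt (i := 2) (by omega) h.three ?_
  rw [lay_two, commutator_def, Subgroup.commutator_le]
  intro a _ b _
  have hmem : ∀ a b : G, ⁅a, b⁆ ∈ lay G 3 ↔ a ∈ (centralizer {π b}).comap π := fun a b => by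
    rw [mem_comap, mem_centralizer_singleton_iff, ← commutatorElement_eq_one_iff_mul_comm,
      ← map_commutatorElement]
    exact (QuotientGroup.eq_one_iff _).symm
  have key : ∀ b : G, (b = e ∨ b = u ∨ b ∈ lay G 2) → ∀ a : G, ⁅a, b⁆ ∈ lay G 3 := by
    intro b hb a
    rw [hmem]
    exact sup_le ((Subgroup.zpowers_le).mpr ((hmem _ _).mp (hc u b (Or.inr (Or.inl rfl)) hb)))
      (sup_le ((Subgroup.zpowers_le).mpr ((hmem _ _).mp (hc e b (Or.inl rfl) hb)))
        fun w hw => (hmem _ _).mp (hc w b (Or.inr (Or.inr hw)) hb)) (hpair.sup_eq_top h ▸ Subgroup.mem_top a)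
  rw [← commutatorElement_inv b a]
  refine inv_mem ?_
  rw [hmem]
  refine sup_le ((Subgroup.zpowers_le).mpr ((hmem _ _).mp ?_)) (sup_le ((Subgroup.zpowers_le).mpr ((hmem _ _).mp ?_))
    fun w hw => (hmem _ _).mp ?_) (hpair.sup_eq_top h ▸ Subgroup.mem_top b)
  · rw [← commutatorElement_inv a u]; exact inv_mem (key u (Or.inr (Or.inl rfl)) a)
  · rw [← commutatorElement_inv a e]; exact inv_mem (key e (Or.inl rfl) a)
  · rw [← commutatorElement_inv a w]; exact inv_mem (key w (Or.inr (Or.inr hw)) a)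

/-- The sequence descends one layer at a time as long as `e` fails on no layer. -/
theorem Pair.seq_notMem (h : MC G p n) {e u : G} (hpair : Pair e u) {J : ℕ}
    (hnf : ∀ k, 2 ≤ k → k < J → ∀ x ∈ lay G k, ⁅e, x⁆ ∈ lay G (k + 2) → x ∈ lay G (k + 1)) :
    ∀ i, 2 ≤ i → i ≤ J → seq e u i ∉ lay G (i + 1) := by
  intro i h2
  induction i, h2 using Nat.le_induction with
  | base => exact fun _ => hpair.seq_two h
  | succ i hi ih =>
    intro hiJ hmem
    rw [seq_succ e u (by omega)] at hmem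
    exact ih (by omega) (hnf i hi (by omega) _ (seq_mem e u i) hmem)

end CfsgLib.MaxClass94
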