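import Cfsg.Agent.Lib.MaxClass94.Failure

/-!
# The power map on the layers moved by an element of order `p`
-/

set_option autoImplicit false
set_option linter.style.haveILetI false

namespace CfsgLib.MaxClass94

open Subgroup
open scoped commutatorElement

/-- Iterating an endomorphism `φ x = D x * x` of a commutative group. -/
theorem iterate_binom {A : Type*} [CommGroup A] (φ : A →* A) (g : ℕ → A)
    (hg : ∀ k, φ (g k) = g (k + 1) * g k) (m : ℕ) :
    φ^[m] (g 0) = ∏ k ∈ Finset.range (m + 1), g k ^ m.choose k := by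
  induction m with
  | zero => simp
  | succ m ih =>
    have h1 : (∏ k ∈ Finset.range (m + 1), g k ^ m.choose k) =
        (∏ k ∈ Finset.range (m + 1), g (k + 1) ^ m.choose (k + 1)) * g 0 := by
      have h2 : (∏ k ∈ Finset.range (m + 1), g k ^ m.choose k) =
          ∏ k ∈ Finset.range (m + 2), g k ^ m.choose k := by
        rw [Finset.prod_range_succ _ (m + 1), Nat.choose_eq_zero_of_lt (Nat.lt_succ_self m), pow_zero,
          mul_one]
      rw [h2, Finset.prod_range_succ' _ (m + 1), Nat.choose_zero_right, pow_one]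
    rw [Function.iterate_succ_apply', ih, map_prod]
    simp only [map_pow, hg, mul_pow]
    rw [Finset.prod_mul_distrib, h1, Finset.prod_range_succ' _ (m + 1), Nat.choose_zero_right, pow_one,
      ← mul_assoc, ← Finset.prod_mul_distrib]
    simp only [Nat.choose_succ_succ', pow_add]

variable {G : Type*} [Group G] [Finite G] {p n : ℕ} [Fact p.Prime]

theorem MC.comm_self (h : MC G p n) {i : ℕ} (h2 : 2 ≤ i) {x y : G} (hx : x ∈ lay G i) (hy : y ∈ lay G i) :
    ⁅x, y⁆ ∈ lay G (2 * i + 1) := by
  rcases le_or_gt n i with hi | hi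
  · rw [h.bot hi, Subgroup.mem_bot] at hx
    rw [hx, commutatorElement_one_left]; exact one_mem _
  obtain ⟨g, hg, hg'⟩ := Set.not_subset.mp (h.lay_lt (i := i) (by omega) hi)
  have hlow : ∀ a ∈ lay G i, ∀ b ∈ lay G (i + 1), ⁅a, b⁆ ∈ lay G (2 * i + 1) := fun a ha b hb =>
    comm_mem_le (by omega) (by omega) (by omega) ha hb
  refine h.comm_layer h2 hg hg' ?_ (hlow x hx) y hy
  rw [← commutatorElement_inv]
  refine inv_mem (h.comm_layer h2 hg hg' ?_ (hlow g hg) x hx)
  rw [commutatorElement_self]; exact one_mem _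

/-- The binomial relation of an element of order dividing `p` on an abelian section. -/
theorem MC.binom_mem (h : MC G p n) {e u : G} (he : e ^ p = 1) {i m0 : ℕ} (h2 : 2 ≤ i) (hm0 : m0 ≤ 2 * i + 1)
    {K : Subgroup G} (hK : lay G m0 ≤ K) {m : ℕ} (hm : 1 ≤ m) (hmp : m ≤ p)
    (hk : ∀ k, 1 ≤ k → k ≤ p → k ≠ m → seq e u (i + k) ^ p.choose k ∈ K) :
    seq e u (i + m) ^ p.choose m ∈ K := by
  let π := QuotientGroup.mk' (lay G m0)
  let A : Subgroup (G ⧸ lay G m0) := (lay G i).map π
  haveI : A.Normal := (lay_normal i).map π (QuotientGroup.mk'_surjective _)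
  letI : CommGroup A :=
    { (inferInstance : Group A) with
      mul_comm := by
        rintro ⟨_, a, ha, rfl⟩ ⟨_, b, hb, rfl⟩
        refine Subtype.ext (commutatorElement_eq_one_iff_mul_comm.mp ?_)
        rw [← map_commutatorElement]
        exact mk_eq_one (lay_anti hm0 (h.comm_self h2 ha hb)) }
  let g : ℕ → A := fun k => ⟨π (seq e u (i + k)), mem_map_of_mem _ (lay_anti (by omega) (seq_mem e u _))⟩
  have hg : ∀ k, (MulAut.conjNormal (π e) : MulAut A).toMonoidHom (g k) = g (k + 1) * g k := by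
    intro k
    refine Subtype.ext ?_
    rw [MulEquiv.coe_toMonoidHom, MulAut.conjNormal_apply, Subgroup.coe_mul]
    change π e * π (seq e u (i + k)) * (π e)⁻¹ = π (seq e u (i + (k + 1))) * π (seq e u (i + k))
    rw [show i + (k + 1) = i + k + 1 by omega, seq_succ e u (by omega), ← map_inv, ← map_mul, ← map_mul,
      ← map_mul]
    congr 1; simp only [commutatorElement_def]; group
  have hit : ∀ (a : G ⧸ lay G m0) (j : ℕ) (x : A),
      ((((MulAut.conjNormal a : MulAut A).toMonoidHom : A → A)^[j] x : A) : G ⧸ lay G m0) =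
        a ^ j * x * (a ^ j)⁻¹ := by
    intro a j x
    induction j with
    | zero => simp
    | succ j ih =>
      rw [Function.iterate_succ_apply', MulEquiv.coe_toMonoidHom, MulAut.conjNormal_apply]
      rw [MulEquiv.coe_toMonoidHom] at ih
      rw [ih, pow_succ', mul_inv_rev]
      simp only [mul_assoc]
  have hfix : ((MulAut.conjNormal (π e) : MulAut A).toMonoidHom : A → A)^[p] (g 0) = g 0 := by
    refine Subtype.ext ?_
    rw [hit, ← map_pow, he, map_one, one_mul, inv_one, mul_one]
  rw [iterate_binom _ g hg p, Finset.prod_range_succ', Nat.choose_zero_right, pow_one, mul_eq_right] at hfix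
  let KA : Subgroup A := (K.map π).subgroupOf A
  have hmem : ∀ k, g k ^ p.choose k ∈ KA ↔ seq e u (i + k) ^ p.choose k ∈ K := by
    intro k
    rw [Subgroup.mem_subgroupOf, SubgroupClass.coe_pow]
    change π (seq e u (i + k)) ^ p.choose k ∈ K.map π ↔ _
    rw [← map_pow, ← Subgroup.mem_comap, Subgroup.comap_map_eq_self (by rwa [QuotientGroup.ker_mk'])]
  rw [← hmem]
  have hsplit := Finset.mul_prod_erase (Finset.range p) (fun k => g (k + 1) ^ p.choose (k + 1))
    (a := m - 1) (Finset.mem_range.mpr (by omega))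
  rw [hfix, show m - 1 + 1 = m by omega] at hsplit
  rw [eq_inv_of_mul_eq_one_left hsplit]
  refine inv_mem (Subgroup.prod_mem KA fun k hk' => (hmem _).mpr ?_)
  obtain ⟨hne, hlt⟩ := Finset.mem_erase.mp hk'
  exact hk (k + 1) (by omega) (by simpa using hlt) (by omega)

variable {e u : G} {J : ℕ}

theorem commutator_zpow_left {H : Type*} [Group H] {a b X : H} (hX : ∀ g, Commute g X) (hab : ⁅a, b⁆ = X)
    (c : ℤ) : ⁅a ^ c, b⁆ = X ^ c := by
  have h1 : b * a⁻¹ * b⁻¹ = a⁻¹ * X := by
    rw [← hab]; simp only [commutatorElement_def]; group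
  have h2 : b * (a⁻¹) ^ c * b⁻¹ = (a⁻¹) ^ c * X ^ c := by
    rw [← conj_zpow, h1, (hX a⁻¹).mul_zpow]
  rw [commutatorElement_def, mul_assoc (a ^ c), mul_assoc (a ^ c), ← inv_zpow, h2, ← mul_assoc, inv_zpow,
    mul_inv_cancel, one_mul]

/-- A single failure below the last layer does not happen above the layer `2 p`. -/
theorem single_failure_power (h : MC G p n) (hp : 5 ≤ p) (hpair : Pair e u) (he : e ^ p = 1) (hJ : 2 * p ≤ J)
    (hJn : J + 2 ≤ n) (hnf : ∀ k, 2 ≤ k → k < J → NF e k) (hfail : Fail e J) : False := by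
  have hpp : p.Prime := Fact.out
  have hne : ∀ i, 2 ≤ i → i ≤ J → seq e u i ∉ lay G (i + 1) := hpair.seq_notMem h hnf
  -- powers land deep
  have hpow : ∀ z a b : G, ∀ i, 2 ≤ i → J + 2 ≤ 2 * i + 1 → a ∈ lay G i → b ∈ lay G i → z = a * b →
      a ^ p ∈ lay G (J + 2) → b ^ p ∈ lay G (J + 2) → z ^ p ∈ lay G (J + 2) := by
    intro z a b i hi hm ha hb hz hap hbp
    rw [← QuotientGroup.eq_one_iff, ← QuotientGroup.mk'_apply, map_pow, hz, map_mul,
      Commute.mul_pow (a := QuotientGroup.mk' (lay G (J + 2)) a) (b := QuotientGroup.mk' (lay G (J + 2)) b)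
        (commutatorElement_eq_one_iff_mul_comm.mp (by
          rw [← map_commutatorElement]
          exact mk_eq_one (lay_anti hm (h.comm_self hi ha hb)))), ← map_pow, ← map_pow, mk_eq_one hap,
      mk_eq_one hbp, one_mul]
  have hQ : ∀ d i, i + d = J + 1 → J + 3 ≤ i + p → ∀ z ∈ lay G i, z ^ p ∈ lay G (J + 2) := by
    intro d
    induction d with
    | zero =>
      intro i hi _ z hz
      exact lay_anti (by omega) (h.pow_mem (by omega) hz)
    | succ d ih =>
      intro i hi hip z hz
      have hup : ∀ w ∈ lay G (i + 1), w ^ p ∈ lay G (J + 2) := ih (i + 1) (by omega) (by omega)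
      have hx : seq e u i ^ p ∈ lay G (J + 2) := by
        have := h.binom_mem (u := u) he (i := i - 1) (m0 := J + 2) (by omega) (by omega) le_rfl (m := 1) le_rfl
          hpp.one_lt.le ?_
        · rwa [Nat.choose_one_right, show i - 1 + 1 = i by omega] at this
        intro k h1 h2 hk1
        rcases eq_or_lt_of_le h2 with rfl | hlt
        · rw [Nat.choose_self, pow_one]
          exact lay_anti (by omega) (seq_mem e u _)
        · obtain ⟨c, hc⟩ := hpp.dvd_choose_self (by omega) hlt
          rw [hc, pow_mul]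
          exact pow_mem (hup _ (lay_anti (by omega) (seq_mem e u _))) c
      have hz' := (h.sup_zpowers (by omega) (seq_mem e u i) (hne i (by omega) (by omega))).ge hz
      obtain ⟨a, ⟨c, rfl⟩, b, hb, rfl⟩ := Subgroup.mem_sup_of_normal_right.mp hz'
      refine hpow _ _ b i (by omega) (by omega) (zpow_mem (seq_mem e u i) c) (lay_anti (Nat.le_succ i) hb) rfl ?_
        (hup b hb)
      rw [← zpow_natCast, zpow_comm, zpow_natCast]
      exact zpow_mem hx c
  -- a generator centralizing the relevant layer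
  obtain ⟨i, hi⟩ : ∃ i, i + p = J + 1 := ⟨J + 1 - p, by omega⟩
  obtain ⟨u', hpair', hu'⟩ : ∃ u', Pair e u' ∧ ⁅u', seq e u i⁆ ∈ lay G (i + 2) := by
    let π := QuotientGroup.mk' (lay G (i + 2))
    have hz := (h.sup_zpowers (by omega) (seq_mem e u (i + 1)) (hne (i + 1) (by omega) (by omega))).ge
      (comm_mem' (b := i) (by omega) u (seq_mem e u i))
    obtain ⟨a, ⟨c, rfl⟩, w, hw, hcw⟩ := Subgroup.mem_sup_of_normal_right.mp hz
    have hX : ∀ g, Commute g (π (seq e u (i + 1))) := fun g =>
      mk_central (a := i + 1) (by omega) (by omega) (seq_mem e u _) g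
    refine ⟨u * e ^ (-c), ⟨hpair.1, fun hmem => hpair.2 ?_⟩, ?_⟩
    · have := mul_mem hmem (Subgroup.mem_sup_left (Subgroup.zpow_mem_zpowers e c))
      rwa [mul_assoc, ← zpow_add, neg_add_cancel, zpow_zero, mul_one] at this
    rw [← QuotientGroup.eq_one_iff, ← QuotientGroup.mk'_apply]
    change π ⁅u * e ^ (-c), seq e u i⁆ = 1
    rw [show ⁅u * e ^ (-c), seq e u i⁆ = u * ⁅e ^ (-c), seq e u i⁆ * u⁻¹ * ⁅u, seq e u i⁆ by
      simp only [commutatorElement_def]; group]
    have h1 : π ⁅e ^ (-c), seq e u i⁆ = π (seq e u (i + 1)) ^ (-c) := by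
      rw [map_commutatorElement, map_zpow]
      exact commutator_zpow_left hX (by rw [← map_commutatorElement, seq_succ e u (by omega)]) _
    rw [map_mul, map_mul, map_mul, map_inv, h1, ← hcw, map_mul, map_zpow, mk_eq_one hw, mul_one,
      ((hX (π u)).zpow_right (-c)).eq, mul_inv_cancel_right, ← zpow_add, neg_add_cancel, zpow_zero]
  refine not_central h hpair' (k := J) (by omega) hJn (seq_mem e u J) (hne J (by omega) le_rfl)
    (hfail _ (seq_mem e u J)) ?_
  let π := QuotientGroup.mk' (lay G (J + 2))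
  let K : Subgroup G := (centralizer {π u'}).comap π
  have hK : ∀ w, w ∈ K ↔ ⁅u', w⁆ ∈ lay G (J + 2) := fun w => by
    rw [mem_comap, mem_centralizer_singleton_iff, eq_comm, ← commutatorElement_eq_one_iff_mul_comm,
      ← map_commutatorElement]
    exact QuotientGroup.eq_one_iff _
  rw [← hK]
  have hy : ∀ y ∈ lay G i, ⁅u', y⁆ ∈ lay G (i + 2) → y ^ p ∈ K := by
    intro y hy hy'
    rw [hK, ← QuotientGroup.eq_one_iff, ← QuotientGroup.mk'_apply, map_commutatorElement,
      commutatorElement_eq_one_iff_mul_comm]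
    change π u' * π (y ^ p) = π (y ^ p) * π u'
    suffices hs : π (u' * y ^ p * u'⁻¹) = π (y ^ p) by
      rw [map_mul, map_mul, map_inv] at hs
      exact mul_inv_eq_iff_eq_mul.mp hs
    rw [← conj_pow, show u' * y * u'⁻¹ = ⁅u', y⁆ * y by simp [commutatorElement_def]]
    have hc : Commute (π ⁅u', y⁆) (π y) :=
      mk_commute (a := i + 2) (b := i) (by omega) (by omega) (by omega) hy' hy
    rw [map_pow, map_mul, hc.mul_pow, ← map_pow π ⁅u', y⁆ p,
      mk_eq_one (hQ (J + 1 - (i + 2)) (i + 2) (by omega) (by omega) _ hy'), one_mul, map_pow]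
  have hx := h.binom_mem (u := u) he (i := i - 1) (m0 := J + 1) (by omega) (by omega) (K := K)
    (fun z hz => (hK z).mpr (comm_mem' (by omega) u' hz)) (m := p) hpp.one_lt.le le_rfl ?_
  · rwa [Nat.choose_self, pow_one, show i - 1 + p = J by omega] at hx
  intro k h1 h2 hk1
  obtain ⟨c, hc⟩ := hpp.dvd_choose_self (by omega) (lt_of_le_of_ne h2 hk1)
  rw [hc, pow_mul]
  refine pow_mem ?_ c
  rcases eq_or_lt_of_le h1 with rfl | h1'
  · rw [show i - 1 + 1 = i by omega]; exact hy _ (seq_mem e u i) hu'
  · refine hy _ (lay_anti (by omega) (seq_mem e u _)) ?_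
    exact lay_anti (by omega) (comm_mem' (by omega) u' (seq_mem e u (i - 1 + k)))

/-- Failures on the layers two and three are followed by one on the layer four. -/
theorem fail_two_three (h : MC G p n) (hp : 5 ≤ p) (hpair : Pair e u) (hn : 7 ≤ n) (hf2 : Fail e 2)
    (hf3 : Fail e 3) (hnf4 : NF e 4) : False := by
  set x := seq e u 2 with hxdef
  have hxm : x ∈ lay G 2 := seq_mem e u 2
  set y := ⁅u, x⁆ with hydef
  have hym : y ∈ lay G 3 := comm_mem' (by omega) u hxm
  have hyn : y ∉ lay G 4 := fun hc =>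
    not_central h hpair (k := 2) le_rfl (by omega) hxm (hpair.seq_two h) (hf2 _ hxm) hc
  set z := ⁅u, y⁆ with hzdef
  have hzm : z ∈ lay G 4 := comm_mem' (by omega) u hym
  have hzn : z ∉ lay G 5 := fun hc =>
    not_central h hpair (k := 3) (by omega) (by omega) hym hyn (hf3 _ hym) hc
  set V := ⁅e, z⁆ with hVdef
  have hVm : V ∈ lay G 5 := comm_mem' (by omega) e hzm
  have hVn : V ∉ lay G 6 := fun hc => hzn (hnf4 _ hzm hc)
  set P := ⁅x, y⁆ with hPdef
  have hPm : P ∈ lay G 5 := comm_mem_le (by omega) (by omega) (by omega) hxm hym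
  have hxe : ⁅e, u⁆ = x := by rw [hxdef, seq_succ e u le_rfl]; rfl
  -- modulo the sixth layer
  have hVP : V * P⁻¹ ∈ lay G 6 := by
    rw [← QuotientGroup.eq_one_iff, ← QuotientGroup.mk'_apply, map_mul, map_inv, mul_inv_eq_one]
    have h1 : V * z = ⁅x * u, ⁅e, y⁆ * y⁆ := by
      rw [hVdef, hzdef, ← hxe]; simp only [commutatorElement_def]; group
    have h2 := congrArg (QuotientGroup.mk' (lay G 6)) h1
    rw [map_mul, map_commutatorElement _ (x * u), map_mul, map_mul, expand ?hac ?hbc ?had ?ha ?hc] at h2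
    case hac => exact mk_comm_eq_one (a := 2) (b := 5) (by omega) (by omega) (by omega) hxm (hf3 _ hym)
    case hbc =>
      intro g
      rw [mk_comm_eq_one (a := 1) (b := 5) le_rfl (by omega) (by omega) (Subgroup.mem_top u) (hf3 _ hym)]
      exact Commute.one_right g
    case had =>
      intro g; rw [← map_commutatorElement]
      exact mk_central (a := 5) (by omega) (by omega) hPm g
    case ha =>
      rw [← map_commutatorElement]
      exact mk_commute (a := 2) (b := 4) (by omega) (by omega) (by omega) hxm hzm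
    case hc =>
      rw [← map_commutatorElement]
      exact mk_commute (a := 5) (b := 4) (by omega) (by omega) (by omega) (hf3 _ hym) hzm
    rw [mk_comm_eq_one (a := 1) (b := 5) le_rfl (by omega) (by omega) (Subgroup.mem_top u) (hf3 _ hym),
      one_mul, ← map_commutatorElement, ← map_commutatorElement, ← hzdef, ← hPdef,
      ← (mk_central (m := 6) (a := 5) (by omega) (by omega) hPm _).eq.symm] at h2
    exact mul_right_cancel h2
  have hPn : P ∉ lay G 6 := fun hc => hVn (by simpa using mul_mem hVP hc)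
  let π := QuotientGroup.mk' (lay G 7)
  -- the fifth layer is fixed
  have hePm : ⁅e, P⁆ ∈ lay G 7 := by
    rw [← QuotientGroup.eq_one_iff, ← QuotientGroup.mk'_apply]
    have h1 : ⁅e, P⁆ * P = ⁅⁅e, x⁆ * x, ⁅e, y⁆ * y⁆ := by
      rw [hPdef]; simp only [commutatorElement_def]; group
    have h2 := congrArg π h1
    rw [map_mul, map_commutatorElement π (⁅e, x⁆ * x), map_mul, map_mul, expand ?hac ?hbc ?had ?ha ?hc] at h2
    case hac => exact mk_comm_eq_one (a := 4) (b := 5) (by omega) (by omega) (by omega) (hf2 _ hxm) (hf3 _ hym)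
    case hbc =>
      intro g
      rw [mk_comm_eq_one (a := 2) (b := 5) (by omega) (by omega) (by omega) hxm (hf3 _ hym)]
      exact Commute.one_right g
    case had =>
      intro g
      rw [mk_comm_eq_one (a := 4) (b := 3) (by omega) (by omega) (by omega) (hf2 _ hxm) hym]
      exact Commute.one_right g
    case ha =>
      rw [← map_commutatorElement]
      exact mk_commute (a := 4) (b := 5) (by omega) (by omega) (by omega) (hf2 _ hxm) hPm
    case hc =>
      rw [← map_commutatorElement]
      exact mk_commute (a := 5) (b := 5) (by omega) (by omega) (by omega) (hf3 _ hym) hPm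
    rw [mk_comm_eq_one (a := 2) (b := 5) (by omega) (by omega) (by omega) hxm (hf3 _ hym),
      mk_comm_eq_one (a := 4) (b := 3) (by omega) (by omega) (by omega) (hf2 _ hxm) hym, one_mul, mul_one,
      ← map_commutatorElement π x y, ← hPdef, mul_eq_right] at h2
    exact h2
  have he5 : ∀ w ∈ lay G 5, ⁅e, w⁆ ∈ lay G 7 :=
    h.comm_layer (by omega) hPm hPn hePm fun w hw => comm_mem' (b := 6) (by omega) e hw
  -- conjugation by `u`
  have hL6 : ∀ g, ∀ w ∈ lay G 6, Commute g (π w) := fun g w hw =>
    mk_central (m := 7) (a := 6) (by omega) (by omega) hw g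
  have hxz : ∀ g, Commute g (π ⁅x, z⁆) := fun g =>
    hL6 g _ (comm_mem (a := 2) (b := 4) (by omega) (by omega) hxm hzm)
  have hxz' : ∀ g, Commute g (π ⁅x⁻¹, z⁆) := fun g =>
    hL6 g _ (comm_mem (a := 2) (b := 4) (by omega) (by omega) (inv_mem hxm) hzm)
  have huP : π ⁅u, P⁆ = π ⁅x, z⁆ := by
    have h1 : ⁅u, P⁆ * P = ⁅y * x, z * y⁆ := by
      rw [hPdef, hzdef, hydef]; simp only [commutatorElement_def]; group
    have h2 := congrArg π h1
    rw [map_mul, map_commutatorElement π (y * x), map_mul, map_mul, expand ?hac ?hbc ?had ?ha ?hc] at h2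
    case hac => exact mk_comm_eq_one (a := 3) (b := 4) (by omega) (by omega) (by omega) hym hzm
    case hbc => intro g; rw [← map_commutatorElement]; exact hxz g
    case had => intro g; rw [commutatorElement_self]; exact Commute.one_right g
    case ha =>
      rw [← map_commutatorElement]
      exact mk_commute (a := 3) (b := 5) (by omega) (by omega) (by omega) hym hPm
    case hc =>
      rw [← map_commutatorElement]
      exact mk_commute (a := 4) (b := 5) (by omega) (by omega) (by omega) hzm hPm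
    rw [commutatorElement_self, mul_one, ← map_commutatorElement π x z, ← map_commutatorElement π x y,
      ← hPdef] at h2
    exact mul_right_cancel h2
  have huV : π ⁅u, V⁆ = π ⁅x⁻¹, z⁆ := by
    have h1 : ⁅u, V⁆ * V = ⁅x⁻¹ * e, ⁅u, z⁆ * z⁆ := by
      rw [hVdef, ← hxe]; simp only [commutatorElement_def]; group
    have hrm : ⁅u, z⁆ ∈ lay G 5 := comm_mem' (by omega) u hzm
    have h2 := congrArg π h1
    rw [map_mul, map_commutatorElement π (x⁻¹ * e), map_mul, map_mul, expand ?hac ?hbc ?had ?ha ?hc] at h2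
    case hac => exact mk_comm_eq_one (a := 2) (b := 5) (by omega) (by omega) (by omega) (inv_mem hxm) hrm
    case hbc =>
      intro g
      rw [← map_commutatorElement, mk_eq_one (he5 _ hrm)]
      exact Commute.one_right g
    case had => intro g; rw [← map_commutatorElement]; exact hxz' g
    case ha =>
      rw [← map_commutatorElement]
      exact mk_commute (a := 2) (b := 5) (by omega) (by omega) (by omega) (inv_mem hxm) hVm
    case hc =>
      rw [← map_commutatorElement]
      exact mk_commute (a := 5) (b := 5) (by omega) (by omega) (by omega) hrm hVm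
    rw [← map_commutatorElement π e ⁅u, z⁆, mk_eq_one (he5 _ hrm), one_mul,
      ← map_commutatorElement π e z, ← map_commutatorElement π x⁻¹ z, ← hVdef, (hxz' (π V)).eq] at h2
    exact mul_right_cancel h2
  have hsame : π ⁅u, V⁆ = π ⁅u, P⁆ := by
    have h1 : ⁅u, V⁆ = ⁅u, V * P⁻¹⁆ * ((V * P⁻¹) * ⁅u, P⁆ * (V * P⁻¹)⁻¹) := by
      simp only [commutatorElement_def]; group
    rw [h1, map_mul, map_mul, map_mul, map_inv, mk_eq_one (comm_mem' (b := 6) (by omega) u hVP), one_mul,
      (hL6 (π ⁅u, P⁆) _ hVP).symm.eq, mul_inv_cancel_right]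
  have hsq : π ⁅x, z⁆ * π ⁅x, z⁆ = 1 := by
    have h1 : ⁅x⁻¹, z⁆ = x⁻¹ * ⁅x, z⁆⁻¹ * x := by simp only [commutatorElement_def]; group
    have h2 : π ⁅x⁻¹, z⁆ = (π ⁅x, z⁆)⁻¹ := by
      rw [h1, map_mul, map_mul, map_inv, map_inv, ((hxz (π x)⁻¹).inv_right).eq, inv_mul_cancel_right]
    have h3 : π ⁅x, z⁆ = (π ⁅x, z⁆)⁻¹ := huP.symm.trans (hsame.symm.trans (huV.trans h2))
    exact mul_eq_one_iff_eq_inv.mpr h3
  have hone : π ⁅x, z⁆ = 1 := by
    by_contra h0
    have hord : orderOf (π ⁅x, z⁆) = 2 := orderOf_eq_prime (by rw [pow_two]; exact hsq) h0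
    have hpg : IsPGroup p (G ⧸ lay G 7) := h.isPGroup.to_quotient _
    obtain ⟨k, hk⟩ := IsPGroup.iff_orderOf.mp hpg (π ⁅x, z⁆)
    rw [hord] at hk
    rcases Nat.eq_zero_or_pos k with rfl | hk'
    · simp at hk
    · have := (Nat.prime_dvd_prime_iff_eq (Fact.out : p.Prime) Nat.prime_two).mp
        (hk ▸ dvd_pow_self p (by omega))
      omega
  exact not_central h hpair (k := 5) (by omega) (by omega) hPm hPn hePm
    ((QuotientGroup.eq_one_iff _).mp (huP.trans hone))

end CfsgLib.MaxClass94
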