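import Cfsg.Agent.Lib.MaxClass94.Essential

/-!
# Self-maps of subgroups containing an essential subgroup of order `p ^ 3`
-/

set_option autoImplicit false
set_option linter.style.haveILetI false

namespace CfsgLib.MaxClass94

open Cfsg Cfsg.FusionSystem CfsgLib.Fusion CfsgLib.FusionNormal
open scoped commutatorElement

variable {Ω : Type*} [Group Ω] {S : Subgroup Ω} {F : FusionSystem S} {p n : ℕ} [Fact p.Prime] [Finite S]
  {E : Subgroup S}

/-- A self-map of `W` in the fusion system. -/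
structure Auto (F : FusionSystem S) (W : Subgroup S) (f : ↥S → ↥S) : Prop where
  gfn : GFn F W f
  img : f '' W = (W : Set S)

omit [Finite S] [Fact p.Prime] in
theorem Auto.mem {W : Subgroup S} {f : ↥S → ↥S} (hf : Auto F W f) {x : S} (hx : x ∈ W) : f x ∈ W := by
  rw [← SetLike.mem_coe, ← hf.img]; exact Set.mem_image_of_mem f hx

omit [Finite S] [Fact p.Prime] in
theorem Auto.surj {W : Subgroup S} {f : ↥S → ↥S} (hf : Auto F W f) {y : S} (hy : y ∈ W) :
    ∃ x ∈ W, f x = y := hf.img.ge hy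

omit [Fact p.Prime] in
theorem Auto.of_mem {W : Subgroup S} {f : ↥S → ↥S} (hf : GFn F W f) (h : ∀ x ∈ W, f x ∈ W) : Auto F W f :=
  ⟨hf, hf.image_eq h le_rfl⟩

omit [Finite S] [Fact p.Prime] in
/-- A self-map is determined on a join by its values on generators. -/
theorem GFn.mem_of_gen {W : Subgroup S} {f : ↥S → ↥S} (hf : GFn F W f) {A : Set S} (hA : A ⊆ W)
    {T : Subgroup S} (h : ∀ a ∈ A, f a ∈ T) {x : S} (hx : x ∈ Subgroup.closure A) : f x ∈ T := by
  suffices x ∈ W ∧ f x ∈ T from this.2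
  induction hx using Subgroup.closure_induction with
  | mem a ha => exact ⟨hA ha, h a ha⟩
  | one => exact ⟨one_mem _, by rw [hf.map_one]; exact one_mem _⟩
  | mul a b _ _ ha hb => exact ⟨mul_mem ha.1 hb.1, by rw [hf.map_mul ha.1 hb.1]; exact mul_mem ha.2 hb.2⟩
  | inv a _ ha => exact ⟨inv_mem ha.1, by rw [hf.map_inv ha.1]; exact inv_mem ha.2⟩

theorem Ess.normalizer_eq (h : Ess F p n E) {g : S} (hgN : g ∈ Subgroup.normalizer (E : Set S)) (hgE : g ∉ E) :
    Subgroup.zpowers g ⊔ E = Subgroup.normalizer (E : Set S) := by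
  refine Subgroup.eq_of_le_of_card_ge (sup_le (Subgroup.zpowers_le.mpr hgN) Subgroup.le_normalizer) ?_
  have h1 := CfsgLib.Fusion.MaxClass.mul_card_le_of_lt h.isP (H := E) (K := Subgroup.zpowers g ⊔ E)
    (lt_of_le_of_ne le_sup_right fun h0 => hgE (h0.ge (Subgroup.mem_sup_left (Subgroup.mem_zpowers g))))
  rw [h.small.card, ← pow_succ'] at h1
  rwa [h.small.norm]

/-- An automorphism commuting with `g` and inverting its commutators sends `e` to `e⁻¹` modulo the fixed points. -/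
theorem Ess.mul_self_fixed (h : Ess F p n E) {g x : S} (hgN : g ∈ Subgroup.normalizer (E : Set S)) (hx : x ∈ E)
    {f : ↥S → ↥S} (hf : Auto F E f) (hcom : ∀ e ∈ E, f (g * e * g⁻¹) = g * f e * g⁻¹) (hfx : f x = x⁻¹)
    {e : S} (he : e ∈ E) (hge : ⁅g, e⁆ ∈ Subgroup.zpowers x) : Commute g (f e * e) := by
  obtain ⟨i, hi⟩ := hge
  dsimp only [] at hi
  have hxE : x ^ i ∈ E := zpow_mem hx i
  have hfe : f e ∈ E := hf.mem he
  have hc : g * e * g⁻¹ = x ^ i * e := by rw [hi]; simp [commutatorElement_def]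
  refine mul_inv_eq_iff_eq_mul.mp ?_
  calc g * (f e * e) * g⁻¹ = f (g * e * g⁻¹) * (g * e * g⁻¹) := by rw [hcom e he]; group
    _ = (x ^ i)⁻¹ * f e * (x ^ i * e) := by
        rw [hc, hf.gfn.map_mul hxE he, hf.gfn.map_zpow hx, hfx, inv_zpow]
    _ = f e * e := by rw [(h.small.comm (inv_mem hxE) hfe).eq]; group

/-- An automorphism commuting with `g` extends to the normalizer and fixes `g` modulo `E`. -/
theorem Ess.extend_normalizer (h : Ess F p n E) {g : S} (hgN : g ∈ Subgroup.normalizer (E : Set S)) (hgE : g ∉ E)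
    {f : ↥S → ↥S} (hf : Auto F E f) (hcom : ∀ e ∈ E, f (g * e * g⁻¹) = g * f e * g⁻¹) :
    ∃ f', Auto F (Subgroup.normalizer (E : Set S)) f' ∧ (∀ e ∈ E, f' e = f e) ∧ g⁻¹ * f' g ∈ E := by
  have hN := h.normalizer_eq hgN hgE
  let M : Subgroup S :=
    { carrier := {y | y ∈ Subgroup.normalizer (E : Set S) ∧ ∃ s : S, ∀ e ∈ E, f (y * e * y⁻¹) = s * f e * s⁻¹}
      one_mem' := ⟨one_mem _, 1, fun e _ => by simp⟩
      mul_mem' := by
        rintro a b ⟨ha, s, hs⟩ ⟨hb, t, ht⟩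
        refine ⟨mul_mem ha hb, s * t, fun e he => ?_⟩
        have hbe : b * e * b⁻¹ ∈ E := (Subgroup.mem_normalizer_iff.mp hb e).mp he
        rw [show a * b * e * (a * b)⁻¹ = a * (b * e * b⁻¹) * a⁻¹ by group, hs _ hbe, ht e he]
        group
      inv_mem' := by
        rintro a ⟨ha, s, hs⟩
        refine ⟨inv_mem ha, s⁻¹, fun e he => ?_⟩
        have hae : a⁻¹ * e * a⁻¹⁻¹ ∈ E := (Subgroup.mem_normalizer_iff.mp (inv_mem ha) e).mp he
        have h1 := hs _ hae
        rw [show a * (a⁻¹ * e * a⁻¹⁻¹) * a⁻¹ = e by group] at h1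
        rw [h1]; group }
  have hNM : Subgroup.normalizer (E : Set S) ≤ M := by
    rw [← hN]
    refine sup_le (Subgroup.zpowers_le.mpr ⟨hgN, g, hcom⟩) fun a ha => ⟨Subgroup.le_normalizer ha, f a, fun e he => ?_⟩
    rw [hf.gfn.map_mul (mul_mem ha he) (inv_mem ha), hf.gfn.map_mul ha he, hf.gfn.map_inv ha]
  obtain ⟨f', hf', he'⟩ := exists_extension_of h.isP h.sat h.ess.2.1 hf.gfn hf.img Subgroup.le_normalizer le_rfl
    fun y hy => (hNM hy).2
  have himg : f' '' E = (E : Set S) := (Set.image_congr fun y hy => he' y hy).trans hf.img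
  refine ⟨f', Auto.of_mem hf' fun y hy => hf'.mem_normalizer Subgroup.le_normalizer himg hy hy, he', ?_⟩
  refine h.small.cent.le (Subgroup.mem_centralizer_iff.mpr fun y hy => ?_)
  obtain ⟨e, he, rfl⟩ := hf.surj hy
  have hge : g * e * g⁻¹ ∈ E := (Subgroup.mem_normalizer_iff.mp hgN e).mp he
  have h1 : f' g * f e * (f' g)⁻¹ = g * f e * g⁻¹ := by
    rw [← hcom e he, ← he' _ hge, ← he' e he, hf'.map_mul (mul_mem hgN (Subgroup.le_normalizer he)) (inv_mem hgN),
      hf'.map_mul hgN (Subgroup.le_normalizer he), hf'.map_inv hgN]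
  calc f e * (g⁻¹ * f' g) = g⁻¹ * (g * f e * g⁻¹) * f' g := by group
    _ = g⁻¹ * (f' g * f e * (f' g)⁻¹) * f' g := by rw [h1]
    _ = g⁻¹ * f' g * f e := by group

/-- A normal abelian subgroup of order `p ^ 3` is invariant, as it is not conjugate to `E`. -/
theorem Ess.image_le (h : Ess F p n E) {K : Subgroup S} [K.Normal] (hKc : Nat.card K = p ^ 3)
    (hK : ∀ a ∈ K, ∀ b ∈ K, Commute a b) {C : Subgroup S} (hCE : C ≤ E) (hCK : C ≤ K)
    (hC : Nat.card C = p ^ 2) {e : S} (he : e ∈ E) (heK : e ∉ K) (hKe : ¬ ∀ k ∈ K, Commute e k)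
    (hmod : ∀ k ∈ K, ⁅e, k⁆ ∈ C)
    (hy : ∀ k ∈ K, ∃ y : S, (∀ c ∈ C, y * c * y⁻¹ ∈ C) ∧ ⁅y, e⁆⁻¹ * k ∈ C)
    {φ : ↥S → ↥S} (hφ : Auto F (Subgroup.zpowers e ⊔ K) φ) : ∀ x ∈ K, φ x ∈ K := by
  have hpp : p.Prime := Fact.out
  set W := Subgroup.zpowers e ⊔ K with hWdef
  have hord : orderOf e = p := orderOf_eq_prime (h.small.pow e he) fun h0 => heK (h0 ▸ one_mem K)
  have hKW : K ≤ W := le_sup_right
  let A : Subgroup S :=
    { carrier := φ '' K
      one_mem' := ⟨1, one_mem _, hφ.gfn.map_one⟩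
      mul_mem' := by
        rintro _ _ ⟨a, ha, rfl⟩ ⟨b, hb, rfl⟩
        exact ⟨a * b, mul_mem ha hb, hφ.gfn.map_mul (hKW ha) (hKW hb)⟩
      inv_mem' := by
        rintro _ ⟨a, ha, rfl⟩
        exact ⟨a⁻¹, inv_mem ha, hφ.gfn.map_inv (hKW ha)⟩ }
  have hAW : A ≤ W := by rintro _ ⟨a, ha, rfl⟩; exact hφ.mem (hKW ha)
  have hAc : Nat.card A = p ^ 3 := by
    rw [← hKc, ← (hφ.gfn.mono hKW).card_image, ← Nat.card_coe_set_eq]; rfl
  have hAcomm : ∀ a ∈ A, ∀ b ∈ A, Commute a b := by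
    rintro _ ⟨a, ha, rfl⟩ _ ⟨b, hb, rfl⟩
    rw [Commute, SemiconjBy, ← hφ.gfn.map_mul (hKW ha) (hKW hb), ← hφ.gfn.map_mul (hKW hb) (hKW ha),
      (hK a ha b hb).eq]
  intro x hx
  by_contra hxK
  have hCW : ∀ c ∈ C, ∀ w ∈ W, Commute c w := fun c hc w hw => by
    have hle : W ≤ Subgroup.centralizer {c} := sup_le
      (Subgroup.zpowers_le.mpr (Subgroup.mem_centralizer_singleton_iff.mpr (h.small.comm he (hCE hc)).eq))
      fun k hk => Subgroup.mem_centralizer_singleton_iff.mpr (hK k hk c (hCK hc)).eq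
    exact (Subgroup.mem_centralizer_singleton_iff.mp (hle hw)).symm
  have hWc : Nat.card W ≤ p ^ 4 := by
    have h1 := card_mul_of_normal (Subgroup.zpowers e) K
    rw [Nat.card_zpowers, hord, hKc, ← pow_succ'] at h1
    rw [h1]; exact Nat.le_mul_of_pos_right _ Nat.card_pos
  have hCA : C ≤ A := by
    by_contra hCA
    have hlt : A < A ⊔ C := lt_of_le_of_ne le_sup_left fun h0 => hCA (h0 ▸ le_sup_right)
    have h1 := CfsgLib.Fusion.MaxClass.mul_card_le_of_lt h.isP hlt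
    rw [hAc, ← pow_succ'] at h1
    have heq : A ⊔ C = W := Subgroup.eq_of_le_of_card_ge (sup_le hAW (hCK.trans hKW)) (hWc.trans h1)
    refine hKe fun k hk => ?_
    have hcomm : ∀ a ∈ A ⊔ C, ∀ b ∈ A ⊔ C, Commute a b := by
      have hgen : ∀ a ∈ A ⊔ C, ∀ b ∈ A, Commute a b := fun a ha b hb =>
        Subgroup.mem_centralizer_singleton_iff.mp ((sup_le (fun z hz => Subgroup.mem_centralizer_singleton_iff.mpr
          (hAcomm z hz b hb).eq) fun z hz => Subgroup.mem_centralizer_singleton_iff.mpr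
          (hCW z hz b (hAW hb)).eq : A ⊔ C ≤ Subgroup.centralizer {b}) ha)
      intro a ha b hb
      exact Subgroup.mem_centralizer_singleton_iff.mp ((sup_le (fun z hz => Subgroup.mem_centralizer_singleton_iff.mpr
        (hgen a ha z hz).symm.eq) fun z hz => Subgroup.mem_centralizer_singleton_iff.mpr
        (hCW z hz a (heq.le ha)).eq : A ⊔ C ≤ Subgroup.centralizer {a}) hb) |>.symm
    exact hcomm e (heq.ge (Subgroup.mem_sup_left (Subgroup.mem_zpowers e))) k (heq.ge (hKW hk))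
  obtain ⟨u, ⟨i, rfl⟩, k0, hk0, hxeq⟩ :=
    Subgroup.mem_sup_of_normal_right.mp (hAW ⟨x, hx, rfl⟩ : φ x ∈ W)
  dsimp only [] at hxeq
  have hei : e ^ i ≠ 1 := fun h0 => hxK (by rw [← hxeq, h0, one_mul]; exact hk0)
  have hzz : Subgroup.zpowers (e ^ i) = Subgroup.zpowers e := by
    refine Subgroup.eq_of_le_of_card_ge (Subgroup.zpowers_le.mpr (zpow_mem (Subgroup.mem_zpowers e) i)) ?_
    rw [Nat.card_zpowers, Nat.card_zpowers, hord, orderOf_eq_prime (h.small.pow _ (zpow_mem he i)) hei]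
  obtain ⟨m, hm⟩ := hzz.ge (Subgroup.mem_zpowers e)
  dsimp only [] at hm
  have hk : e⁻¹ * φ x ^ m ∈ K := by
    rw [← QuotientGroup.eq_one_iff, ← QuotientGroup.mk'_apply, _root_.map_mul, _root_.map_inv, _root_.map_zpow,
      ← hxeq, _root_.map_mul, show QuotientGroup.mk' K k0 = 1 from (QuotientGroup.eq_one_iff _).mpr hk0, mul_one,
      ← _root_.map_zpow, hm, inv_mul_cancel]
  obtain ⟨y, hyC, hyk⟩ := hy _ hk
  set k := e⁻¹ * φ x ^ m with hkdef
  have ha : e * k ∈ A := by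
    rw [hkdef, mul_inv_cancel_left]; exact zpow_mem (show φ x ∈ A from ⟨x, hx, rfl⟩) m
  have hc2 : ⁅k, e⁆ ∈ C := by rw [← commutatorElement_inv]; exact inv_mem (hmod k hk)
  have hc1 : k⁻¹ * ⁅y, e⁆ ∈ C := by
    have := inv_mem hyk
    rwa [mul_inv_rev, inv_inv] at this
  have hye : y * e * y⁻¹ ∈ A := by
    have hew : e ∈ W := Subgroup.mem_sup_left (Subgroup.mem_zpowers e)
    have h1 : (e * k)⁻¹ * ⁅k, e⁆ * (e * k) = ⁅k, e⁆ := by
      rw [mul_assoc, (hCW _ hc2 _ (mul_mem hew (hKW hk))).eq, inv_mul_cancel_left]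
    have h2 : y * e * y⁻¹ = e * k * ⁅k, e⁆ * (k⁻¹ * ⁅y, e⁆) := by
      calc y * e * y⁻¹ = k * ((k⁻¹ * ⁅y, e⁆) * e) := by simp only [commutatorElement_def]; group
        _ = k * (e * (k⁻¹ * ⁅y, e⁆)) := by rw [(hCW _ hc1 e hew).eq]
        _ = e * k * ((e * k)⁻¹ * ⁅k, e⁆ * (e * k)) * (k⁻¹ * ⁅y, e⁆) := by
              simp only [commutatorElement_def]; group
        _ = _ := by rw [h1]
    rw [h2]
    exact mul_mem (mul_mem ha (hCA hc2)) (hCA hc1)
  have hEgen : Subgroup.zpowers e ⊔ C = E := by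
    refine Subgroup.eq_of_le_of_card_ge (sup_le (Subgroup.zpowers_le.mpr he) hCE) ?_
    have h1 := CfsgLib.Fusion.MaxClass.mul_card_le_of_lt h.isP (H := C) (K := Subgroup.zpowers e ⊔ C)
      (lt_of_le_of_ne le_sup_right fun h0 => heK (hCK (h0.ge (Subgroup.mem_sup_left (Subgroup.mem_zpowers e)))))
    rw [hC, ← pow_succ'] at h1
    rwa [h.small.card]
  have hψ : ∀ z ∈ E, y * z * y⁻¹ ∈ A := by
    have hle : E ≤ A.comap (MulAut.conj y).toMonoidHom := by
      rw [← hEgen]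
      exact sup_le (Subgroup.zpowers_le.mpr hye) fun c hc => hCA (hyC c hc)
    exact fun z hz => hle hz
  have hconjE : GConj F E A := (gfn_conj E y).gconj ((gfn_conj (F := F) E y).image_eq hψ (by rw [hAc, h.small.card]))
  have hconjK : GConj F K A := (hφ.gfn.mono hKW).gconj rfl
  have h1 := gconj_normalizer_le h.ess.2.1 (Fusion.isConj_trans hconjE (Fusion.isConj_symm hconjK))
  rw [Subgroup.normalizer_eq_top, Subgroup.card_top, h.mc.card, h.small.norm] at h1
  have h5 := h.five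
  exact absurd ((Nat.pow_le_pow_iff_right hpp.one_lt).mp h1) (by omega)

end CfsgLib.MaxClass94
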