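import Cfsg.Agent.Lib.MaxClass94.Binom

/-!
# Self-centralizing subgroups of order `p ^ 3` with normalizer of order `p ^ 4`
-/

set_option autoImplicit false
set_option linter.style.haveILetI false

namespace CfsgLib.MaxClass94

open Subgroup
open scoped commutatorElement

variable {G : Type*} [Group G] [Finite G] {p n : ℕ} [Fact p.Prime]

/-- The hypotheses on a small self-centralizing subgroup `H`. -/
structure Small (H : Subgroup G) (p : ℕ) : Prop where
  card : Nat.card H = p ^ 3
  pow : ∀ x ∈ H, x ^ p = 1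
  cent : centralizer (H : Set G) = H
  norm : Nat.card (normalizer (H : Set G)) = p ^ 4

variable {H : Subgroup G}

omit [Finite G] [Fact p.Prime] in
theorem Small.comm (hH : Small H p) {a b : G} (ha : a ∈ H) (hb : b ∈ H) : Commute a b :=
  (mem_centralizer_iff.mp (hH.cent.ge hb)) a ha

omit [Finite G] in
theorem Small.le_normalizer (hH : Small H p) : H < normalizer (H : Set G) := by
  refine lt_of_le_of_ne Subgroup.le_normalizer fun he => ?_
  have := hH.norm
  rw [← he, hH.card] at this
  exact absurd (Nat.pow_right_injective (Fact.out : p.Prime).two_le this) (by omega)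

/-- An element of `H` which is not central in the normalizer has centralizer `H`. -/
theorem Small.centralizer_eq (h : MC G p n) (hH : Small H p) {e : G} (he : e ∈ H)
    (hne : ¬ ∀ g ∈ normalizer (H : Set G), Commute g e) {g : G} : Commute g e ↔ g ∈ H := by
  refine ⟨fun hg => ?_, fun hg => hH.comm hg he⟩
  by_contra hgH
  haveI := h.isPGroup.isNilpotent
  have hle : H ≤ centralizer {e} := fun x hx => mem_centralizer_singleton_iff.mpr (hH.comm hx he).eq
  have hne' : H.subgroupOf (centralizer {e}) ≠ ⊤ := fun ht => hgH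
    (Subgroup.subgroupOf_eq_top.mp ht (mem_centralizer_singleton_iff.mpr hg.eq))
  obtain ⟨⟨x, hxe⟩, hxn, hxH⟩ := SetLike.exists_of_lt
    ((Group.normalizerCondition_of_isNilpotent (G := centralizer ({e} : Set G))) _ hne'.lt_top)
  have hxN : x ∈ normalizer (H : Set G) := by
    rw [mem_normalizer_iff]
    intro y
    constructor
    · intro hy
      exact mem_subgroupOf.mp ((mem_normalizer_iff.mp hxn ⟨y, hle hy⟩).mp (mem_subgroupOf.mpr hy))
    · intro hy
      have hy' : y ∈ centralizer {e} := by
        have := mul_mem (mul_mem (inv_mem hxe) (hle hy)) hxe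
        simpa [mul_assoc] using this
      exact mem_subgroupOf.mp ((mem_normalizer_iff.mp hxn ⟨y, hy'⟩).mpr (mem_subgroupOf.mpr hy))
  have hlt' : H < centralizer {e} ⊓ normalizer (H : Set G) :=
    lt_of_le_of_ne (le_inf hle Subgroup.le_normalizer) fun he' =>
      hxH (mem_subgroupOf.mpr (he'.ge ⟨hxe, hxN⟩))
  have h1 := CfsgLib.Fusion.MaxClass.mul_card_le_of_lt h.isPGroup hlt'
  rw [hH.card, ← pow_succ'] at h1
  have h2 : centralizer {e} ⊓ normalizer (H : Set G) = normalizer (H : Set G) :=
    Subgroup.eq_of_le_of_card_ge inf_le_right (hH.norm ▸ h1)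
  exact hne fun y hy => mem_centralizer_singleton_iff.mp (h2.ge hy).1

/-- The elements moved by `e` into the layer `i`. -/
def dset (e : G) (i : ℕ) : Subgroup G :=
  (centralizer {QuotientGroup.mk' (lay G i) e}).comap (QuotientGroup.mk' (lay G i))

omit [Finite G] in
theorem mem_dset {e g : G} {i : ℕ} : g ∈ dset e i ↔ ⁅g, e⁆ ∈ lay G i := by
  rw [dset, mem_comap, mem_centralizer_singleton_iff, ← commutatorElement_eq_one_iff_mul_comm,
    ← map_commutatorElement]
  exact QuotientGroup.eq_one_iff _

omit [Finite G] in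
theorem mem_dset' {e g : G} {i : ℕ} : g ∈ dset e i ↔ ⁅e, g⁆ ∈ lay G i := by
  rw [mem_dset, ← commutatorElement_inv g e, inv_mem_iff]

omit [Finite G] in
theorem dset_anti (e : G) {i k : ℕ} (hik : i ≤ k) : dset e k ≤ dset e i := fun g hg =>
  mem_dset.mpr (lay_anti hik (mem_dset.mp hg))

omit [Finite G] in
theorem lay_le_dset (e : G) {i k : ℕ} (hi : i ≤ k + 1) (hk : 1 ≤ k) : lay G k ≤ dset e i := fun _ hg =>
  mem_dset'.mpr (lay_anti hi (comm_mem' hk e hg))

theorem card_dset_step (h : MC G p n) (e : G) {i : ℕ} (h2 : 2 ≤ i) (hi : i + 1 ≤ n) :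
    Nat.card (dset e i) ≤ p * Nat.card (dset e (i + 1)) := by
  let π := QuotientGroup.mk' (lay G (i + 1))
  let f : dset e i →* G ⧸ lay G (i + 1) :=
    { toFun := fun g => π ⁅(g : G), e⁆
      map_one' := by simp
      map_mul' := fun a b => by
        rw [Subgroup.coe_mul, show ⁅(a : G) * b, e⁆ = a * ⁅(b : G), e⁆ * (a : G)⁻¹ * ⁅(a : G), e⁆ by
          simp only [commutatorElement_def]; group]
        have hb := mk_central (m := i + 1) (a := i) (by omega) le_rfl (mem_dset.mp b.2) (π a)
        rw [map_mul, map_mul, map_mul, map_inv, hb.eq, mul_inv_cancel_right]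
        exact (mk_central (m := i + 1) (a := i) (by omega) le_rfl (mem_dset.mp a.2) _).eq }
  have hker : f.ker = (dset e (i + 1)).subgroupOf (dset e i) := by
    ext g
    rw [MonoidHom.mem_ker, mem_subgroupOf, mem_dset]
    exact QuotientGroup.eq_one_iff _
  have hrange : Nat.card f.range ≤ p := by
    have hle : f.range ≤ (lay G i).map π := by
      rintro _ ⟨g, rfl⟩; exact mem_map_of_mem _ (mem_dset.mp g.2)
    refine (Subgroup.card_le_of_le hle).trans ?_
    have h1 := Subgroup.card_mul_index ((π.comp (lay G i).subtype).ker)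
    rw [Subgroup.index_ker, MonoidHom.range_comp, Subgroup.range_subtype, h.card_lay h2 (by omega),
      ← MonoidHom.comap_ker, QuotientGroup.ker_mk',
      show Nat.card ((lay G (i + 1)).comap (lay G i).subtype) = Nat.card (lay G (i + 1)) from
        Nat.card_congr (Subgroup.subgroupOfEquivOfLe (lay_anti (Nat.le_succ i))).toEquiv,
      h.card_lay (by omega) hi, show n - i = n - (i + 1) + 1 by omega, pow_succ] at h1
    exact (Nat.eq_of_mul_eq_mul_left (pow_pos (Fact.out : p.Prime).pos _) h1).le
  have h1 := f.ker.card_mul_index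
  rw [Subgroup.index_ker, hker,
    Nat.card_congr (Subgroup.subgroupOfEquivOfLe (dset_anti e (Nat.le_succ i))).toEquiv] at h1
  rw [← h1, mul_comm p]
  exact Nat.mul_le_mul_left _ hrange

/-- A surjective step. -/
theorem dset_step_surj (h : MC G p n) (e : G) {i : ℕ} (h2 : 2 ≤ i)
    (hlt : dset e (i + 1) < dset e i) {z : G} (hz : z ∈ lay G i) :
    ∃ g : G, z * ⁅g, e⁆⁻¹ ∈ lay G (i + 1) := by
  let π := QuotientGroup.mk' (lay G (i + 1))
  obtain ⟨g, hg, hg'⟩ := SetLike.exists_of_lt hlt
  have hgi := mem_dset.mp hg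
  have hgn : ⁅g, e⁆ ∉ lay G (i + 1) := fun hc => hg' (mem_dset.mpr hc)
  obtain ⟨a, ⟨c, rfl⟩, w, hw, rfl⟩ :=
    Subgroup.mem_sup_of_normal_right.mp ((h.sup_zpowers h2 hgi hgn).ge hz)
  refine ⟨g ^ c, (QuotientGroup.eq_one_iff _).mp ?_⟩
  change π (⁅g, e⁆ ^ c * w * ⁅g ^ c, e⁆⁻¹) = 1
  rw [map_mul, map_mul, map_inv, mk_eq_one hw, mul_one, map_zpow, map_commutatorElement, map_commutatorElement,
    map_zpow, commutator_zpow_left (X := ⁅π g, π e⁆) (fun x => by
      rw [← map_commutatorElement]; exact mk_central (by omega) le_rfl hgi x) rfl, mul_inv_cancel]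

omit [Fact p.Prime] in
theorem card_mul_of_normal (A B : Subgroup G) [B.Normal] :
    Nat.card A * Nat.card B = Nat.card ↥(A ⊔ B) * Nat.card ↥(A ⊓ B) := by
  have e := Nat.card_congr (QuotientGroup.quotientInfEquivProdNormalQuotient A B).toEquiv
  have h1 := Subgroup.card_eq_card_quotient_mul_card_subgroup (B.subgroupOf A)
  have h2 := Subgroup.card_eq_card_quotient_mul_card_subgroup (B.subgroupOf (A ⊔ B))
  rw [Nat.card_congr (Subgroup.subgroupOfEquivOfLe (le_sup_right : B ≤ A ⊔ B)).toEquiv] at h2
  have h3 : Nat.card (B.subgroupOf A) = Nat.card ↥(A ⊓ B) := by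
    rw [← Subgroup.inf_subgroupOf_left B A, inf_comm A B]
    exact Nat.card_congr (Subgroup.subgroupOfEquivOfLe inf_le_right).toEquiv
  rw [h3] at h1
  rw [h1, h2, e]; ring

theorem eq_top_of_sup_lay_two (h : MC G p n) {A : Subgroup G} (hA : A ⊔ lay G 2 = ⊤) : A = ⊤ := by
  haveI := h.isPGroup.isNilpotent
  refine frattini_nongenerating (eq_top_iff.mpr ?_)
  rw [← hA, lay_two]
  exact sup_le_sup_left (CfsgLib.PGroup.commutator_le_frattini h.isPGroup) A

/-- Conjugating `e` into `H` normalizes `H`. -/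
theorem mem_normalizer_of_conj {e g : G} (hC : ∀ x, Commute x e ↔ x ∈ H)
    (hcomm : ∀ {a b : G}, a ∈ H → b ∈ H → Commute a b) (hg : g * e * g⁻¹ ∈ H) :
    g ∈ normalizer (H : Set G) := by
  have hle : H.map (MulAut.conj g⁻¹).toMonoidHom ≤ H := by
    rintro _ ⟨x, hx, rfl⟩
    rw [← hC]
    have h1 := (hcomm hx hg).map (MulAut.conj g⁻¹).toMonoidHom
    simpa [mul_assoc] using h1
  have heq : H.map (MulAut.conj g⁻¹).toMonoidHom = H := Subgroup.eq_of_le_of_card_ge hle
    (by rw [Subgroup.card_map_of_injective (MulAut.conj g⁻¹).injective])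
  refine inv_mem_iff.mp (Subgroup.mem_normalizer_iff.mpr fun y => ⟨fun hy => ?_, fun hy => ?_⟩)
  · exact heq ▸ ⟨y, hy, rfl⟩
  · obtain ⟨z, hz, hzy⟩ := heq.ge hy
    exact ((MulAut.conj g⁻¹).injective hzy) ▸ hz

/-- The shape of a small self-centralizing subgroup. -/
theorem Small.shape (h : MC G p n) (hp : 5 ≤ p) (h5 : 5 ≤ n) (hH : Small H p) :
    ∃ e u : G, e ∈ H ∧ Pair e u ∧ (∀ g, Commute g e ↔ g ∈ H) ∧
      ((Even n ∧ 6 ≤ n ∧ lay G (n - 2) ≤ H ∧ (∀ k, 2 ≤ k → k + 3 ≤ n → NF e k) ∧ Fail e (n - 2)) ∨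
       (n = 5 ∧ lay G 3 ≤ H ∧ Fail e 2 ∧ Fail e 3) ∨
       (n = 6 ∧ H ⊓ lay G 2 ≤ lay G 3 ∧ H ⊓ lay G 4 = lay G 5 ∧ Fail e 2 ∧ Fail e 3 ∧ NF e 4 ∧
        ∃ x ∈ lay G 2, ⁅e, x⁆ ∉ lay G 5)) := by
  have hpp : p.Prime := Fact.out
  haveI := h.isPGroup.isNilpotent
  have hN5 : p ^ 4 < p ^ n := Nat.pow_lt_pow_right hpp.one_lt (by omega)
  -- the subgroup meets the derived group in order at least `p²`
  have hHtop : H ≠ ⊤ := fun ht => by
    have := hH.card
    rw [ht, Subgroup.card_top, h.card] at this
    exact absurd (Nat.pow_right_injective hpp.two_le this) (by omega)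
  have hfrat : H ⊔ lay G 2 ≠ ⊤ := by
    intro ht
    apply hHtop
    refine CfsgLib.MaxClass94.eq_top_of_sup_lay_two h ht
  have hmono := fun {a b : ℕ} (hab : a ≤ b) => Subgroup.card_le_of_le (inf_le_inf_left H (lay_anti (G := G) hab))
  have hA2 : p ^ 2 ≤ Nat.card ↥(H ⊓ lay G 2) := by
    have h1 := CfsgLib.Fusion.MaxClass.mul_card_le_of_lt h.isPGroup hfrat.lt_top
    rw [Subgroup.card_top, h.card] at h1
    have h2 := card_mul_of_normal H (lay G 2)
    rw [hH.card, h.card_lay le_rfl (by omega)] at h2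
    have h3 : p * (p ^ 3 * p ^ (n - 2)) ≤ Nat.card ↥(H ⊓ lay G 2) * p ^ n := by
      calc p * (p ^ 3 * p ^ (n - 2)) = Nat.card ↥(H ⊓ lay G 2) * (p * Nat.card ↥(H ⊔ lay G 2)) := by
            rw [h2]; ring
        _ ≤ _ := Nat.mul_le_mul_left _ h1
    rw [← pow_add, ← pow_succ', show 3 + (n - 2) + 1 = 2 + n by omega, pow_add] at h3
    exact Nat.le_of_mul_le_mul_right h3 (pow_pos hpp.pos _)
  -- the centre of the group lies in `H`
  have hZ : lay G (n - 1) ≤ H := by
    intro z hz
    rw [← hH.cent, mem_centralizer_iff]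
    intro x _
    refine commutatorElement_eq_one_iff_mul_comm.mp (Subgroup.mem_bot.mp (h.bot (i := n - 1 + 1) (by omega) ▸ ?_))
    exact comm_mem' (by omega) x hz
  -- the key counting facts for an element with centralizer `H`
  have key : ∀ e ∈ H, (∀ g, Commute g e ↔ g ∈ H) → ∃ q, 2 ≤ q ∧ q < n ∧ dset e q = dset e (q + 1) ∧
      (∀ i, 2 ≤ i → i ≤ n → Nat.card (dset e i) = if i ≤ q then p ^ (n - i + 2) else p ^ (n - i + 3)) ∧
      (∀ r, 2 ≤ r → p ^ 2 ≤ Nat.card ↥(H ⊓ lay G r) → r ≤ q) := by
    intro e he hC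
    have hDn : dset e n = H := by
      ext g
      rw [mem_dset, h.bot le_rfl, Subgroup.mem_bot, commutatorElement_eq_one_iff_mul_comm]
      exact hC g
    have hD2 : Nat.card (dset e 2) = p ^ n := by
      rw [show dset e 2 = ⊤ from eq_top_iff.mpr fun g _ => mem_dset.mpr (comm_mem (a := 1) (b := 1) le_rfl le_rfl
        (Subgroup.mem_top g) (Subgroup.mem_top e)), Subgroup.card_top, h.card]
    have hdown : ∀ d, 2 + d ≤ n → Nat.card (dset e (n - d)) ≤ p ^ (3 + d) := by
      intro d
      induction d with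
      | zero => intro _; rw [Nat.sub_zero, hDn, hH.card]
      | succ d ih =>
        intro hd
        refine (card_dset_step h e (by omega) (by omega)).trans ?_
        rw [show 3 + (d + 1) = 3 + d + 1 by omega, pow_succ', show n - (d + 1) + 1 = n - d by omega]
        exact Nat.mul_le_mul_left _ (ih (by omega))
    obtain ⟨q, hq2, hqn, hq⟩ : ∃ q, 2 ≤ q ∧ q < n ∧ dset e q = dset e (q + 1) := by
      by_contra! hc
      have hall : ∀ d, 2 + d ≤ n → p ^ d * Nat.card (dset e (2 + d)) ≤ p ^ n := by
        intro d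
        induction d with
        | zero => intro _; rw [pow_zero, one_mul, hD2]
        | succ d ih =>
          intro hd
          refine le_trans ?_ (ih (by omega))
          rw [pow_succ, mul_assoc]
          exact Nat.mul_le_mul_left _ (CfsgLib.Fusion.MaxClass.mul_card_le_of_lt h.isPGroup
            (lt_of_le_of_ne (dset_anti e (by omega)) fun he' => hc (2 + d) (by omega) (by omega) he'.symm))
      have h1 := hall (n - 2) (by omega)
      rw [show 2 + (n - 2) = n by omega, hDn, hH.card, ← pow_add] at h1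
      exact absurd ((Nat.pow_le_pow_iff_right hpp.one_lt).mp h1) (by omega)
    have hup : ∀ i, 2 ≤ i → i ≤ n → p ^ (n - i + 2) ≤ Nat.card (dset e i) := by
      intro i hi
      induction i, hi using Nat.le_induction with
      | base => intro _; rw [hD2, show n - 2 + 2 = n by omega]
      | succ i hi ih =>
        intro hin
        have h1 := (ih (by omega)).trans (card_dset_step h e hi hin)
        rw [show n - i + 2 = n - (i + 1) + 2 + 1 by omega, pow_succ'] at h1
        exact Nat.le_of_mul_le_mul_left h1 hpp.pos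
    -- exact orders
    have heq : ∀ i, 2 ≤ i → i ≤ n → Nat.card (dset e i) = if i ≤ q then p ^ (n - i + 2) else p ^ (n - i + 3) := by
      intro i hi hin
      split_ifs with hiq
      · refine le_antisymm ?_ (hup i hi hin)
        have hge : ∀ d, i + d ≤ q → Nat.card (dset e i) ≤ p ^ d * Nat.card (dset e (i + d)) := by
          intro d
          induction d with
          | zero => intro _; simp
          | succ d ih =>
            intro hd
            refine (ih (by omega)).trans ?_
            rw [pow_succ, mul_assoc]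
            exact Nat.mul_le_mul_left _ (card_dset_step h e (by omega) (by omega))
        refine (hge (q - i) (by omega)).trans ?_
        rw [show i + (q - i) = q by omega, hq]
        have h1 := hdown (n - (q + 1)) (by omega)
        rw [show n - (n - (q + 1)) = q + 1 by omega] at h1
        refine (Nat.mul_le_mul_left _ h1).trans ?_
        rw [← pow_add]
        exact Nat.pow_le_pow_right hpp.pos (by omega)
      · refine le_antisymm ?_ ?_
        · have h1 := hdown (n - i) (by omega)
          rw [show n - (n - i) = i by omega] at h1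
          exact h1.trans (Nat.pow_le_pow_right hpp.pos (by omega))
        · have h1 := hup q hq2 hqn.le
          rw [hq] at h1
          have hge : ∀ d, q + 1 + d ≤ i → Nat.card (dset e (q + 1)) ≤ p ^ d * Nat.card (dset e (q + 1 + d)) := by
            intro d
            induction d with
            | zero => intro _; simp
            | succ d ih =>
              intro hd
              refine (ih (by omega)).trans ?_
              rw [pow_succ, mul_assoc]
              exact Nat.mul_le_mul_left _ (card_dset_step h e (by omega) (by omega))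
          have h2 := h1.trans (hge (i - (q + 1)) (by omega))
          rw [show q + 1 + (i - (q + 1)) = i by omega,
            show n - q + 2 = i - (q + 1) + (n - i + 3) by omega, pow_add] at h2
          exact Nat.le_of_mul_le_mul_left h2 (pow_pos hpp.pos _)
    refine ⟨q, hq2, hqn, hq, heq, fun r hr2 hr => ?_⟩
    by_contra hqr
    rw [not_le] at hqr
    have hlt : ∀ i, r ≤ i → i + 1 ≤ n → dset e (i + 1) < dset e i := by
      intro i hri hin
      refine lt_of_le_of_ne (dset_anti e (Nat.le_succ i)) fun he' => ?_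
      have h1 := heq i (by omega) (by omega)
      have h2 := heq (i + 1) (by omega) hin
      rw [if_neg (by omega)] at h1 h2
      rw [he', h1] at h2
      exact absurd (Nat.pow_right_injective hpp.two_le h2) (by omega)
    have hall : ∀ d i, i + d = n → r ≤ i → ∀ z ∈ lay G i, ∃ g : G, ⁅g, e⁆ = z := by
      intro d
      induction d with
      | zero =>
        intro i hi _ z hz
        rw [h.bot (by omega), Subgroup.mem_bot] at hz
        exact ⟨1, by rw [hz, commutatorElement_one_left]⟩
      | succ d ih =>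
        intro i hi hri z hz
        obtain ⟨g, hg⟩ := dset_step_surj h e (by omega) (hlt i hri (by omega)) hz
        obtain ⟨k, hk⟩ := ih (i + 1) (by omega) (by omega) _ ((lay_normal (i + 1)).conj_mem' _ hg g)
        refine ⟨g * k, ?_⟩
        rw [show ⁅g * k, e⁆ = g * ⁅k, e⁆ * g⁻¹ * ⁅g, e⁆ by simp only [commutatorElement_def]; group, hk]
        group
    let X : Subgroup G := H ⊓ lay G r
    have hrn : r ≤ n := by
      by_contra hc
      rw [h.bot (by omega), inf_bot_eq, Subgroup.card_bot] at hr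
      exact absurd (Nat.one_lt_pow two_ne_zero hpp.one_lt) (not_lt.mpr hr)
    choose f hf using fun x : X => hall (n - r) r (by omega) le_rfl (x : G) x.2.2
    have hfN : ∀ (x : X) (y : H), f x * (y : G) ∈ normalizer (H : Set G) := by
      intro x y
      refine mul_mem ?_ (Subgroup.le_normalizer y.2)
      have hfe : f x * e * (f x)⁻¹ ∈ H := by
        rw [show f x * e * (f x)⁻¹ = ⁅f x, e⁆ * e by simp [commutatorElement_def], hf]
        exact mul_mem x.2.1 he
      refine CfsgLib.MaxClass94.mem_normalizer_of_conj hC hH.comm hfe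
    have hinj : Function.Injective fun xy : X × H => (⟨f xy.1 * (xy.2 : G), hfN xy.1 xy.2⟩ :
        normalizer (H : Set G)) := by
      rintro ⟨x, y⟩ ⟨x', y'⟩ heq'
      have h1 : f x * (y : G) = f x' * (y' : G) := congrArg Subtype.val heq'
      have hcc : ∀ (z : X) (w : H), ⁅f z * (w : G), e⁆ = (z : G) := by
        intro z w
        rw [show ⁅f z * (w : G), e⁆ = f z * ⁅(w : G), e⁆ * (f z)⁻¹ * ⁅f z, e⁆ by
          simp only [commutatorElement_def]; group,
          commutatorElement_eq_one_iff_mul_comm.mpr (hH.comm w.2 he), hf, mul_one, mul_inv_cancel, one_mul]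
      have hx : x = x' := Subtype.ext (by rw [← hcc x y, h1, hcc x' y'])
      subst hx
      rw [Subtype.ext (mul_left_cancel h1)]
    have hbig := Nat.card_le_card_of_injective _ hinj
    rw [Nat.card_prod, hH.norm, hH.card] at hbig
    have h9 : p ^ 2 * p ^ 3 ≤ p ^ 4 := (Nat.mul_le_mul_right _ hr).trans hbig
    rw [← pow_add] at h9
    exact absurd ((Nat.pow_le_pow_iff_right hpp.one_lt).mp h9) (by omega)
  -- the choice of the element
  obtain ⟨e, heH, hC, he2⟩ : ∃ e ∈ H, (∀ g, Commute g e ↔ g ∈ H) ∧ e ∉ lay G 2 := by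
    let Z : Subgroup G := centralizer (normalizer (H : Set G) : Set G)
    have hcent : ∀ e ∈ H, e ∉ Z → ∀ g, Commute g e ↔ g ∈ H := fun e he heZ g =>
      hH.centralizer_eq h he fun hall => heZ (mem_centralizer_iff.mpr fun g hg => (hall g hg).eq)
    have hZne : ¬ H ≤ Z := by
      intro hle
      obtain ⟨g, hg, hgH⟩ := SetLike.exists_of_lt hH.le_normalizer
      refine hgH ?_
      rw [← hH.cent, mem_centralizer_iff]
      intro x hx
      exact ((mem_centralizer_iff.mp (hle hx)) g hg).symm
    by_contra! hc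
    have hin : ∀ x ∈ H, x ∈ Z ∨ x ∈ lay G 2 := fun x hx => or_iff_not_imp_left.mpr fun hz => hc x hx (hcent x hx hz)
    obtain ⟨e, heH, heZ⟩ := SetLike.not_le_iff_exists.mp hZne
    have hH2 : H ≤ lay G 2 := by
      intro x hx
      rcases hin x hx with hxZ | hx2
      · rcases hin (e * x) (mul_mem heH hx) with hz | hz
        · exact absurd (by simpa using mul_mem hz (inv_mem hxZ)) heZ
        · have := mul_mem (inv_mem ((hin e heH).resolve_left heZ)) hz
          rwa [inv_mul_cancel_left] at this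
      · exact hx2
    obtain ⟨q, hq2, hqn, -, hqc, hqr⟩ := key e heH (hcent e heH heZ)
    have hH3 : p ^ 2 ≤ Nat.card ↥(H ⊓ lay G 3) := by
      have h2 := card_mul_of_normal H (lay G 3)
      rw [hH.card, h.card_lay (by omega) (by omega)] at h2
      have h1 := Subgroup.card_le_of_le (show H ⊔ lay G 3 ≤ lay G 2 from sup_le hH2 (lay_anti (by omega)))
      rw [h.card_lay le_rfl (by omega)] at h1
      have h3 : p ^ 3 * p ^ (n - 3) ≤ Nat.card ↥(H ⊓ lay G 3) * p ^ (n - 2) :=
        h2 ▸ (mul_comm _ _).trans_le (Nat.mul_le_mul_left _ h1)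
      rw [← pow_add, show 3 + (n - 3) = 2 + (n - 2) by omega, pow_add] at h3
      exact Nat.le_of_mul_le_mul_right h3 (pow_pos hpp.pos _)
    have h3q := hqr 3 (by omega) hH3
    have h1 := hqc 3 (by omega) (by omega)
    rw [if_pos h3q, show dset e 3 = ⊤ from eq_top_iff.mpr fun g _ =>
      mem_dset.mpr (comm_mem (a := 1) (b := 2) le_rfl (by omega) (Subgroup.mem_top g) (hH2 heH)),
      Subgroup.card_top, h.card] at h1
    exact absurd (Nat.pow_right_injective hpp.two_le h1) (by omega)
  obtain ⟨u, hu⟩ : ∃ u, u ∉ Subgroup.zpowers e ⊔ lay G 2 := by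
    by_contra! hc
    refine hfrat (eq_top_iff.mpr fun x _ => (sup_le (c := H ⊔ lay G 2) ?_ le_sup_right) (hc x))
    exact (Subgroup.zpowers_le.mpr heH).trans le_sup_left
  have hpair : Pair e u := ⟨he2, hu⟩
  have hep : e ^ p = 1 := hH.pow e heH
  obtain ⟨q, hq2, hqn, hq, hqc, hqr⟩ := key e heH hC
  -- the intersection with the derived group
  have hA : Nat.card ↥(H ⊓ lay G 2) = p ^ 2 := by
    refine le_antisymm ?_ hA2
    have hlt : H ⊓ lay G 2 < H := lt_of_le_of_ne inf_le_left fun he' => he2 (he'.ge heH).2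
    have h1 := CfsgLib.Fusion.MaxClass.mul_card_le_of_lt h.isPGroup hlt
    rw [hH.card, pow_succ'] at h1
    exact Nat.le_of_mul_le_mul_left h1 hpp.pos
  classical
  obtain ⟨j, hj, hjmax⟩ : ∃ j, (2 ≤ j ∧ j ≤ n - 2 ∧ H ⊓ lay G 2 ≤ lay G j) ∧
      ∀ k, j < k → k ≤ n - 2 → ¬ H ⊓ lay G 2 ≤ lay G k := by
    let P := fun j => 2 ≤ j ∧ H ⊓ lay G 2 ≤ lay G j
    have hP2 : P 2 := ⟨le_rfl, inf_le_right⟩
    have hsp := Nat.findGreatest_spec (P := P) (n := n - 2) (by omega : 2 ≤ n - 2) hP2
    exact ⟨Nat.findGreatest P (n - 2), ⟨hsp.1, Nat.findGreatest_le _, hsp.2⟩, fun k hk hkn hle =>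
      Nat.findGreatest_is_greatest hk hkn ⟨by omega, hle⟩⟩
  obtain ⟨hj2, hjn, hjA⟩ := hj
  have hinfA : ∀ m, 2 ≤ m → m ≤ j → H ⊓ lay G m = H ⊓ lay G 2 := fun m h2 hm =>
    le_antisymm (inf_le_inf_left H (lay_anti h2)) (le_inf inf_le_left (hjA.trans (lay_anti hm)))
  have hinfZ : ∀ m, j < m → m + 1 ≤ n → H ⊓ lay G m = lay G (n - 1) := by
    intro m hm hmn
    refine (Subgroup.eq_of_le_of_card_ge (le_inf hZ (lay_anti (by omega))) ?_).symm
    rw [h.card_lay (by omega) (by omega), show n - (n - 1) = 1 by omega, pow_one]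
    have hlt : H ⊓ lay G m < H ⊓ lay G 2 := by
      refine lt_of_le_of_ne (inf_le_inf_left H (lay_anti (by omega))) fun he' => ?_
      rcases Nat.lt_or_ge (j + 1) (n - 1) with hjn' | hjn'
      · exact hjmax (j + 1) (by omega) (by omega) (he' ▸ (inf_le_right.trans (lay_anti hm)))
      · have h1 := Subgroup.card_le_of_le (inf_le_right : H ⊓ lay G m ≤ lay G m)
        rw [he', hA, h.card_lay (by omega) (by omega)] at h1
        exact absurd ((Nat.pow_le_pow_iff_right hpp.one_lt).mp h1) (by omega)
    have h1 := CfsgLib.Fusion.MaxClass.mul_card_le_of_lt h.isPGroup hlt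
    rw [hA, pow_two] at h1
    exact Nat.le_of_mul_le_mul_left h1 hpp.pos
  have hjq : j ≤ q := hqr j hj2 (by rw [hinfA j hj2 le_rfl, hA])
  have hsupD : ∀ i, 2 ≤ i → H ⊔ lay G (i - 1) ≤ dset e i := fun i hi =>
    sup_le (fun x hx => by
      rw [mem_dset, commutatorElement_eq_one_iff_mul_comm.mpr ((hC x).mpr hx).eq]; exact one_mem _)
      (lay_le_dset e (by omega) (by omega))
  have hcardS : ∀ m k, 2 ≤ m → m ≤ n → Nat.card ↥(H ⊓ lay G m) = p ^ k →
      p ^ k * Nat.card ↥(H ⊔ lay G m) = p ^ (3 + (n - m)) := fun m k h2 hm hk => by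
    rw [← hk, mul_comm, ← card_mul_of_normal, hH.card, h.card_lay h2 hm, ← pow_add]
  have hqj : q ≤ j + 1 := by
    by_contra hc
    rw [not_le] at hc
    have h1 := hcardS (j + 1) 1 (by omega) (by omega) (by
      rw [hinfZ (j + 1) (by omega) (by omega), h.card_lay (by omega) (by omega)]; congr 1; omega)
    have h2 := Subgroup.card_le_of_le (hsupD (j + 2) (by omega))
    rw [hqc (j + 2) (by omega) (by omega), if_pos (by omega), show j + 2 - 1 = j + 1 by omega] at h2
    have h3 : p ^ (3 + (n - (j + 1))) ≤ p ^ (1 + (n - (j + 2) + 2)) := by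
      rw [← h1, pow_add p 1]; exact Nat.mul_le_mul_left _ h2
    exact absurd ((Nat.pow_le_pow_iff_right hpp.one_lt).mp h3) (by omega)
  have hfailj : Fail e j := by
    obtain ⟨a, ha, ha'⟩ : ∃ a ∈ H ⊓ lay G j, a ∉ lay G (j + 1) := by
      by_contra! hc
      have h1 : H ⊓ lay G j ≤ H ⊓ lay G (j + 1) := le_inf inf_le_left hc
      have h2 := Subgroup.card_le_of_le h1
      rw [hinfA j hj2 le_rfl, hA, hinfZ (j + 1) (by omega) (by omega), h.card_lay (by omega) (by omega)] at h2
      exact absurd ((Nat.pow_le_pow_iff_right hpp.one_lt).mp h2) (by omega)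
    refine h.comm_layer hj2 ha.2 ha' ?_ fun z hz => comm_mem' (b := j + 1) (by omega) e hz
    rw [commutatorElement_eq_one_iff_mul_comm.mpr (hH.comm heH ha.1).eq]
    exact one_mem _
  have hnf : ∀ k, 2 ≤ k → k + 1 ≤ j → k + 2 ≤ q → NF e k := by
    intro k hk2 hkj hkq x hx hxe
    have hD : H ⊔ lay G (k + 1) = dset e (k + 2) := by
      refine Subgroup.eq_of_le_of_card_ge (by simpa using hsupD (k + 2) (by omega)) ?_
      have h1 := hcardS (k + 1) 2 (by omega) (by omega) (by rw [hinfA (k + 1) (by omega) hkj, hA])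
      rw [hqc (k + 2) (by omega) (by omega), if_pos hkq]
      refine Nat.le_of_mul_le_mul_left (c := p ^ 2) ?_ (pow_pos hpp.pos _)
      rw [h1, ← pow_add]
      exact Nat.pow_le_pow_right hpp.pos (by omega)
    obtain ⟨a, ha, b, hb, rfl⟩ := Subgroup.mem_sup_of_normal_right.mp (hD.ge (mem_dset'.mpr hxe))
    have hak : a ∈ lay G k := by
      have := mul_mem hx (inv_mem (lay_anti (Nat.le_succ k) hb))
      rwa [mul_inv_cancel_right] at this
    refine mul_mem ?_ hb
    exact lay_anti hkj (hjA ((hinfA k hk2 (by omega)).le ⟨ha, hak⟩))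
  have hnf' : j + 3 ≤ n → NF e (j + 1) := by
    intro hj3 x hx hxe
    have hD : H ⊔ lay G (j + 2) = dset e (j + 3) := by
      refine Subgroup.eq_of_le_of_card_ge (by simpa using hsupD (j + 3) (by omega)) ?_
      have h1 := hcardS (j + 2) 1 (by omega) (by omega) (by
        rw [hinfZ (j + 2) (by omega) (by omega), h.card_lay (by omega) (by omega)]; congr 1; omega)
      rw [hqc (j + 3) (by omega) (by omega), if_neg (by omega)]
      refine Nat.le_of_mul_le_mul_left (c := p ^ 1) ?_ (pow_pos hpp.pos _)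
      rw [h1, ← pow_add]
      exact Nat.pow_le_pow_right hpp.pos (by omega)
    obtain ⟨a, ha, b, hb, rfl⟩ := Subgroup.mem_sup_of_normal_right.mp (hD.ge (mem_dset'.mpr hxe))
    have hak : a ∈ lay G (j + 1) := by
      have := mul_mem hx (inv_mem (lay_anti (Nat.le_succ (j + 1)) hb))
      rwa [mul_inv_cancel_right] at this
    refine mul_mem ?_ hb
    exact lay_anti (show j + 1 + 1 ≤ n - 1 by omega) ((hinfZ (j + 1) (by omega) (by omega)).le ⟨ha, hak⟩)
  refine ⟨e, u, heH, hpair, hC, ?_⟩
  rcases Nat.lt_or_ge j q with hone | htwo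
  · -- one failure
    obtain rfl : q = j + 1 := by omega
    have hnfj : ∀ k, 2 ≤ k → k < j → NF e k := fun k h2 hk => hnf k h2 hk (by omega)
    have heven := first_failure_even h hpair hj2 (by omega) hnfj hfailj
    rcases Nat.lt_or_ge j (n - 2) with hlow | hhigh
    · have hdvd := single_failure_dvd h hpair hj2 (by omega) hnfj hfailj (hnf' (by omega))
      exfalso
      refine single_failure_power h hp hpair hep ?_ (by omega) hnfj hfailj
      obtain ⟨c, hc⟩ := heven
      rw [show j / 2 = c by omega] at hdvd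
      have := Nat.le_of_dvd (by omega) hdvd
      omega
    · obtain rfl : j = n - 2 := by omega
      obtain ⟨c, hc⟩ := heven
      refine Or.inl ⟨⟨c + 1, by omega⟩, by omega, ?_, fun k h2 hk => hnfj k h2 (by omega), hfailj⟩
      have hEq : H ⊓ lay G 2 = lay G (n - 2) := Subgroup.eq_of_le_of_card_ge hjA (by
        rw [hA, h.card_lay (by omega) (by omega)]; exact Nat.pow_le_pow_right hpp.pos (by omega))
      exact hEq ▸ inf_le_left
  · -- two failures
    obtain rfl : q = j := by omega
    have hj3 : 3 ≤ q := by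
      by_contra hc
      obtain rfl : q = 2 := by omega
      refine hpair.seq_two h ?_
      rw [seq_succ e u le_rfl]
      have : u ∈ dset e 3 := hq ▸ (mem_dset.mpr (comm_mem (a := 1) (b := 1) le_rfl le_rfl (Subgroup.mem_top u)
        (Subgroup.mem_top e)))
      exact mem_dset'.mp this
    have hfailJ : Fail e (q - 1) := fun x hx => by
      have h1 : x ∈ dset e (q + 1) := hq ▸ lay_le_dset e (by omega) (by omega) hx
      have := mem_dset'.mp h1
      rwa [show q - 1 + 2 = q + 1 by omega]
    have hnfJ : ∀ k, 2 ≤ k → k < q - 1 → NF e k := fun k h2 hk => hnf k h2 (by omega) (by omega)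
    obtain ⟨c, hc⟩ := first_failure_even h hpair (by omega) (by omega) hnfJ hfailJ
    rcases Nat.lt_or_ge q 4 with h3 | h4
    · obtain rfl : q = 3 := by omega
      rcases Nat.lt_or_ge n 7 with hsmall | hbig
      · rcases (show n = 5 ∨ n = 6 by omega) with rfl | rfl
        · refine Or.inr (Or.inl ⟨rfl, ?_, hfailJ, hfailj⟩)
          have hEq : H ⊓ lay G 2 = lay G 3 := Subgroup.eq_of_le_of_card_ge hjA (by
            rw [hA, h.card_lay (by omega) (by omega)])
          exact hEq ▸ inf_le_left
        · refine Or.inr (Or.inr ⟨rfl, hjA, hinfZ 4 (by omega) (by omega), hfailJ, hfailj, hnf' (by omega), ?_⟩)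
          by_contra! hc
          have h1 := hcardS 2 2 le_rfl (by omega) hA
          have h2 := Subgroup.card_le_of_le (sup_le ((le_sup_left (b := lay G 4)).trans (hsupD 5 (by omega)))
            (fun x hx => mem_dset'.mpr (hc x hx)) : H ⊔ lay G 2 ≤ dset e 5)
          rw [hqc 5 (by omega) (by omega), if_neg (by omega)] at h2
          have h3 : p ^ (3 + (6 - 2)) ≤ p ^ (2 + (6 - 5 + 3)) := by
            rw [← h1, pow_add p 2]; exact Nat.mul_le_mul_left _ h2
          exact absurd ((Nat.pow_le_pow_iff_right hpp.one_lt).mp h3) (by omega)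
      · exact absurd (hnf' (by omega)) fun hnf4 => fail_two_three h hp hpair hbig hfailJ hfailj hnf4
    · exfalso
      exact two_failures h hpair (by omega) (by omega) hnfJ hfailJ
        (by rw [show q - 1 + 1 = q by omega]; exact hfailj)

end CfsgLib.MaxClass94
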