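import Cfsg.Agent.Lib.Fusion.Transvection
import Cfsg.Agent.Lib.Fusion.PEmbedded

/-!
# A transvection in a group of automorphisms with a strongly `p`-embedded subgroup
-/

set_option autoImplicit false
set_option linter.style.haveILetI false

namespace CfsgLib.MaxClass94

open Cfsg CfsgLib.Fusion
open scoped Pointwise

variable {p : ℕ} [Fact p.Prime] {K : Type*} [CommGroup K] [Finite K]

/-- A transvection of an elementary abelian group inside a group `A` of automorphisms with a strongly
`p`-embedded subgroup: the Sylow subgroups of `A` have order `p`, and `A` inverts the centre by an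
element commuting with the transvection and fixing a further point of the axis. -/
theorem transvection_data (hKp : ∀ e : K, e ^ p = 1) (hK : p ^ 3 ≤ Nat.card K) (A : Subgroup (MulAut K))
    {H : Subgroup A} {R₀ : Sylow p A} (hR₀ : EmbeddingData p R₀ H) (hHne : H ≠ ⊤) {t : A} (ht1 : t ≠ 1) {x : K} (hx : (t : MulAut K) x = x)
    (htc : ∀ e, e⁻¹ * (t : MulAut K) e ∈ Subgroup.zpowers x) :
    (∀ T : Sylow p A, Nat.card (T : Subgroup A) = p) ∧
      ∃ γ : A, (∀ e, (γ : MulAut K) ((t : MulAut K) e) = (t : MulAut K) ((γ : MulAut K) e)) ∧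
        (γ : MulAut K) x = x⁻¹ ∧
        ∃ d, (γ : MulAut K) d = d ∧ (t : MulAut K) d = d ∧ d ∉ Subgroup.zpowers x := by
  classical
  have hpp : p.Prime := Fact.out
  haveI : Finite (MulAut K) := Finite.of_injective (fun f : MulAut K => (f : K → K)) DFunLike.coe_injective
  have hprime : ∀ u ∈ Subgroup.zpowers x, u ≠ 1 → Subgroup.zpowers u = Subgroup.zpowers x := by
    intro u hu hu1
    refine Subgroup.eq_of_le_of_card_ge (Subgroup.zpowers_le.mpr hu) ?_
    rw [Nat.card_zpowers, Nat.card_zpowers, orderOf_eq_prime (hKp u) hu1]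
    exact Nat.le_of_dvd hpp.pos (orderOf_dvd_of_pow_eq_one (hKp x))
  -- powers of a transvection
  have hpow : ∀ (n : ℕ) (e : K), ((t ^ n : A) : MulAut K) e = e * (e⁻¹ * (t : MulAut K) e) ^ n := by
    intro n e
    induction n with
    | zero => simp
    | succ n ih =>
      obtain ⟨i, hi⟩ := htc e
      have hfix : (t : MulAut K) (e⁻¹ * (t : MulAut K) e) = e⁻¹ * (t : MulAut K) e := by
        rw [← hi, map_zpow, hx]
      rw [pow_succ', Subgroup.coe_mul, MulAut.mul_apply, ih, map_mul, map_pow, hfix, pow_succ',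
        ← mul_assoc, mul_inv_cancel_left]
  have htp : t ^ p = 1 := Subtype.ext (MulEquiv.ext fun e => by rw [hpow, hKp, mul_one]; rfl)
  -- the embedding, with `t` in the Sylow subgroup
  obtain ⟨T₀, hT₀⟩ := (IsPGroup.of_card (n := 1) (by
    rw [Nat.card_zpowers, orderOf_eq_prime htp ht1, pow_one]) : IsPGroup p (Subgroup.zpowers t)).exists_le_sylow
  obtain ⟨a, ha⟩ := MulAction.exists_smul_eq A R₀ T₀
  obtain ⟨M, hM, hMne⟩ : ∃ M : Subgroup A, EmbeddingData p T₀ M ∧ M ≠ ⊤ :=
    ⟨H.map (MulAut.conj a).toMonoidHom, ha ▸ hR₀.map_conj a, fun htop => hHne (by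
      rw [← Subgroup.comap_map_eq_self_of_injective (f := (MulAut.conj a).toMonoidHom) (MulAut.conj a).injective H,
        htop, Subgroup.comap_top])⟩
  have htT : t ∈ (T₀ : Subgroup A) := hT₀ (Subgroup.mem_zpowers t)
  have hpz : ∀ u : A, u ^ p = 1 → IsPGroup p (Subgroup.zpowers u) := fun u hu => by
    rcases eq_or_ne u 1 with rfl | hu1
    · rw [Subgroup.zpowers_one_eq_bot]; exact IsPGroup.of_bot
    · exact IsPGroup.of_card (n := 1) (by rw [Nat.card_zpowers, orderOf_eq_prime hu hu1, pow_one])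
  have hcent : ∀ u c : A, u ∈ M → u ^ p = 1 → u ≠ 1 → Commute u c → c ∈ M := fun u c hu hup hu1 hc =>
    hM.normalizer_le' (Subgroup.zpowers_le.mpr hu) (hpz u hup) (by rwa [Ne, Subgroup.zpowers_eq_bot])
      (Subgroup.centralizer_le_normalizer _ (Subgroup.mem_centralizer_iff.mpr fun y hy => by
        obtain ⟨i, rfl⟩ := Subgroup.mem_zpowers_iff.mp hy
        exact (hc.zpow_left i).eq))
  have hconj : ∀ u g : A, u ∈ M → IsPGroup p (Subgroup.zpowers u) → u ≠ 1 → g * u * g⁻¹ ∈ M → g ∈ M :=
    fun u g hu hup hu1 hg => hM.mem_of_conj (Subgroup.zpowers_le.mpr hu) hup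
      (by rwa [Ne, Subgroup.zpowers_eq_bot]) (by
        intro b hb
        obtain ⟨i, rfl⟩ := Subgroup.mem_zpowers_iff.mp hb
        rw [← conj_zpow]; exact zpow_mem hg i)
  -- incidence
  have hinc : ∀ g : A, (t : MulAut K) ((g : MulAut K) x) = (g : MulAut K) x → g ∈ M := by
    intro g hg
    by_contra hgM
    let t' : A := g * t * g⁻¹
    have ht' : ∀ e, e⁻¹ * (t' : MulAut K) e ∈ Subgroup.zpowers ((g : MulAut K) x) := fun e => by
      obtain ⟨i, hi⟩ := htc ((g : MulAut K).symm e)
      refine ⟨i, ?_⟩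
      dsimp only [] at hi ⊢
      rw [← map_zpow, hi, map_mul, map_inv, MulEquiv.apply_symm_apply]
      rfl
    have ht'p : t' ^ p = 1 := by rw [conj_pow, htp, mul_one, mul_inv_cancel]
    have ht'1 : t' ≠ 1 := fun h0 => ht1 (conj_eq_one_iff.mp h0)
    have ht'y : (t' : MulAut K) ((g : MulAut K) x) = (g : MulAut K) x := by
      show (g : MulAut K) ((t : MulAut K) ((g : MulAut K).symm ((g : MulAut K) x))) = _
      rw [MulEquiv.symm_apply_apply, hx]
    let y : K := (g : MulAut K) x
    let c : A := (t * t')⁻¹ * (t' * t)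
    -- the commutator is a transvection with centre `y` and the axis of `t`
    have hct : ∀ e, ∃ i : ℤ, (c : MulAut K) e = e * y ^ i ∧ ((t : MulAut K) e = e → i = 0) := by
      intro e
      obtain ⟨i, hi⟩ := htc e
      obtain ⟨k, hk⟩ := ht' e
      obtain ⟨s, hs⟩ := ht' x
      dsimp only [] at hi hk hs
      have h1 : (t : MulAut K) e = e * x ^ i := by rw [hi, mul_inv_cancel_left]
      have h2 : (t' : MulAut K) e = e * y ^ k := by rw [hk, mul_inv_cancel_left]
      have h3 : (t' : MulAut K) x = x * y ^ s := by rw [hs, mul_inv_cancel_left]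
      refine ⟨if (t : MulAut K) e = e then 0 else s * i, ?_, fun he => if_pos he⟩
      have hA : ((t * t' : A) : MulAut K) (e * (y ^ s) ^ i) = e * x ^ i * y ^ k * (y ^ s) ^ i := by
        show (t : MulAut K) ((t' : MulAut K) (e * (y ^ s) ^ i)) = _
        rw [map_mul, map_zpow, map_zpow, ht'y, h2, map_mul, map_mul, map_zpow, map_zpow, map_zpow, hg, h1]
      have hB : ((t' * t : A) : MulAut K) e = e * y ^ k * (x * y ^ s) ^ i := by
        show (t' : MulAut K) ((t : MulAut K) e) = _
        rw [h1, map_mul, map_zpow, h2, h3]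
      have hC : (c : MulAut K) e = e * (y ^ s) ^ i := by
        show (((t * t')⁻¹ * (t' * t) : A) : MulAut K) e = _
        rw [Subgroup.coe_mul, MulAut.mul_apply, hB, Subgroup.coe_inv]
        refine (MulEquiv.symm_apply_eq _).mpr ?_
        rw [hA, mul_zpow, mul_right_comm e (x ^ i), mul_right_comm (e * y ^ k) (x ^ i)]
        first | exact mul_comm _ _ | (simp only [mul_assoc, mul_comm, mul_left_comm])
      split_ifs with he
      · have hx0 : x ^ i = 1 := by rw [he] at h1; exact left_eq_mul.mp h1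
        rw [hC, zpow_zero]
        have h4 := congrArg (t' : MulAut K) hx0
        rw [map_zpow, h3, mul_zpow, hx0, one_mul, map_one] at h4
        rw [h4]
      · rw [hC, ← zpow_mul]
    have hcy : (c : MulAut K) y = y := by
      obtain ⟨i, h1, h2⟩ := hct y
      rw [h1, h2 hg, zpow_zero, mul_one]
    have hcpow : ∀ (m : ℕ) (e : K) (i : ℤ), (c : MulAut K) e = e * y ^ i →
        ((c ^ m : A) : MulAut K) e = e * (y ^ i) ^ m := by
      intro m e i he
      induction m with
      | zero => simp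
      | succ m ih =>
        rw [pow_succ', Subgroup.coe_mul, MulAut.mul_apply, ih, map_mul, map_pow, map_zpow, hcy, he, pow_succ',
          mul_assoc]
    have hcp : c ^ p = 1 := Subtype.ext (MulEquiv.ext fun e => by
      obtain ⟨i, h1, -⟩ := hct e
      rw [hcpow p e i h1, hKp, mul_one]; rfl)
    have hcomm : ∀ s : A, (s = t ∨ s = t') → Commute c s := by
      intro s hs
      refine Subtype.ext (MulEquiv.ext fun e => ?_)
      show (c : MulAut K) ((s : MulAut K) e) = (s : MulAut K) ((c : MulAut K) e)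
      obtain ⟨i, h1, -⟩ := hct e
      have hsy : (s : MulAut K) y = y := by rcases hs with rfl | rfl; exacts [hg, ht'y]
      rw [h1, map_mul, map_zpow, hsy]
      obtain ⟨w, hw, hcw⟩ : ∃ w, (s : MulAut K) e = e * w ∧ (c : MulAut K) w = w := by
        refine ⟨e⁻¹ * (s : MulAut K) e, (mul_inv_cancel_left _ _).symm, ?_⟩
        rcases hs with rfl | rfl
        · obtain ⟨r, hr⟩ := htc e
          obtain ⟨i', h1', h2'⟩ := hct x
          rw [← hr]
          dsimp only []
          rw [map_zpow, h1', h2' hx, zpow_zero, mul_one]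
        · obtain ⟨r, hr⟩ := ht' e
          rw [← hr]
          dsimp only []
          rw [map_zpow, hcy]
      rw [hw, map_mul, hcw, h1, mul_right_comm]
    have ht'M : t' ∈ M := by
      by_cases hc1 : c = 1
      · refine hcent t t' (hM.le htT) htp ht1 ?_
        have h1 : t * t' = t' * t := by
          have := hc1
          rwa [inv_mul_eq_one] at this
        exact h1
      · exact hcent c t' (hcent t c (hM.le htT) htp ht1 (hcomm t (Or.inl rfl)).symm) hcp hc1 (hcomm t' (Or.inr rfl))
    exact hgM (hconj t g (hM.le htT) (hpz t htp) ht1 ht'M)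
  obtain ⟨g, hg⟩ : ∃ g, g ∉ M := by
    by_contra! hc
    exact hMne (eq_top_iff.mpr fun y _ => hc y)
  let y : K := (g : MulAut K) x
  let t' : A := g * t * g⁻¹
  have ht' : ∀ e, e⁻¹ * (t' : MulAut K) e ∈ Subgroup.zpowers y := fun e => by
    obtain ⟨i, hi⟩ := htc ((g : MulAut K).symm e)
    refine ⟨i, ?_⟩
    dsimp only [] at hi ⊢
    rw [← map_zpow, hi, map_mul, map_inv, MulEquiv.apply_symm_apply]
    rfl
  have ht'y : (t' : MulAut K) y = y := by
    show (g : MulAut K) ((t : MulAut K) ((g : MulAut K).symm ((g : MulAut K) x))) = _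
    rw [MulEquiv.symm_apply_apply, hx]
  have hty : (t : MulAut K) y ≠ y := fun h0 => hg (hinc g h0)
  have ht'x : (t' : MulAut K) x ≠ x := fun h0 => hg (inv_mem_iff.mp (hinc g⁻¹ (by
    have h1 := congrArg (g : MulAut K).symm h0
    change (g : MulAut K).symm ((g : MulAut K) ((t : MulAut K) ((g : MulAut K).symm x))) = _ at h1
    rw [MulEquiv.symm_apply_apply] at h1
    exact h1)))
  let z : K := y⁻¹ * (t : MulAut K) y
  have hz1 : z ≠ 1 := fun h0 => hty (inv_mul_eq_one.mp h0).symm
  have hzx : Subgroup.zpowers z = Subgroup.zpowers x := hprime z (htc y) hz1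
  have hfix' : ∀ w ∈ Subgroup.zpowers y, (t' : MulAut K) w = w := by
    rintro _ ⟨i, rfl⟩
    dsimp only []
    rw [map_zpow, ht'y]
  have hy1 : y ≠ 1 := fun h0 => hty (by rw [h0, map_one])
  have hprimey : ∀ w ∈ Subgroup.zpowers y, w ≠ 1 → ∀ v ∈ Subgroup.zpowers y, ∃ j : ℕ, w ^ j = v := by
    intro w hw hw1 v hv
    have h1 : Subgroup.zpowers w = Subgroup.zpowers y := by
      refine Subgroup.eq_of_le_of_card_ge (Subgroup.zpowers_le.mpr hw) ?_
      rw [Nat.card_zpowers, Nat.card_zpowers, orderOf_eq_prime (hKp w) hw1]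
      exact Nat.le_of_dvd hpp.pos (orderOf_dvd_of_pow_eq_one (hKp y))
    exact mem_powers_iff_mem_zpowers.mpr (h1.ge hv)
  -- the centralizer of `t` in its Sylow subgroup
  have hCR : ∀ u ∈ (T₀ : Subgroup A), Commute u t → ∃ j : ℕ, u = t ^ j := by
    intro u hu hut
    have hsym : ∀ w : K, (t : MulAut K) ((u : MulAut K).symm w) = (u : MulAut K).symm ((t : MulAut K) w) := by
      intro w
      refine ((MulEquiv.symm_apply_eq _).mpr ?_).symm
      have h1 := congrArg (fun f : A => (f : MulAut K) ((u : MulAut K).symm w)) hut.eq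
      change (u : MulAut K) ((t : MulAut K) _) = (t : MulAut K) ((u : MulAut K) _) at h1
      rw [MulEquiv.apply_symm_apply] at h1
      exact h1.symm
    let z' : K := (u : MulAut K).symm z
    have hz'x : z' ∈ Subgroup.zpowers x := by
      have := htc ((u : MulAut K).symm y)
      rwa [hsym, ← map_inv, ← map_mul] at this
    have hz'1 : z' ≠ 1 := fun h0 => hz1 ((u : MulAut K).symm.injective (h0.trans (map_one _).symm))
    let P : K := ((u : MulAut K).symm y)⁻¹ * (t' : MulAut K) ((u : MulAut K).symm y)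
    let Q : K := z'⁻¹ * (t' : MulAut K) z'
    have hQ1 : Q ≠ 1 := by
      intro h0
      refine ht'x ?_
      have hfz : (t' : MulAut K) z' = z' := (inv_mul_eq_one.mp h0).symm
      obtain ⟨i, hi⟩ := (hprime z' hz'x hz'1).ge (Subgroup.mem_zpowers x)
      rw [← hi]
      dsimp only []
      rw [map_zpow, hfz]
    obtain ⟨j, hj⟩ := hprimey Q (ht' z') hQ1 P⁻¹ (inv_mem (ht' _))
    refine ⟨j, ?_⟩
    let h : A := u⁻¹ * t ^ j
    have hhT : h ∈ (T₀ : Subgroup A) := mul_mem (inv_mem hu) (pow_mem htT j)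
    have hhy : (h : MulAut K) y = (u : MulAut K).symm y * z' ^ j := by
      show (u : MulAut K).symm (((t ^ j : A) : MulAut K) y) = _
      rw [hpow, map_mul, map_pow]
    have hfixh : (t' : MulAut K) ((h : MulAut K) y) = (h : MulAut K) y := by
      rw [hhy, map_mul, map_pow]
      have e1 : (t' : MulAut K) ((u : MulAut K).symm y) = (u : MulAut K).symm y * P := (mul_inv_cancel_left _ _).symm
      have e2 : (t' : MulAut K) z' = z' * Q := (mul_inv_cancel_left _ _).symm
      rw [e1, e2, mul_pow, hj, mul_mul_mul_comm, mul_inv_cancel, mul_one]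
    have hk : g⁻¹ * h * g ∈ M := by
      refine hinc _ ?_
      have h1 := congrArg (g : MulAut K).symm hfixh
      change (g : MulAut K).symm ((g : MulAut K) ((t : MulAut K) ((g : MulAut K).symm ((h : MulAut K) y)))) = _ at h1
      rw [MulEquiv.symm_apply_apply] at h1
      exact h1
    by_contra hne
    refine hg (inv_mem_iff.mp (hconj h g⁻¹ (hM.le hhT) ?_ (fun h0 => hne ?_) (by rwa [inv_inv])))
    · exact T₀.2.to_le (Subgroup.zpowers_le.mpr hhT)
    · exact inv_mul_eq_one.mp h0
  have hT0 : Nat.card (T₀ : Subgroup A) = p := by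
    have hord : Nat.card (Subgroup.zpowers t) = p := by rw [Nat.card_zpowers, orderOf_eq_prime htp ht1]
    suffices hle : (T₀ : Subgroup A) ≤ Subgroup.zpowers t by
      rw [le_antisymm hle (Subgroup.zpowers_le.mpr htT), hord]
    haveI : Nontrivial (T₀ : Subgroup A) :=
      (Subgroup.nontrivial_iff_ne_bot _).mpr fun h0 => ht1 (by rwa [h0, Subgroup.mem_bot] at htT)
    obtain ⟨w, hwZ, hw1⟩ :=
      (Subgroup.bot_or_exists_ne_one _).resolve_left (ne_of_gt T₀.2.bot_lt_center)
    have hwc : ∀ q ∈ (T₀ : Subgroup A), Commute q (w : A) := fun q hq =>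
      congrArg Subtype.val (Subgroup.mem_center_iff.mp hwZ ⟨q, hq⟩)
    obtain ⟨i, hi⟩ := hCR w w.2 (hwc t htT).symm
    have hgen : Subgroup.zpowers (w : A) = Subgroup.zpowers t := by
      refine Subgroup.eq_of_le_of_card_ge (Subgroup.zpowers_le.mpr (hi ▸ pow_mem (Subgroup.mem_zpowers t) i)) ?_
      rw [hord, Nat.card_zpowers, orderOf_eq_prime (by rw [hi, ← pow_mul, mul_comm, pow_mul, htp, one_pow])
        (fun h0 => hw1 (Subtype.ext h0))]
    intro q hq
    obtain ⟨r, hr⟩ := hgen.ge (Subgroup.mem_zpowers t)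
    dsimp only [] at hr
    obtain ⟨j, hj⟩ := hCR q hq (hr ▸ (hwc q hq).zpow_right r)
    rw [hj]; exact pow_mem (Subgroup.mem_zpowers t) j
  refine ⟨fun T => by rw [T.card_eq_multiplicity, ← T₀.card_eq_multiplicity, hT0], ?_⟩
  -- the inversion
  obtain ⟨d, hd1, hdt, hdt'⟩ : ∃ d : K, d ≠ 1 ∧ (t : MulAut K) d = d ∧ (t' : MulAut K) d = d := by
    by_contra! hc
    let f : K →* Subgroup.zpowers x × Subgroup.zpowers y :=
      { toFun := fun e => (⟨_, htc e⟩, ⟨_, ht' e⟩)
        map_one' := Prod.ext (Subtype.ext (by simp)) (Subtype.ext (by simp))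
        map_mul' := fun a b => Prod.ext
          (Subtype.ext (by simp [mul_comm, mul_left_comm, mul_assoc]))
          (Subtype.ext (by simp [mul_comm, mul_left_comm, mul_assoc])) }
    have hf : Function.Injective f := by
      refine (injective_iff_map_eq_one f).mpr fun e he => by_contra fun he1 => ?_
      have h1 : e⁻¹ * (t : MulAut K) e = 1 := congrArg (fun w => ((Prod.fst w : Subgroup.zpowers x) : K)) he
      have h2 : e⁻¹ * (t' : MulAut K) e = 1 := congrArg (fun w => ((Prod.snd w : Subgroup.zpowers y) : K)) he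
      exact hc e he1 (inv_mul_eq_one.mp h1).symm (inv_mul_eq_one.mp h2).symm
    have h1 := hK.trans (Nat.card_le_card_of_injective f hf)
    rw [Nat.card_prod, Nat.card_zpowers, Nat.card_zpowers] at h1
    have h2 : orderOf x * orderOf y ≤ p * p := Nat.mul_le_mul
      (Nat.le_of_dvd hpp.pos (orderOf_dvd_of_pow_eq_one (hKp x)))
      (Nat.le_of_dvd hpp.pos (orderOf_dvd_of_pow_eq_one (hKp y)))
    have h3 : p ^ 3 ≤ p ^ 2 := (h1.trans h2).trans_eq (pow_two p).symm
    exact absurd ((Nat.pow_le_pow_iff_right hpp.one_lt).mp h3) (by omega)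
  let B : Subgroup (MulAut K) := Subgroup.closure {(t : MulAut K), (t' : MulAut K)}
  have hBA : B ≤ A := (Subgroup.closure_le _).mpr (by rintro _ (rfl | rfl); exacts [t.2, t'.2])
  have hBd : ∀ γ ∈ B, (γ : MulAut K) d = d := by
    intro γ hγ
    induction hγ using Subgroup.closure_induction with
    | mem γ hγ => rcases hγ with rfl | rfl; exacts [hdt, hdt']
    | one => rfl
    | mul a b _ _ ha hb => rw [MulAut.mul_apply, hb, ha]
    | inv a _ ha => exact (MulEquiv.symm_apply_eq _).mpr ha.symm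
  obtain ⟨s, hs⟩ := ht' x
  dsimp only [] at hs
  have e3 : (t' : MulAut K) x = x * y ^ s := by rw [hs, mul_inv_cancel_left]
  have hs1 : y ^ s ≠ 1 := fun h0 => ht'x (by rw [e3, h0, mul_one])
  have hmove : ∀ r : ℤ, y ^ r ≠ 1 → (t : MulAut K) (x * y ^ r) ≠ x * y ^ r := by
    intro r hr h0
    rw [map_mul, map_zpow, hx, mul_right_inj] at h0
    obtain ⟨i, hi⟩ := hprimey (y ^ r) (zpow_mem (Subgroup.mem_zpowers y) r) hr y (Subgroup.mem_zpowers y)
    refine hty ?_
    rw [← hi, map_pow, map_zpow, h0]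
  have ha1 : (t : MulAut K) ((t' : MulAut K)⁻¹ x) ≠ (t' : MulAut K)⁻¹ x := by
    have e4 : (t' : MulAut K)⁻¹ x = x * y ^ (-s) := (MulEquiv.symm_apply_eq _).mpr (by
      rw [map_mul, map_zpow, e3, ht'y, mul_assoc, ← zpow_add, add_neg_cancel, zpow_zero, mul_one])
    rw [e4]
    exact hmove _ (by rwa [zpow_neg, Ne, inv_eq_one])
  have ha2 : (t : MulAut K) ((t' : MulAut K) x) ≠ (t' : MulAut K) x := by
    rw [e3]; exact hmove s hs1
  obtain ⟨γ, hγ, hγt, hγx⟩ := Fusion.Transvection.exists_inversion B (a := (t : MulAut K)) (α := (t' : MulAut K))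
    (Subgroup.subset_closure (Or.inl rfl)) (Subgroup.subset_closure (Or.inr rfl)) (x := x) hx htc hprime ha1 ha2
  refine ⟨⟨γ, hBA hγ⟩, hγt, hγx x (Subgroup.mem_zpowers x), d, hBd γ hγ, hdt, fun hdx => ?_⟩
  obtain ⟨i, hi⟩ := (hprime d hdx hd1).ge (Subgroup.mem_zpowers x)
  refine ht'x ?_
  rw [← hi]
  dsimp only []
  rw [map_zpow, hdt']

end CfsgLib.MaxClass94
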