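import Cfsg.Agent.Lib.MaxClass94.GFn
import Cfsg.Agent.Lib.MaxClass94.Transvection
import Cfsg.Agent.Lib.MaxClass94.Counting

/-!
# Essential subgroups of order `p ^ 3` in a group of maximal class
-/

set_option autoImplicit false
set_option linter.style.haveILetI false

namespace CfsgLib.MaxClass94

open Cfsg Cfsg.FusionSystem CfsgLib.Fusion CfsgLib.FusionNormal
open scoped commutatorElement

variable {Ω : Type*} [Group Ω] {S : Subgroup Ω} {F : FusionSystem S} {p n : ℕ} [Fact p.Prime]

theorem comm_mul_left {H : Type*} [Group H] (a b c : H) : ⁅a * b, c⁆ = a * ⁅b, c⁆ * a⁻¹ * ⁅a, c⁆ := by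
  simp only [commutatorElement_def]; group

theorem comm_mul_right {H : Type*} [Group H] (a b c : H) : ⁅a, b * c⁆ = ⁅a, b⁆ * (b * ⁅a, c⁆ * b⁻¹) := by
  simp only [commutatorElement_def]; group

/-- The commutator of powers, when it commutes with both elements. -/
theorem comm_zpow_zpow {H : Type*} [Group H] {a b : H} (ha : Commute a ⁅a, b⁆) (hb : Commute b ⁅a, b⁆) (i j : ℤ) :
    ⁅a ^ i, b ^ j⁆ = ⁅a, b⁆ ^ (i * j) := by
  have h1 : b * a⁻¹ * b⁻¹ = a⁻¹ * ⁅a, b⁆ := by simp only [commutatorElement_def]; group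
  have h2 : b * (a⁻¹) ^ i * b⁻¹ = (a⁻¹) ^ i * ⁅a, b⁆ ^ i := by
    rw [← conj_zpow, h1, ha.inv_left.mul_zpow]
  have hX : ⁅a ^ i, b⁆ = ⁅a, b⁆ ^ i := by
    rw [commutatorElement_def (a ^ i) b, mul_assoc (a ^ i), mul_assoc (a ^ i), ← inv_zpow, h2, ← mul_assoc,
      inv_zpow, mul_inv_cancel, one_mul]
  have h3 : a ^ i * b * (a ^ i)⁻¹ = ⁅a, b⁆ ^ i * b := by
    rw [← hX]; simp only [commutatorElement_def]; group
  have h4 : a ^ i * b ^ j * (a ^ i)⁻¹ = (⁅a, b⁆ ^ i) ^ j * b ^ j := by
    rw [← conj_zpow, h3, (hb.symm.zpow_left i).mul_zpow]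
  rw [commutatorElement_def (a ^ i) (b ^ j), h4, mul_inv_cancel_right, ← zpow_mul]

variable [Finite S]

theorem embeddingData_map {X Y : Type*} [Group X] [Group Y] [Finite X] [Finite Y] (e : X ≃* Y) {R : Sylow p X}
    {H : Subgroup X} (h : EmbeddingData p R H) :
    ∃ R' : Sylow p Y, EmbeddingData p R' (H.map e.toMonoidHom) := by
  refine ⟨R.mapSurjective (f := e.toMonoidHom) e.surjective, Subgroup.map_mono h.le, fun A hA hne => ?_⟩
  have hA' : A.comap e.toMonoidHom ≤ (R : Subgroup X) := fun x hx =>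
    (Subgroup.mem_map_iff_mem e.injective).mp (hA hx)
  have hAeq : (A.comap e.toMonoidHom).map e.toMonoidHom = A := Subgroup.map_comap_eq_self_of_surjective e.surjective A
  rw [← hAeq, ← Subgroup.map_normalizer_eq_of_bijective _ (f := e.toMonoidHom) e.bijective]
  exact Subgroup.map_mono (h.normalizer_le _ hA' fun h0 => hne (by rw [← hAeq, h0, Subgroup.map_bot]))

/-- An element inducing a transvection on an essential elementary abelian subgroup of order `p ^ 3`. -/
theorem data_of_elem (hS : IsPGroup p S) (hF : F.IsSaturated p) {E : Subgroup S}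
    (hE : F.IsEssential p (E.map S.subtype)) (hcard : Nat.card E = p ^ 3) (hpow : ∀ x ∈ E, x ^ p = 1)
    (hcent : Subgroup.centralizer (E : Set S) = E) {g : S} (hgN : g ∈ Subgroup.normalizer (E : Set S))
    (hgE : g ∉ E) {x : S} (hx : x ∈ E) (hgx : g * x * g⁻¹ = x) (hgc : ∀ e ∈ E, ⁅g, e⁆ ∈ Subgroup.zpowers x) :
    Nat.card (Subgroup.normalizer (E : Set S)) = p ^ 4 ∧
      ∃ f, GFn F E f ∧ f '' E = (E : Set S) ∧ (∀ e ∈ E, f (g * e * g⁻¹) = g * f e * g⁻¹) ∧ f x = x⁻¹ ∧
        ∃ d ∈ E, f d = d ∧ Commute g d ∧ d ∉ Subgroup.zpowers x := by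
  obtain ⟨-, hFN, hIn, H₀, hH₀⟩ := hE
  set P := E.map S.subtype with hPdef
  have hPS : P ≤ S := Subgroup.map_subtype_le E
  haveI : Finite P := finite_of_le hPS
  haveI : Finite (MulAut P) := finite_mulAut hPS
  have hcomm : ∀ a ∈ E, ∀ b ∈ E, a * b = b * a := fun a ha b hb => Subgroup.mem_centralizer_iff.mp (hcent.ge hb) a ha
  let ι : E ≃* P := E.equivMapOfInjective S.subtype S.subtype_injective
  have hι : ∀ y : E, ((ι y : P) : Ω) = ((y : S) : Ω) := fun y => rfl
  letI : CommGroup P :=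
    { (inferInstance : Group P) with
      mul_comm := fun a b => ι.symm.injective (by
        rw [_root_.map_mul, _root_.map_mul]; exact Subtype.ext (hcomm _ (ι.symm a).2 _ (ι.symm b).2)) }
  have hPp : ∀ a : P, a ^ p = 1 := fun a => ι.symm.injective (by
    rw [map_pow, _root_.map_one]; exact Subtype.ext (hpow _ (ι.symm a).2))
  set A := F.autGroup P
  have hI : (Inn P).subgroupOf A = ⊥ := by
    refine eq_bot_iff.mpr fun a ha => ?_
    obtain ⟨w, hw⟩ := mem_inn.mp (Subgroup.mem_subgroupOf.mp ha)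
    refine Subgroup.mem_bot.mpr (Subtype.ext (MulEquiv.ext fun y => Subtype.ext ?_))
    rw [hw y]
    have := congrArg Subtype.val (mul_comm w y)
    simp only [Subgroup.coe_mul] at this
    simp [this]
  haveI := hIn
  let φ : A ≃* A ⧸ (Inn P).subgroupOf A := MulEquiv.ofBijective (QuotientGroup.mk' _)
    ⟨(MonoidHom.ker_eq_bot_iff _).mp (by rw [QuotientGroup.ker_mk', hI]), QuotientGroup.mk'_surjective _⟩
  obtain ⟨R₁, hR₁⟩ := exists_embeddingData hH₀
  obtain ⟨R₀, hR₀⟩ := embeddingData_map φ.symm hR₁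
  have hne : H₀.map φ.symm.toMonoidHom ≠ ⊤ := fun h0 => hH₀.2.1 (by
    rw [← Subgroup.comap_map_eq_self_of_injective (f := φ.symm.toMonoidHom) φ.symm.injective H₀, h0,
      Subgroup.comap_top])
  obtain ⟨β, hβ, hβe⟩ := exists_autInducedBy (K := S) g.2 (P := P)
    ((normalizerIn_map E).ge (Subgroup.mem_map_of_mem _ hgN)).2
  have hβA : β ∈ A := autInducedBy_le_autGroup hPS hβ
  have hβι : ∀ y : E, ((ι.symm (β (ι y)) : E) : S) = g * y * g⁻¹ := fun y => Subtype.ext (by
    rw [← hι, MulEquiv.apply_symm_apply, hβe, hι]; simp)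
  have ht1 : (⟨β, hβA⟩ : A) ≠ 1 := by
    intro h0
    refine hgE ?_
    rw [← hcent, Subgroup.mem_centralizer_iff]
    intro e he
    have h1 : β = 1 := congrArg Subtype.val h0
    have h2 := hβι ⟨e, he⟩
    rw [h1, MulAut.one_apply, MulEquiv.symm_apply_apply] at h2
    exact (mul_inv_eq_iff_eq_mul.mp h2.symm).symm
  have hxfix : ((⟨β, hβA⟩ : A) : MulAut P) (ι ⟨x, hx⟩) = ι ⟨x, hx⟩ :=
    ι.symm.injective (Subtype.ext (by rw [hβι, hgx, MulEquiv.symm_apply_apply]))
  have hzp : ∀ y : P, ((ι.symm y : E) : S) ∈ Subgroup.zpowers x → y ∈ Subgroup.zpowers (ι ⟨x, hx⟩) := by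
    intro y hy
    obtain ⟨i, hi⟩ := hy
    exact ⟨i, ι.symm.injective (Subtype.ext (by simpa using hi))⟩
  have htc : ∀ y : P, y⁻¹ * ((⟨β, hβA⟩ : A) : MulAut P) y ∈ Subgroup.zpowers (ι ⟨x, hx⟩) := fun y => by
    refine hzp _ ?_
    have h1 := hgc _ (ι.symm y).2
    have h2 : ((ι.symm (y⁻¹ * β y) : E) : S) = (ι.symm y : S)⁻¹ * ⁅g, (ι.symm y : S)⁆ * (ι.symm y : S) := by
      rw [_root_.map_mul, _root_.map_inv, Subgroup.coe_mul, Subgroup.coe_inv]
      have := hβι (ι.symm y)
      rw [MulEquiv.apply_symm_apply] at this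
      rw [this]; simp only [commutatorElement_def]; group
    show ((ι.symm (y⁻¹ * β y) : E) : S) ∈ _
    rw [h2, hcomm _ (inv_mem (ι.symm y).2) _ (Subgroup.zpowers_le.mpr hx h1), inv_mul_cancel_right]
    exact h1
  have hKc : p ^ 3 ≤ Nat.card P := by rw [card_map_coe, hcard]
  obtain ⟨hTc, γ, hγt, hγx, d, hγd, htd, hdx⟩ := transvection_data hPp hKc A hR₀ hne ht1 hxfix htc
  constructor
  · obtain ⟨-, T, hT⟩ := (fullyNormalized_good hS hF hFN).1
    have h1 := hTc T
    rw [hT, Nat.card_congr (Subgroup.subgroupOfEquivOfLe (autInducedBy_le_autGroup hPS)).toEquiv] at h1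
    have hC : centralizerIn S P = P := by
      refine le_antisymm ?_ (fun w hw => mem_centralizerIn.mpr ⟨hPS hw, fun y hy => ?_⟩)
      · intro w hw
        refine ⟨⟨w, hw.1⟩, hcent.le (Subgroup.mem_centralizer_iff.mpr fun y hy => Subtype.ext ?_), rfl⟩
        exact Subgroup.mem_centralizer_iff.mp hw.2 _ (Subgroup.mem_map_of_mem _ hy)
      · exact congrArg Subtype.val (mul_comm (⟨y, hy⟩ : P) ⟨w, hw⟩)
    have h2 := card_normalizerIn S P
    rw [normalizerIn_map, card_map_coe, hC, card_map_coe, hcard, h1] at h2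
    rw [h2]; ring
  obtain ⟨k, hk, hkr, hke⟩ := exists_mapFn_of_aut hPS γ.2
  obtain ⟨f, hf, hfe⟩ := gfn_of_mapFn (P := E) hk
  have hfι : ∀ y : E, f (y : S) = ((ι.symm ((γ : MulAut P) (ι y)) : E) : S) := fun y => Subtype.ext (by
    rw [hfe _ y.2, ← hι (ι.symm _), MulEquiv.apply_symm_apply, ← hke (ι y), hι])
  refine ⟨f, hf, hf.image_eq (fun y hy => by rw [hfι ⟨y, hy⟩]; exact SetLike.coe_mem _) le_rfl,
    fun e he => ?_, ?_, ((ι.symm d : E) : S), SetLike.coe_mem _, ?_, ?_, fun hdx' => hdx (hzp _ hdx')⟩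
  · have he' : g * e * g⁻¹ ∈ E := (Subgroup.mem_normalizer_iff.mp hgN e).mp he
    rw [hfι ⟨_, he'⟩, hfι ⟨e, he⟩, ← hβι]
    have : ι ⟨g * e * g⁻¹, he'⟩ = β (ι ⟨e, he⟩) :=
      ι.symm.injective (Subtype.ext (by rw [MulEquiv.symm_apply_apply, hβι]))
    rw [this, MulEquiv.apply_symm_apply]
    exact congrArg (fun z => ((ι.symm z : E) : S)) (hγt (ι ⟨e, he⟩))
  · rw [hfι ⟨x, hx⟩, hγx, _root_.map_inv, MulEquiv.symm_apply_apply]; rfl
  · rw [hfι, MulEquiv.apply_symm_apply, hγd]
  · have h1 := hβι (ι.symm d)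
    rw [MulEquiv.apply_symm_apply, show β d = d from htd] at h1
    exact (mul_inv_eq_iff_eq_mul.mp h1.symm)

/-- The hypotheses of the endgame. -/
structure Ess (F : FusionSystem S) (p n : ℕ) (E : Subgroup S) : Prop where
  mc : MC S p n
  five : 5 ≤ n
  hp : 5 ≤ p
  isP : IsPGroup p S
  sat : F.IsSaturated p
  ess : F.IsEssential p (E.map S.subtype)
  small : Small E p

/-- An elementary abelian essential subgroup of order `p ^ 3` has normalizer of order `p ^ 4`. -/
theorem ess_of (hS : IsPGroup p S) (hF : F.IsSaturated p) (hG : MC S p n) (h5 : 5 ≤ n) (hp : 5 ≤ p)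
    {E : Subgroup S} (hE : F.IsEssential p (E.map S.subtype)) (hcard : Nat.card E = p ^ 3)
    (hpow : ∀ x ∈ E, x ^ p = 1) (hcomm : ∀ a ∈ E, ∀ b ∈ E, a * b = b * a) : Ess F p n E := by
  have hpp : p.Prime := Fact.out
  have hcent : Subgroup.centralizer (E : Set S) = E := by
    refine le_antisymm (fun w hw => ?_) fun w hw => Subgroup.mem_centralizer_iff.mpr fun y hy => hcomm y hy w hw
    have h1 := hE.1.2 (E.map S.subtype) (isConj_refl (Subgroup.map_subtype_le E))
      (mem_centralizerIn.mpr ⟨w.2, fun y hy => by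
        obtain ⟨y', hy', rfl⟩ := hy
        exact congrArg Subtype.val (Subgroup.mem_centralizer_iff.mp hw y' hy')⟩)
    exact mem_map_coe.mp h1
  haveI := hS.isNilpotent
  have hZ1 : ∀ z ∈ lay S (n - 1), ∀ y, Commute y z := fun z hz y =>
    commutatorElement_eq_one_iff_mul_comm.mp (Subgroup.mem_bot.mp
      (hG.bot (i := n - 1 + 1) (by omega) ▸ comm_mem' (by omega) y hz))
  have hZE : lay S (n - 1) ≤ E := fun z hz => hcent.le (Subgroup.mem_centralizer_iff.mpr fun y _ => (hZ1 z hz y).eq)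
  suffices hN : Nat.card (Subgroup.normalizer (E : Set S)) = p ^ 4 from
    ⟨hG, h5, hp, hS, hF, hE, ⟨hcard, hpow, hcent, hN⟩⟩
  by_cases hZ2 : lay S (n - 2) ≤ E
  · -- an element of the normalizer centralizing the second centre
    obtain ⟨z0, hz0, hz0'⟩ := SetLike.not_le_iff_exists.mp (hG.lay_lt (i := n - 1) (by omega) (by omega))
    obtain ⟨d0, hd0, hd0'⟩ := SetLike.not_le_iff_exists.mp (hG.lay_lt (i := n - 2) (by omega) (by omega))
    let C : Subgroup S := Subgroup.centralizer {d0}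
    have hEC : E < C := by
      refine lt_of_le_of_ne (fun y hy => Subgroup.mem_centralizer_singleton_iff.mpr (hcomm y hy d0 (hZ2 hd0))) ?_
      intro he
      have hin : ∀ y, ⁅y, d0⁆ ∈ lay S (n - 1) := fun y => lay_anti (by omega) (comm_mem' (by omega) y hd0)
      have hinj : Function.Injective fun q : S ⧸ C =>
          (Quotient.liftOn' q (fun y => (⟨⁅y, d0⁆, hin y⟩ : lay S (n - 1))) fun a b hab => Subtype.ext (by
            have hc := Subgroup.mem_centralizer_singleton_iff.mp (QuotientGroup.leftRel_apply.mp hab)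
            show ⁅a, d0⁆ = ⁅b, d0⁆
            rw [show b = a * (a⁻¹ * b) by group, comm_mul_left, commutatorElement_eq_one_iff_mul_comm.mpr hc,
              mul_one, mul_inv_cancel, one_mul])) := by
        intro q q'
        induction q using QuotientGroup.induction_on with
        | H a => induction q' using QuotientGroup.induction_on with
          | H b =>
            intro h1
            have h2 : ⁅a, d0⁆ = ⁅b, d0⁆ := congrArg Subtype.val h1
            refine QuotientGroup.eq.mpr (Subgroup.mem_centralizer_singleton_iff.mpr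
              (commutatorElement_eq_one_iff_mul_comm.mp ?_))
            rw [comm_mul_left, show ⁅a⁻¹, d0⁆ = a⁻¹ * ⁅a, d0⁆⁻¹ * a by
              simp only [commutatorElement_def]; group, h2]
            group
      have h1 := Nat.card_le_card_of_injective _ hinj
      rw [hG.card_lay (by omega) (by omega), show n - (n - 1) = 1 by omega, pow_one] at h1
      have h2 := C.card_mul_index
      rw [← he, hcard, hG.card, he] at h2
      have h3 : p ^ n ≤ p ^ 4 := h2 ▸ (Nat.mul_le_mul_left (p ^ 3) h1).trans (le_of_eq (by ring))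
      exact absurd ((Nat.pow_le_pow_iff_right hpp.one_lt).mp h3) (by omega)
    have hne : E.subgroupOf C < ⊤ := lt_top_iff_ne_top.mpr fun h => hEC.not_ge (Subgroup.subgroupOf_eq_top.mp h)
    obtain ⟨⟨g, hgC⟩, hgn, hgE⟩ := SetLike.exists_of_lt ((Group.normalizerCondition_of_isNilpotent (G := C)) _ hne)
    have hgN : g ∈ Subgroup.normalizer (E : Set S) := by
      rw [Subgroup.mem_normalizer_iff]
      intro y
      constructor
      · intro hy
        exact Subgroup.mem_subgroupOf.mp ((Subgroup.mem_normalizer_iff.mp hgn ⟨y, hEC.le hy⟩).mp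
          (Subgroup.mem_subgroupOf.mpr hy))
      · intro hy
        have hy' : y ∈ C := by
          have := mul_mem (mul_mem (inv_mem hgC) (hEC.le hy)) hgC
          simpa [mul_assoc] using this
        exact Subgroup.mem_subgroupOf.mp ((Subgroup.mem_normalizer_iff.mp hgn ⟨y, hy'⟩).mpr
          (Subgroup.mem_subgroupOf.mpr hy))
    -- it moves `E` into the second centre
    have hg2 : ∀ z ∈ lay S (n - 2), ⁅g, z⁆ = 1 := fun z hz => by
      have := hG.comm_layer (N := ⊥) (y := g) (i := n - 2) (by omega) hd0 hd0'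
        (Subgroup.mem_bot.mpr (commutatorElement_eq_one_iff_mul_comm.mpr
          (Subgroup.mem_centralizer_singleton_iff.mp hgC)))
        (fun w hw => Subgroup.mem_bot.mpr (commutatorElement_eq_one_iff_mul_comm.mpr
          (hZ1 w (lay_anti (by omega) hw) g).eq)) z hz
      exact Subgroup.mem_bot.mp this
    have hZ2c : Nat.card (lay S (n - 2)) = p ^ 2 := by
      rw [hG.card_lay (by omega) (by omega)]; congr 1; omega
    let u : MulAut E := MulAut.conjNormal (H := E.subgroupOf (Subgroup.normalizer (E : Set S)))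
      (⟨g, hgN⟩ : Subgroup.normalizer (E : Set S)) |> MulAut.congr (Subgroup.subgroupOfEquivOfLe Subgroup.le_normalizer)
    have hu : ∀ y : E, ((u y : E) : S) = g * y * g⁻¹ := fun y => rfl
    obtain ⟨k, hk⟩ := hS g
    have hupow : ∀ (j : ℕ) (y : E), (((u ^ j) y : E) : S) = g ^ j * y * (g ^ j)⁻¹ := by
      intro j y
      induction j with
      | zero => simp
      | succ j ih => rw [pow_succ', MulAut.mul_apply, hu, ih, pow_succ', mul_inv_rev]; simp [mul_assoc]
    have huk : u ^ p ^ k = 1 := MulEquiv.ext fun y => Subtype.ext (by rw [hupow, hk]; simp)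
    have hdisp : ∀ e ∈ E, ⁅g, e⁆ ∈ lay S (n - 2) := by
      intro e he
      haveI : ((lay S (n - 2)).subgroupOf E).Normal := Subgroup.normal_subgroupOf
      have h1 := CfsgLib.FusionFlag.stabilizes_step (K := (lay S (n - 2)).subgroupOf E) (L := ⊤) le_top
        (by rw [Subgroup.card_top, hcard, Nat.card_congr (Subgroup.subgroupOfEquivOfLe hZ2).toEquiv, hZ2c]; ring)
        huk (fun _ _ => Subgroup.mem_top _) (fun y hy => by
          rw [Subgroup.mem_subgroupOf, hu]; exact (lay_normal _).conj_mem _ hy g) ⟨e, he⟩ (Subgroup.mem_top _)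
      rw [Subgroup.mem_subgroupOf] at h1
      simp only [Subgroup.coe_mul, Subgroup.coe_inv, hu] at h1
      have h2 := (lay_normal (n - 2)).conj_mem _ h1 e
      rwa [show e * (e⁻¹ * (g * e * g⁻¹)) * e⁻¹ = ⁅g, e⁆ by simp [commutatorElement_def, mul_assoc]] at h2
    obtain ⟨e, he, he2⟩ := SetLike.not_le_iff_exists.mp (show ¬ E ≤ lay S (n - 2) from fun hle => by
      have h1 := Subgroup.card_le_of_le hle
      rw [hcard, hZ2c] at h1
      exact absurd ((Nat.pow_le_pow_iff_right hpp.one_lt).mp h1) (by omega))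
    have hEgen : Subgroup.zpowers e ⊔ lay S (n - 2) = E := by
      refine Subgroup.eq_of_le_of_card_ge (sup_le (Subgroup.zpowers_le.mpr he) hZ2) ?_
      have hlt : lay S (n - 2) < Subgroup.zpowers e ⊔ lay S (n - 2) :=
        lt_of_le_of_ne le_sup_right fun h0 => he2 (h0.ge (Subgroup.mem_sup_left (Subgroup.mem_zpowers e)))
      have h1 := CfsgLib.Fusion.MaxClass.mul_card_le_of_lt hS hlt
      rw [hZ2c, ← pow_succ'] at h1
      rwa [hcard]
    refine (data_of_elem hS hF hE hcard hpow hcent hgN hgE (hZ2 (hdisp e he)) ?_ fun y hy => ?_).1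
    · exact mul_inv_eq_iff_eq_mul.mpr (commutatorElement_eq_one_iff_mul_comm.mp (hg2 _ (hdisp e he)))
    obtain ⟨a, ⟨i, rfl⟩, b, hb, rfl⟩ := Subgroup.mem_sup_of_normal_right.mp (hEgen.ge hy)
    dsimp only []
    rw [comm_mul_right, hg2 b hb, mul_one, mul_inv_cancel, mul_one]
    have h1 := comm_zpow_zpow (a := g) (b := e)
      ((commutatorElement_eq_one_iff_mul_comm.mp (hg2 _ (hdisp e he))))
      (hcomm e he _ (hZ2 (hdisp e he))) 1 i
    rw [zpow_one] at h1
    exact h1 ▸ zpow_mem (Subgroup.mem_zpowers _) _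
  · obtain ⟨w, hw, hwE⟩ := SetLike.not_le_iff_exists.mp hZ2
    have hwc : ∀ y, ⁅w, y⁆ ∈ lay S (n - 1) := fun y => by
      rw [← commutatorElement_inv]; exact inv_mem (lay_anti (by omega) (comm_mem' (by omega) y hw))
    have hwN : w ∈ Subgroup.normalizer (E : Set S) := by
      rw [Subgroup.mem_normalizer_iff]
      intro y
      have h1 : w * y * w⁻¹ = ⁅w, y⁆ * y := by simp [commutatorElement_def]
      rw [h1]
      exact ⟨fun hy => mul_mem (hZE (hwc y)) hy, fun hy => (mul_mem_cancel_left (hZE (hwc y))).mp hy⟩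
    obtain ⟨z, hz, hz'⟩ := SetLike.not_le_iff_exists.mp (hG.lay_lt (i := n - 1) (by omega) (by omega))
    refine (data_of_elem hS hF hE hcard hpow hcent hwN hwE (hZE hz) ?_ fun y _ => ?_).1
    · exact mul_inv_eq_iff_eq_mul.mpr (hZ1 z hz w).eq
    have h1 := hG.sup_zpowers (i := n - 1) (by omega) hz hz'
    rw [hG.bot (i := n - 1 + 1) (by omega), sup_bot_eq] at h1
    exact h1.ge (hwc y)

omit [Fact p.Prime] in
theorem GConj.card_eq {P Q : Subgroup S} (h : GConj F P Q) : Nat.card Q = Nat.card P := by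
  rw [← card_map_coe Q, ← card_map_coe P]; exact Fusion.IsConj.card_eq h

/-- Conjugates of the essential subgroup have the same properties. -/
theorem Ess.small' {E : Subgroup S} (h : Ess F p n E) {E' : Subgroup S} (hc : GConj F E E') : Small E' p := by
  obtain ⟨f, hf, hr⟩ := hc.exists_fn
  have hpow : ∀ (k : ℕ) (y : S), y ∈ E → f (y ^ k) = f y ^ k := fun k y hy => by
    rw [← zpow_natCast, hf.map_zpow hy, zpow_natCast]
  have hcomm : ∀ a ∈ E', ∀ b ∈ E', a * b = b * a := by
    intro a ha b hb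
    obtain ⟨a', ha', rfl⟩ := hr.ge ha
    obtain ⟨b', hb', rfl⟩ := hr.ge hb
    rw [← hf.map_mul ha' hb', ← hf.map_mul hb' ha', h.small.comm ha' hb']
  have hcent : Subgroup.centralizer (E' : Set S) = E' := by
    refine le_antisymm (fun w hw => ?_) fun w hw => Subgroup.mem_centralizer_iff.mpr fun y hy => hcomm y hy w hw
    have h1 := h.ess.1.2 (E'.map S.subtype) hc
      (mem_centralizerIn.mpr ⟨w.2, fun y hy => by
        obtain ⟨y', hy', rfl⟩ := hy
        exact congrArg Subtype.val (Subgroup.mem_centralizer_iff.mp hw y' hy')⟩)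
    exact mem_map_coe.mp h1
  refine ⟨hc.card_eq.trans h.small.card, ?_, hcent, ?_⟩
  · intro a ha
    obtain ⟨a', ha', rfl⟩ := hr.ge ha
    rw [← hpow p a' ha', h.small.pow a' ha', hf.map_one]
  · refine le_antisymm ((gconj_normalizer_le h.ess.2.1 hc).trans h.small.norm.le) ?_
    haveI := h.isP.isNilpotent
    have hne : E' ≠ ⊤ := fun ht => by
      have h1 := hc.card_eq
      rw [ht, Subgroup.card_top, h.mc.card, h.small.card] at h1
      have h2 := h.five
      exact absurd (Nat.pow_right_injective (Fact.out : p.Prime).two_le h1) (by omega)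
    have h1 := CfsgLib.Fusion.MaxClass.mul_card_le_of_lt h.isP
      ((Group.normalizerCondition_of_isNilpotent (G := S)) _ hne.lt_top)
    rwa [hc.card_eq, h.small.card, ← pow_succ'] at h1

end CfsgLib.MaxClass94
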