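import Cfsg.Agent.Lib.MaxClass94.Basic

/-!
# Layers on which an element of a `p`-group of maximal class fails to act
-/

set_option autoImplicit false
set_option linter.style.haveILetI false

namespace CfsgLib.MaxClass94

open Subgroup
open scoped commutatorElement

variable {G : Type*} [Group G]

/-- `e` fails on the layer `k`. -/
def Fail (e : G) (k : ℕ) : Prop := ∀ x ∈ lay G k, ⁅e, x⁆ ∈ lay G (k + 2)

/-- `e` does not fail on the layer `k`. -/
def NF (e : G) (k : ℕ) : Prop := ∀ x ∈ lay G k, ⁅e, x⁆ ∈ lay G (k + 2) → x ∈ lay G (k + 1)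

theorem mk_eq_one {m : ℕ} {x : G} (hx : x ∈ lay G m) : QuotientGroup.mk' (lay G m) x = 1 :=
  (QuotientGroup.eq_one_iff x).mpr hx

theorem mk_comm_eq_one {m a b : ℕ} (ha : 1 ≤ a) (hb : 1 ≤ b) (hm : m ≤ a + b) {x y : G}
    (hx : x ∈ lay G a) (hy : y ∈ lay G b) :
    ⁅QuotientGroup.mk' (lay G m) x, QuotientGroup.mk' (lay G m) y⁆ = 1 := by
  rw [← map_commutatorElement]; exact mk_eq_one (comm_mem_le ha hb hm hx hy)

theorem mk_commute {m a b : ℕ} (ha : 1 ≤ a) (hb : 1 ≤ b) (hm : m ≤ a + b) {x y : G}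
    (hx : x ∈ lay G a) (hy : y ∈ lay G b) :
    Commute (QuotientGroup.mk' (lay G m) x) (QuotientGroup.mk' (lay G m) y) :=
  commutatorElement_eq_one_iff_mul_comm.mp (mk_comm_eq_one ha hb hm hx hy)

theorem mk_central {m a : ℕ} (ha : 1 ≤ a) (hm : m ≤ a + 1) {x : G} (hx : x ∈ lay G a)
    (g : G ⧸ lay G m) : Commute g (QuotientGroup.mk' (lay G m) x) := by
  obtain ⟨g, rfl⟩ := QuotientGroup.mk'_surjective _ g
  exact mk_commute (a := 1) le_rfl ha (by omega) (lay_one (G := G) ▸ Subgroup.mem_top g) hx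

/-- An alternating sequence with a trivial term is trivial. -/
theorem alt_eq_one {H : Type*} [Group H] {f : ℕ → H} {lo hi : ℕ}
    (hf : ∀ i, lo ≤ i → i < hi → f i * f (i + 1) = 1) {m : ℕ} (hm1 : lo ≤ m) (hm2 : m ≤ hi) (hm : f m = 1) :
    ∀ i, lo ≤ i → i ≤ hi → f i = 1 := by
  have hup : ∀ d, m + d ≤ hi → f (m + d) = 1 := by
    intro d
    induction d with
    | zero => exact fun _ => hm
    | succ d ih =>
      intro hd
      have h1 := hf (m + d) (by omega) (by omega)
      rw [ih (by omega), one_mul] at h1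
      exact h1
  have hdown : ∀ d, lo + d ≤ m → f (m - d) = 1 := by
    intro d
    induction d with
    | zero => exact fun _ => hm
    | succ d ih =>
      intro hd
      have h1 := hf (m - (d + 1)) (by omega) (by omega)
      rw [show m - (d + 1) + 1 = m - d by omega, ih (by omega), mul_one] at h1
      exact h1
  intro i h1 h2
  rcases le_total m i with h | h
  · have := hup (i - m) (by omega)
    rwa [show m + (i - m) = i by omega] at this
  · have := hdown (m - i) (by omega)
    rwa [show m - (m - i) = i by omega] at this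

/-- Conjugating `⁅x_i, x_k⁆` by `e`. -/
theorem conj_seq_comm (e u : G) {m i k : ℕ} (hi : 1 ≤ i) (hk : 1 ≤ k)
    (hac : m ≤ i + k + 2) (hcen : m ≤ i + k + 2) (hcom : m ≤ i + k + i + 1) (hcom' : m ≤ i + k + k + 1) :
    QuotientGroup.mk' (lay G m) (e * ⁅seq e u i, seq e u k⁆ * e⁻¹) =
      QuotientGroup.mk' (lay G m) ⁅seq e u i, seq e u (k + 1)⁆ *
        QuotientGroup.mk' (lay G m) ⁅seq e u i, seq e u k⁆ *
          QuotientGroup.mk' (lay G m) ⁅seq e u (i + 1), seq e u k⁆ := by
  have h1 : e * ⁅seq e u i, seq e u k⁆ * e⁻¹ =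
      ⁅seq e u (i + 1) * seq e u i, seq e u (k + 1) * seq e u k⁆ := by
    rw [seq_succ e u hi, seq_succ e u hk]; simp [commutatorElement_def, mul_assoc]
  rw [h1, map_commutatorElement, map_mul, map_mul, map_commutatorElement, map_commutatorElement,
    map_commutatorElement]
  refine expand (mk_comm_eq_one (by omega) (by omega) (by omega) (seq_mem e u _) (seq_mem e u _)) ?_ ?_ ?_ ?_
  · intro g
    rw [← map_commutatorElement]
    exact mk_central (by omega) (by omega) (comm_mem hi (by omega) (seq_mem e u i) (seq_mem e u _)) g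
  · intro g
    rw [← map_commutatorElement]
    exact mk_central (by omega) (by omega) (comm_mem (by omega) hk (seq_mem e u _) (seq_mem e u k)) g
  · rw [← map_commutatorElement]
    exact mk_commute (by omega) (by omega) (by omega) (seq_mem e u _) (comm_mem hi hk (seq_mem e u i) (seq_mem e u k))
  · rw [← map_commutatorElement]
    exact mk_commute (by omega) (by omega) (by omega) (seq_mem e u _) (comm_mem hi hk (seq_mem e u i) (seq_mem e u k))

/-- An element fixed by `e` modulo `lay m` is fixed in the quotient. -/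
theorem mk_conj_eq {m : ℕ} {e a : G} (h : ⁅e, a⁆ ∈ lay G m) :
    QuotientGroup.mk' (lay G m) (e * a * e⁻¹) = QuotientGroup.mk' (lay G m) a := by
  rw [show e * a * e⁻¹ = ⁅e, a⁆ * a by simp [commutatorElement_def], map_mul, mk_eq_one h, one_mul]

variable [Finite G] {p n : ℕ} [Fact p.Prime] {e u : G} {J : ℕ}

theorem alt_first (hfail : Fail e J) :
    ∀ i, 1 ≤ i → i < J → QuotientGroup.mk' (lay G (J + 2)) ⁅seq e u i, seq e u (J + 1 - i)⁆ *
      QuotientGroup.mk' (lay G (J + 2)) ⁅seq e u (i + 1), seq e u (J + 1 - (i + 1))⁆ = 1 := by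
  intro i hi hiJ
  obtain ⟨k, rfl⟩ : ∃ k, J = i + k := ⟨J - i, by omega⟩
  have hk : 1 ≤ k := by omega
  rw [show i + k + 1 - i = k + 1 by omega, show i + k + 1 - (i + 1) = k by omega]
  have h := conj_seq_comm e u (m := i + k + 2) hi hk (by omega) (by omega) (by omega) (by omega)
  rw [mk_conj_eq (hfail _ (comm_mem hi hk (seq_mem e u i) (seq_mem e u k)))] at h
  have hc : Commute (QuotientGroup.mk' (lay G (i + k + 2)) ⁅seq e u i, seq e u k⁆)
      (QuotientGroup.mk' (lay G (i + k + 2)) ⁅seq e u i, seq e u (k + 1)⁆) :=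
    mk_central (by omega) (by omega) (comm_mem hi (by omega) (seq_mem e u i) (seq_mem e u _)) _
  rw [← hc.eq, mul_assoc] at h
  exact left_eq_mul.mp h

theorem first_failure_ne (h : MC G p n) (hpair : Pair e u) (hJ : 2 ≤ J) (hJn : J + 2 ≤ n)
    (hnf : ∀ k, 2 ≤ k → k < J → NF e k) (hfail : Fail e J) :
    ⁅seq e u 1, seq e u J⁆ ∉ lay G (J + 2) := fun hmem =>
  not_central h hpair hJ hJn (seq_mem e u J) (hpair.seq_notMem h hnf J hJ le_rfl)
    (hfail _ (seq_mem e u J)) hmem

/-- The first failure is on an even layer. -/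
theorem first_failure_even (h : MC G p n) (hpair : Pair e u) (hJ : 2 ≤ J) (hJn : J + 2 ≤ n)
    (hnf : ∀ k, 2 ≤ k → k < J → NF e k) (hfail : Fail e J) : Even J := by
  by_contra hodd
  obtain ⟨m, hm⟩ := Nat.not_even_iff_odd.mp hodd
  refine first_failure_ne h hpair hJ hJn hnf hfail ((QuotientGroup.eq_one_iff _).mp ?_)
  have := alt_eq_one (f := fun i => QuotientGroup.mk' (lay G (J + 2)) ⁅seq e u i, seq e u (J + 1 - i)⁆)
    (lo := 1) (hi := J) (alt_first hfail) (m := m + 1) (by omega) (by omega)
    (by rw [show J + 1 - (m + 1) = m + 1 by omega, commutatorElement_self, map_one]) 1 le_rfl (by omega)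
  rwa [show J + 1 - 1 = J by omega] at this

/-- Two consecutive failures happen on the layer two only. -/
theorem two_failures (h : MC G p n) (hpair : Pair e u) (hJ : 4 ≤ J) (hJn : J + 3 ≤ n)
    (hnf : ∀ k, 2 ≤ k → k < J → NF e k) (hfail : Fail e J) (hfail' : Fail e (J + 1)) : False := by
  obtain ⟨J', hJ'⟩ := first_failure_even h hpair (by omega) (by omega) hnf hfail
  set π := QuotientGroup.mk' (lay G (J + 3)) with hπ
  have hg : ∀ i, 2 ≤ i → i < J → π ⁅seq e u i, seq e u (J + 2 - i)⁆ *
      π ⁅seq e u (i + 1), seq e u (J + 2 - (i + 1))⁆ = 1 := by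
    intro i hi hiJ
    obtain ⟨k, hk⟩ : ∃ k, J + 1 = i + k := ⟨J + 1 - i, by omega⟩
    rw [show J + 2 - i = k + 1 by omega, show J + 2 - (i + 1) = k by omega]
    have h := conj_seq_comm e u (m := J + 3) (i := i) (k := k) (by omega) (by omega) (by omega) (by omega)
      (by omega) (by omega)
    have hmem : ⁅seq e u i, seq e u k⁆ ∈ lay G (J + 1) :=
      hk ▸ comm_mem (by omega) (by omega) (seq_mem e u i) (seq_mem e u k)
    rw [mk_conj_eq (hfail' _ hmem), ← hπ] at h
    have hc : Commute (π ⁅seq e u i, seq e u k⁆) (π ⁅seq e u i, seq e u (k + 1)⁆) :=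
      mk_central (by omega) (by omega) (comm_mem (by omega) (by omega) (seq_mem e u i) (seq_mem e u _)) _
    rw [← hc.eq, mul_assoc] at h
    exact left_eq_mul.mp h
  have hg1 := alt_eq_one (f := fun i => π ⁅seq e u i, seq e u (J + 2 - i)⁆) (lo := 2) (hi := J) hg
    (m := J' + 1) (by omega) (by omega)
    (by rw [show J + 2 - (J' + 1) = J' + 1 by omega, commutatorElement_self, map_one])
  set X := ⁅seq e u 2, seq e u (J - 1)⁆ with hX
  have hXm : X ∈ lay G (J + 1) := comm_mem_le (by omega) (by omega) (by omega) (seq_mem e u 2) (seq_mem e u _)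
  have hX' : X ∉ lay G (J + 2) := by
    intro hmem
    refine first_failure_ne h hpair (by omega) (by omega) hnf hfail ((QuotientGroup.eq_one_iff _).mp ?_)
    have h1 := alt_first (u := u) hfail 1 le_rfl (by omega)
    rw [show J + 1 - 1 = J by omega, show J + 1 - (1 + 1) = J - 1 by omega,
      show (1 + 1 : ℕ) = 2 from rfl, mk_eq_one hmem, mul_one] at h1
    exact h1
  refine not_central h hpair (k := J + 1) (by omega) (by omega) hXm hX' (hfail' _ hXm) ?_
  -- conjugation by `u`
  rw [← QuotientGroup.eq_one_iff, ← QuotientGroup.mk'_apply,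
    map_commutatorElement, commutatorElement_eq_one_iff_mul_comm]
  show π u * π X = π X * π u
  suffices hs : π (u * X * u⁻¹) = π X by
    rw [map_mul, map_mul, map_inv] at hs
    exact mul_inv_eq_iff_eq_mul.mp hs
  set A := ⁅u, seq e u 2⁆ with hA
  set B := ⁅u, seq e u (J - 1)⁆ with hB
  have hAm : A ∈ lay G 3 := comm_mem' (by omega) u (seq_mem e u 2)
  have hBm : B ∈ lay G J := by
    have := comm_mem' (b := J - 1) (by omega) u (seq_mem e u (J - 1))
    rwa [show J - 1 + 1 = J by omega] at this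
  have hbB : ⁅seq e u 2, B⁆ ∈ lay G (J + 3) := by
    refine h.comm_layer (by omega) (seq_mem e u J) (hpair.seq_notMem h hnf J (by omega) le_rfl) ?_
      (fun z hz => comm_mem_le (b := J + 1) (by omega) (by omega) (by omega) (seq_mem e u 2) hz) B hBm
    have := hg1 2 le_rfl (by omega)
    rw [show J + 2 - 2 = J by omega] at this
    exact (QuotientGroup.eq_one_iff _).mp this
  have hAd : ⁅A, seq e u (J - 1)⁆ ∈ lay G (J + 3) := by
    rw [← commutatorElement_inv]
    refine inv_mem (h.comm_layer (by omega) (seq_mem e u 3) (hpair.seq_notMem h hnf 3 (by omega) (by omega)) ?_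
      (fun z hz => comm_mem_le (b := 4) (by omega) (by omega) (by omega) (seq_mem e u (J - 1)) hz) A hAm)
    have := hg1 3 (by omega) (by omega)
    rw [show J + 2 - 3 = J - 1 by omega] at this
    rw [← commutatorElement_inv]
    exact inv_mem ((QuotientGroup.eq_one_iff _).mp this)
  have hconj : u * X * u⁻¹ = ⁅A * seq e u 2, B * seq e u (J - 1)⁆ := by
    rw [hX, hA, hB]; simp [commutatorElement_def, mul_assoc]
  rw [hconj, map_commutatorElement, map_mul, map_mul,
    expand (mk_comm_eq_one (by omega) (by omega) (by omega) hAm hBm) ?_ ?_ ?_ ?_,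
    ← map_commutatorElement, ← map_commutatorElement, ← map_commutatorElement, hπ, mk_eq_one hbB,
    mk_eq_one hAd, one_mul, mul_one]
  · intro g; rw [← map_commutatorElement, mk_eq_one hbB]; exact Commute.one_right g
  · intro g; rw [← map_commutatorElement, mk_eq_one hAd]; exact Commute.one_right g
  · rw [← map_commutatorElement]; exact mk_commute (by omega) (by omega) (by omega) hAm hXm
  · rw [← map_commutatorElement]; exact mk_commute (by omega) (by omega) (by omega) hBm hXm

/-- A single failure below the last layer is on a layer divisible by `p`. -/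
theorem single_failure_dvd (h : MC G p n) (hpair : Pair e u) (hJ : 2 ≤ J) (hJn : J + 3 ≤ n)
    (hnf : ∀ k, 2 ≤ k → k < J → NF e k) (hfail : Fail e J) (hnf' : NF e (J + 1)) : p ∣ J / 2 := by
  obtain ⟨J', hJ'⟩ := first_failure_even h hpair hJ (by omega) hnf hfail
  set π := QuotientGroup.mk' (lay G (J + 3)) with hπ
  obtain ⟨Fn, hFn⟩ : ∃ F : ℕ → G, ∀ i, F i = ⁅seq e u i, seq e u (J + 1 - i)⁆ := ⟨_, fun _ => rfl⟩
  obtain ⟨θ, hθ⟩ : ∃ θ : ℕ → G ⧸ lay G (J + 3), ∀ i, θ i = π ⁅e, Fn i⁆ := ⟨_, fun _ => rfl⟩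
  have hFm : ∀ i, 1 ≤ i → i ≤ J → Fn i ∈ lay G (J + 1) := fun i h1 h2 => by
    rw [hFn]; exact comm_mem_le h1 (by omega) (by omega) (seq_mem e u i) (seq_mem e u _)
  have hθm : ∀ i, 1 ≤ i → i ≤ J → ∀ g, Commute g (θ i) := fun i h1 h2 g => by
    rw [hθ]; exact mk_central (a := J + 2) (by omega) (by omega) (comm_mem' (by omega) e (hFm i h1 h2)) g
  have hθp : ∀ i, 1 ≤ i → i ≤ J → θ i ^ p = 1 := fun i h1 h2 => by
    rw [hθ, ← map_pow]
    exact mk_eq_one (h.pow_mem (by omega) (comm_mem' (by omega) e (hFm i h1 h2)))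
  -- the recursion
  have heq : ∀ i, 1 ≤ i → i < J → θ i * π (Fn i) =
      π ⁅seq e u i, seq e u (J + 2 - i)⁆ * π (Fn i) * π ⁅seq e u (i + 1), seq e u (J + 2 - (i + 1))⁆ ∨ i = 1 := by
    intro i h1 h2
    rcases eq_or_lt_of_le h1 with rfl | h1'
    · exact Or.inr rfl
    left
    rw [show J + 2 - i = J + 1 - i + 1 by omega, show J + 2 - (i + 1) = J + 1 - i by omega, hθ, hFn]
    have h := conj_seq_comm e u (m := J + 3) (i := i) (k := J + 1 - i) h1 (by omega) (by omega) (by omega)
      (by omega) (by omega)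
    rw [show e * ⁅seq e u i, seq e u (J + 1 - i)⁆ * e⁻¹ =
      ⁅e, ⁅seq e u i, seq e u (J + 1 - i)⁆⁆ * ⁅seq e u i, seq e u (J + 1 - i)⁆ by
        simp only [commutatorElement_def]; group, map_mul] at h
    exact h
  have hbase : θ 1 = π ⁅seq e u 2, seq e u J⁆ := by
    have hy : ⁅e, seq e u J⁆ ∈ lay G (J + 2) := hfail _ (seq_mem e u J)
    have hF1 : Fn 1 = ⁅seq e u 1, seq e u J⁆ := by rw [hFn, show J + 1 - 1 = J by omega]
    have hX : e * Fn 1 * e⁻¹ = ⁅⁅e, seq e u 1⁆ * seq e u 1, ⁅e, seq e u J⁆ * seq e u J⁆ := by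
      rw [hF1]; simp [commutatorElement_def, mul_assoc]
    have h1 := congrArg π hX
    rw [show e * Fn 1 * e⁻¹ = ⁅e, Fn 1⁆ * Fn 1 by simp [commutatorElement_def], map_mul, ← hθ,
      map_commutatorElement, map_mul, map_mul, ← seq_succ e u le_rfl] at h1
    rw [expand ?hac ?hbc ?had ?ha ?hc] at h1
    case hac => exact mk_comm_eq_one (a := 2) (b := J + 2) (by omega) (by omega) (by omega) (seq_mem e u _) hy
    case hbc =>
      intro g
      rw [mk_comm_eq_one (a := 1) (b := J + 2) le_rfl (by omega) (by omega) (seq_mem e u 1) hy]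
      exact Commute.one_right g
    case had =>
      intro g
      rw [← map_commutatorElement]
      exact mk_central (by omega) (by omega)
        (comm_mem (a := 2) (by omega) (by omega) (seq_mem e u _) (seq_mem e u J)) g
    case ha =>
      rw [← map_commutatorElement]
      exact mk_commute (a := 2) (b := J + 1) (by omega) (by omega) (by omega) (seq_mem e u _)
        (hF1 ▸ hFm 1 le_rfl (by omega))
    case hc =>
      rw [← map_commutatorElement]
      exact mk_commute (a := J + 2) (b := J + 1) (by omega) (by omega) (by omega) hy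
        (hF1 ▸ hFm 1 le_rfl (by omega))
    rw [mk_comm_eq_one (a := 1) (b := J + 2) le_rfl (by omega) (by omega) (seq_mem e u 1) hy, one_mul,
      ← map_commutatorElement, ← map_commutatorElement, ← hF1, ← (hθm 1 le_rfl (by omega) _).eq] at h1
    exact mul_left_cancel h1
  have hθalt : ∀ i, 1 ≤ i → i < J → θ i * θ (i + 1) = 1 := by
    intro i h1 h2
    have h3 : Fn i * Fn (i + 1) ∈ lay G (J + 2) := by
      rw [← QuotientGroup.eq_one_iff, ← QuotientGroup.mk'_apply, map_mul, hFn, hFn]
      exact alt_first hfail i h1 h2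
    have h4 : π ⁅e, Fn i * Fn (i + 1)⁆ = 1 := mk_eq_one (comm_mem' (by omega) e h3)
    rw [map_commutatorElement, map_mul, commutatorElement_eq_one_iff_mul_comm] at h4
    have h5 : ∀ j, π e * π (Fn j) = θ j * (π (Fn j) * π e) := fun j => by
      rw [hθ, ← map_mul, ← map_mul, ← map_mul]
      congr 1; simp [commutatorElement_def, mul_assoc]
    rw [← mul_assoc, h5, mul_assoc, mul_assoc (π (Fn i)), h5, ← mul_assoc (π (Fn i)) (θ (i + 1)),
      (hθm (i + 1) (by omega) (by omega) (π (Fn i))).eq] at h4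
    simp only [← mul_assoc] at h4
    apply mul_right_cancel (b := π (Fn i))
    apply mul_right_cancel (b := π (Fn (i + 1)))
    apply mul_right_cancel (b := π e)
    rw [one_mul]
    exact h4
  -- `g i = θ (i - 1) ^ (i - 1)`
  have hgi : ∀ i, 2 ≤ i → i ≤ J → π ⁅seq e u i, seq e u (J + 2 - i)⁆ = θ (i - 1) ^ (i - 1) := by
    intro i h2
    induction i, h2 using Nat.le_induction with
    | base => intro _; rw [show J + 2 - 2 = J by omega, pow_one, hbase]
    | succ i hi ih =>
      intro hiJ
      have h1 := (heq i (by omega) (by omega)).resolve_right (by omega)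
      rw [ih (by omega), mul_assoc] at h1
      have hc : ∀ g, Commute g (π ⁅seq e u (i + 1), seq e u (J + 2 - (i + 1))⁆) := fun g =>
        mk_central (a := J + 2) (by omega) (by omega)
          (comm_mem_le (by omega) (by omega) (by omega) (seq_mem e u _) (seq_mem e u _)) g
      rw [(hc (π (Fn i))).eq, ← mul_assoc] at h1
      have h2' := mul_right_cancel h1
      have halt := hθalt (i - 1) (by omega) (by omega)
      rw [show i - 1 + 1 = i by omega] at halt
      have hinv : θ (i - 1) = (θ i)⁻¹ := eq_inv_of_mul_eq_one_left halt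
      rw [hinv, inv_pow, eq_inv_mul_iff_mul_eq, ← pow_succ, show i - 1 + 1 = i by omega] at h2'
      rw [show i + 1 - 1 = i by omega]
      exact h2'.symm
  have hmid := hgi (J' + 1) (by omega) (by omega)
  rw [show J + 2 - (J' + 1) = J' + 1 by omega, commutatorElement_self, map_one,
    show J' + 1 - 1 = J' by omega] at hmid
  have hne : θ J' ≠ 1 := by
    intro h0
    have h1 := alt_eq_one hθalt (m := J') (by omega) (by omega) h0 1 le_rfl (by omega)
    rw [hθ] at h1
    have hX := hnf' _ (hFm 1 le_rfl (by omega)) ((QuotientGroup.eq_one_iff _).mp h1)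
    rw [hFn, show J + 1 - 1 = J by omega] at hX
    exact first_failure_ne h hpair hJ (by omega) hnf hfail hX
  have hord := orderOf_eq_prime (hθp J' (by omega) (by omega)) hne
  have hdvd := orderOf_dvd_of_pow_eq_one hmid.symm
  rw [hord] at hdvd
  rwa [show J / 2 = J' by omega]

end CfsgLib.MaxClass94
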