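import Cfsg.Agent.Lib.FusionNormal.Maps
import Cfsg.Agent.Lib.Fusion.EssentialFlag

/-!
# Maps of a fusion system as functions on the underlying group
-/

set_option autoImplicit false
set_option linter.style.haveILetI false

namespace CfsgLib.MaxClass94

open Cfsg Cfsg.FusionSystem CfsgLib.Fusion CfsgLib.FusionNormal
open scoped commutatorElement

variable {Ω : Type*} [Group Ω] {S : Subgroup Ω} {F : FusionSystem S}

/-- The extension of a self-map of `↥S` to the ambient group. -/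
noncomputable def ext0 (f : ↥S → ↥S) (w : Ω) : Ω :=
  open scoped Classical in if h : w ∈ S then (f ⟨w, h⟩ : Ω) else 1

theorem ext0_coe (f : ↥S → ↥S) (x : S) : ext0 f (x : Ω) = (f x : Ω) := by
  rw [ext0, dif_pos x.2]

/-- `f` agrees on `P` with a map of `F` with source `P`. -/
def GFn (F : FusionSystem S) (P : Subgroup S) (f : ↥S → ↥S) : Prop :=
  MapFn F (P.map S.subtype) (ext0 f)

/-- `P` and `Q` are conjugate in `F`. -/
def GConj (F : FusionSystem S) (P Q : Subgroup S) : Prop :=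
  F.IsConj (P.map S.subtype) (Q.map S.subtype)

theorem mem_map_coe {P : Subgroup S} {x : S} : (x : Ω) ∈ P.map S.subtype ↔ x ∈ P :=
  Subgroup.mem_map_iff_mem S.subtype_injective

theorem card_map_coe (P : Subgroup S) : Nat.card (P.map S.subtype) = Nat.card P :=
  Subgroup.card_map_of_injective S.subtype_injective

theorem normalizerIn_map (P : Subgroup S) :
    normalizerIn S (P.map S.subtype) = (Subgroup.normalizer (P : Set S)).map S.subtype := by
  ext w
  constructor
  · intro hw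
    refine ⟨⟨w, hw.1⟩, Subgroup.mem_normalizer_iff.mpr fun y => ?_, rfl⟩
    rw [← mem_map_coe (Ω := Ω), ← mem_map_coe (Ω := Ω)]
    exact Subgroup.mem_normalizer_iff.mp hw.2 (y : Ω)
  · rintro ⟨g, hg, rfl⟩
    refine ⟨g.2, Subgroup.mem_normalizer_iff.mpr fun y => ?_⟩
    constructor
    · rintro ⟨x, hx, rfl⟩
      exact ⟨g * x * g⁻¹, (Subgroup.mem_normalizer_iff.mp hg x).mp hx, by simp⟩
    · rintro ⟨x, hx, hxy⟩
      refine ⟨g⁻¹ * x * g, (Subgroup.mem_normalizer_iff.mp hg _).mpr (by simpa [mul_assoc] using hx), ?_⟩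
      simp only [Subgroup.coe_subtype, Subgroup.coe_mul, Subgroup.coe_inv] at hxy ⊢
      rw [hxy]; group

namespace GFn

variable {P Q R : Subgroup S} {f g : ↥S → ↥S}

theorem map_mul (h : GFn F P f) {x y : S} (hx : x ∈ P) (hy : y ∈ P) : f (x * y) = f x * f y := by
  have h1 := MapFn.map_mul h (mem_map_coe.mpr hx) (mem_map_coe.mpr hy)
  rw [← Subgroup.coe_mul, ext0_coe, ext0_coe, ext0_coe] at h1
  exact Subtype.ext h1

theorem injOn (h : GFn F P f) {x y : S} (hx : x ∈ P) (hy : y ∈ P) (e : f x = f y) : x = y :=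
  Subtype.ext (MapFn.injOn h (mem_map_coe.mpr hx) (mem_map_coe.mpr hy) (by rw [ext0_coe, ext0_coe, e]))

theorem map_one (h : GFn F P f) : f 1 = 1 := by
  have := h.map_mul P.one_mem P.one_mem
  rw [one_mul] at this
  exact left_eq_mul.mp this

theorem map_inv (h : GFn F P f) {x : S} (hx : x ∈ P) : f x⁻¹ = (f x)⁻¹ := by
  refine eq_inv_of_mul_eq_one_left ?_
  rw [← h.map_mul (P.inv_mem hx) hx, inv_mul_cancel, h.map_one]

theorem map_zpow (h : GFn F P f) {x : S} (hx : x ∈ P) (k : ℤ) : f (x ^ k) = f x ^ k := by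
  induction k with
  | zero => rw [zpow_zero, zpow_zero, h.map_one]
  | succ n ih => rw [zpow_add_one, zpow_add_one, h.map_mul (P.zpow_mem hx _) hx, ih]
  | pred n ih => rw [zpow_sub_one, zpow_sub_one, h.map_mul (P.zpow_mem hx _) (P.inv_mem hx), ih, h.map_inv hx]

theorem map_comm (h : GFn F P f) {x y : S} (hx : x ∈ P) (hy : y ∈ P) : f ⁅x, y⁆ = ⁅f x, f y⁆ := by
  rw [commutatorElement_def, h.map_mul (P.mul_mem (P.mul_mem hx hy) (P.inv_mem hx)) (P.inv_mem hy),
    h.map_mul (P.mul_mem hx hy) (P.inv_mem hx), h.map_mul hx hy, h.map_inv hx, h.map_inv hy,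
    commutatorElement_def]

theorem mono (h : GFn F P f) (hR : R ≤ P) : GFn F R f := MapFn.mono h (Subgroup.map_mono hR)

theorem congr (h : GFn F P f) (e : ∀ x ∈ P, f x = g x) : GFn F P g :=
  MapFn.congr h (by
    rintro _ ⟨x, hx, rfl⟩
    simp only [Subgroup.coe_subtype, ext0_coe, e x hx])

theorem comp (hf : GFn F P f) (hg : GFn F Q g) (hm : ∀ x ∈ P, f x ∈ Q) : GFn F P (g ∘ f) := by
  refine MapFn.congr (MapFn.comp hf hg ?_) ?_
  · rintro _ ⟨x, hx, rfl⟩
    simp only [Subgroup.coe_subtype, ext0_coe]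
    exact mem_map_coe.mpr (hm x hx)
  · rintro _ ⟨x, hx, rfl⟩
    simp only [Subgroup.coe_subtype, Function.comp_apply, ext0_coe]

theorem card_image (h : GFn F P f) : (f '' P).ncard = Nat.card P := by
  rw [Set.InjOn.ncard_image fun x hx y hy e => h.injOn hx hy e, ← Nat.card_coe_set_eq]; rfl

theorem image_eq [Finite S] (h : GFn F P f) (hm : ∀ x ∈ P, f x ∈ Q) (hc : Nat.card Q ≤ Nat.card P) :
    f '' P = (Q : Set S) := by
  refine Set.eq_of_subset_of_ncard_le (Set.image_subset_iff.mpr hm) ?_ (Set.toFinite _)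
  rw [h.card_image, ← Nat.card_coe_set_eq]
  exact hc

theorem image_map (hr : f '' P = (Q : Set S)) :
    ext0 f '' (P.map S.subtype : Set Ω) = (Q.map S.subtype : Set Ω) := by
  rw [Subgroup.coe_map, Subgroup.coe_map, Set.image_image, ← hr, Set.image_image]
  exact Set.image_congr fun x _ => ext0_coe f x

theorem gconj (h : GFn F P f) (hr : f '' P = (Q : Set S)) : GConj F P Q :=
  MapFn.isConj h (image_map hr)

theorem mem_normalizer [Finite S] (h : GFn F R f) (hPR : P ≤ R) (hr : f '' P = (Q : Set S)) {x : S}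
    (hx : x ∈ R) (hxP : x ∈ Subgroup.normalizer (P : Set S)) : f x ∈ Subgroup.normalizer (Q : Set S) := by
  have h1 := MapFn.mem_normalizerIn h (Subgroup.map_mono hPR) (image_map hr) (mem_map_coe.mpr hx)
    ((normalizerIn_map P).ge (Subgroup.mem_map_of_mem _ hxP)).2
  rw [normalizerIn_map, ext0_coe, mem_map_coe] at h1
  exact h1

end GFn

variable [Finite S] {P Q : Subgroup S}

theorem gfn_conj (P : Subgroup S) (a : S) : GFn F P fun x => a * x * a⁻¹ :=
  MapFn.congr (mapFn_conj (Subgroup.map_subtype_le P) a.2) (by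
    rintro _ ⟨x, -, rfl⟩
    simp [ext0_coe])

theorem gfn_of_mapFn {f : Ω → Ω} (h : MapFn F (P.map S.subtype) f) :
    ∃ f' : ↥S → ↥S, GFn F P f' ∧ ∀ x ∈ P, (f' x : Ω) = f x := by
  classical
  refine ⟨fun x => if hx : f x ∈ S then ⟨f x, hx⟩ else 1, MapFn.congr h ?_, fun x hx => ?_⟩
  · rintro _ ⟨x, hx, rfl⟩
    have := h.mem_S (Subgroup.mem_map_of_mem _ hx)
    simp only [Subgroup.coe_subtype, ext0_coe]
    rw [dif_pos (by exact this)]
  · simp only []
    rw [dif_pos (show f (x : Ω) ∈ S from h.mem_S (Subgroup.mem_map_of_mem _ hx))]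

theorem GConj.exists_fn (h : GConj F P Q) : ∃ f, GFn F P f ∧ f '' P = (Q : Set S) := by
  obtain ⟨f, hf, hr⟩ := isConj_iff.mp h
  obtain ⟨f', hf', he⟩ := gfn_of_mapFn hf
  refine ⟨f', hf', hf'.image_eq (fun x hx => mem_map_coe.mp ?_) ?_⟩
  · rw [he x hx]; exact mem_of_image hr (Subgroup.mem_map_of_mem _ hx)
  · rw [← card_map_coe Q, ← card_map_coe P]
    exact (Fusion.IsConj.card_eq h).le

theorem GConj.symm' (h : GConj F P Q) : GConj F Q P := Fusion.isConj_symm h

theorem gconj_normalizer_le (hP : F.IsFullyNormalized (P.map S.subtype)) (h : GConj F P Q) :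
    Nat.card (Subgroup.normalizer (Q : Set S)) ≤ Nat.card (Subgroup.normalizer (P : Set S)) := by
  have h1 := hP.2 _ h
  rwa [normalizerIn_map, normalizerIn_map, card_map_coe, card_map_coe] at h1

theorem fullyNormalized_of (h : ∀ Q, GConj F P Q →
    Nat.card (Subgroup.normalizer (Q : Set S)) ≤ Nat.card (Subgroup.normalizer (P : Set S))) :
    F.IsFullyNormalized (P.map S.subtype) := by
  refine ⟨Subgroup.map_subtype_le P, fun Q hQ => ?_⟩
  have hQS := Fusion.IsConj.le_right hQ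
  have hQ' : (Q.subgroupOf S).map S.subtype = Q := Subgroup.map_subgroupOf_eq_of_le hQS
  have h1 := h (Q.subgroupOf S) (by rw [GConj, hQ']; exact hQ)
  rw [← hQ', normalizerIn_map, normalizerIn_map, card_map_coe, card_map_coe]
  exact h1

theorem exists_extension_of {p : ℕ} [Fact p.Prime] (hS : IsPGroup p S) (hF : F.IsSaturated p)
    (hQ : F.IsFullyNormalized (Q.map S.subtype)) {f : ↥S → ↥S} (hf : GFn F P f) (hr : f '' P = (Q : Set S))
    {R : Subgroup S} (hPR : P ≤ R) (hR : R ≤ Subgroup.normalizer (P : Set S))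
    (h : ∀ g ∈ R, ∃ s : S, ∀ x ∈ P, f (g * x * g⁻¹) = s * f x * s⁻¹) :
    ∃ f', GFn F R f' ∧ ∀ x ∈ P, f' x = f x := by
  obtain ⟨k, hk, hke⟩ := MapFn.exists_extension (fullyNormalized_good hS hF hQ).2 hf (GFn.image_map hr)
    (Subgroup.map_mono hPR) ((Subgroup.map_mono hR).trans (normalizerIn_map P).ge) (by
      rintro _ ⟨g, hg, rfl⟩
      obtain ⟨s, hs⟩ := h g hg
      refine ⟨s, s.2, ?_⟩
      rintro _ ⟨x, hx, rfl⟩
      have h1 := congrArg Subtype.val (hs x hx)
      simp only [Subgroup.coe_subtype, ← Subgroup.coe_mul, ← Subgroup.coe_inv, ext0_coe]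
      rw [h1])
  obtain ⟨f', hf', he⟩ := gfn_of_mapFn hk
  refine ⟨f', hf', fun x hx => Subtype.ext ?_⟩
  rw [he x (hPR hx), ← ext0_coe f x]
  exact hke _ (Subgroup.mem_map_of_mem _ hx)

/-- An automorphism of a fully normalized subgroup with an invariant series of index `p` steps extends to
the normalizer. -/
theorem extend_of_flag {p : ℕ} [Fact p.Prime] (hS : IsPGroup p S) (hF : F.IsSaturated p)
    {W : Subgroup S} (hW : F.IsFullyNormalized (W.map S.subtype)) (m : ℕ) (L : ℕ → Subgroup S)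
    (h0 : L 0 = ⊥) (hm : L m = W) (hmono : ∀ i < m, L i ≤ L (i + 1))
    (hcard : ∀ i < m, Nat.card (L (i + 1)) = p * Nat.card (L i))
    (hinv : ∀ f, GFn F W f → f '' W = (W : Set S) → ∀ i ≤ m, ∀ x ∈ L i, f x ∈ L i)
    {f : ↥S → ↥S} (hf : GFn F W f) (hfr : f '' W = (W : Set S)) :
    ∃ f', GFn F (Subgroup.normalizer (W : Set S)) f' ∧ (∀ x ∈ W, f' x = f x) ∧
      ∀ x ∈ Subgroup.normalizer (W : Set S), f' x ∈ Subgroup.normalizer (W : Set S) := by
  classical
  set P := W.map S.subtype with hPdef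
  have hPS : P ≤ S := Subgroup.map_subtype_le W
  haveI : Finite P := finite_of_le hPS
  haveI : Finite (MulAut P) := finite_mulAut hPS
  have hLW : ∀ i ≤ m, L i ≤ W := by
    intro i hi
    induction hi using Nat.decreasingInduction with
    | self => rw [hm]
    | of_succ k hk ih => exact (hmono k hk).trans ih
  let L' : ℕ → Subgroup P := fun i => ((L i).map S.subtype).subgroupOf P
  have hmemL : ∀ i (x : P), x ∈ L' i ↔ (⟨x, hPS x.2⟩ : S) ∈ L i := fun i x => by
    rw [Subgroup.mem_subgroupOf]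
    exact mem_map_coe (P := L i) (x := ⟨x, hPS x.2⟩)
  have hinv' : ∀ i ≤ m, ∀ a ∈ F.autGroup P, ∀ x ∈ L' i, a x ∈ L' i := by
    intro i hi a ha x hx
    obtain ⟨k, hk, hkr, hke⟩ := exists_mapFn_of_aut hPS ha
    obtain ⟨k', hk', he⟩ := gfn_of_mapFn (P := W) hk
    have hk'r : k' '' W = (W : Set S) := hk'.image_eq (fun y hy => mem_map_coe.mp (by
      rw [he y hy]; exact mem_of_image hkr (Subgroup.mem_map_of_mem _ hy))) le_rfl
    rw [hmemL] at hx ⊢
    have hxW : (⟨x, hPS x.2⟩ : S) ∈ W := hLW i hi hx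
    have h1 := hinv k' hk' hk'r i hi _ hx
    convert h1 using 1
    exact Subtype.ext ((hke x).symm.trans (he _ hxW).symm)
  have hLn : ∀ i ≤ m, (L' i).Normal := fun i hi => ⟨fun x hx w => by
    have hw : (⟨w, hPS w.2⟩ : S) ∈ W := mem_map_coe.mp w.2
    have hr : (fun y : S => ⟨w, hPS w.2⟩ * y * (⟨w, hPS w.2⟩ : S)⁻¹) '' W = (W : Set S) :=
      (gfn_conj (F := F) W _).image_eq (fun y hy => mul_mem (mul_mem hw hy) (inv_mem hw)) le_rfl
    rw [hmemL] at hx ⊢
    have h1 := hinv _ (gfn_conj W _) hr i hi _ hx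
    convert h1 using 1
    exact Subtype.ext (by simp)⟩
  have hL'c : ∀ i < m, Nat.card (L' (i + 1)) = p * Nat.card (L' i) := fun i hi => by
    have e : ∀ j ≤ m, Nat.card (L' j) = Nat.card (L j) := fun j hj =>
      (Nat.card_congr (Subgroup.subgroupOfEquivOfLe (Subgroup.map_mono (hLW j hj))).toEquiv).trans
        (card_map_coe _)
    rw [e _ (by omega), e _ hi.le, hcard i hi]
  have htop : L' m = ⊤ := by
    rw [eq_top_iff]
    intro x _
    rw [hmemL, hm]
    exact mem_map_coe.mp x.2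
  set A := F.autGroup P
  set N := (seriesStabilizer F P m L' hinv').subgroupOf A with hNdef
  have hNn : N.Normal := ⟨fun a ha b => seriesStabilizer_conj_mem (hinv := hinv') ha b.2⟩
  have hNp : IsPGroup p N := by
    intro a
    obtain ⟨l, hl⟩ := exists_pow_eq_one_of_stabilizes (hS.to_le hPS) L'
      (fun i hi => Subgroup.comap_mono (Subgroup.map_mono (hmono i hi))) htop
      (α := ((a : A) : MulAut P)) ⟨0, fun x hx => by
        rw [hmemL, h0, Subgroup.mem_bot] at hx
        have : x = 1 := Subtype.ext (congrArg (fun y : S => (y : Ω)) hx)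
        simp [this]⟩ ((mem_seriesStabilizer (a := ((a : A) : MulAut P)) (hinv := hinv')).mp a.2).2
    exact ⟨l, Subtype.ext (Subtype.ext hl)⟩
  obtain ⟨-, R, hR⟩ := (fullyNormalized_good hS hF hW).1
  have hstab : ∀ a ∈ A, ∀ k, a ^ p ^ k = 1 → a ∈ autInducedBy S P := by
    intro a ha k hk
    have hmem : (⟨a, ha⟩ : A) ∈ N := (mem_seriesStabilizer (hinv := hinv') (a := a)).mpr ⟨ha, fun i hi => by
      exact CfsgLib.FusionFlag.stabilizes_step (K := L' i) (L := L' (i + 1)) (hK := hLn i hi.le) (Subgroup.comap_mono (Subgroup.map_mono (hmono i hi)))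
        (hL'c i hi) hk (hinv' (i + 1) hi a ha) (hinv' i hi.le a ha)⟩
    exact (hR ▸ hNp.le_sylow_of_normal R) hmem
  -- conjugates of inner maps are inner
  obtain ⟨α, hα, hαe⟩ := MapFn.exists_aut hf (GFn.image_map hfr)
  have hcond : ∀ g ∈ Subgroup.normalizer (W : Set S), ∃ s : S, ∀ x ∈ W, f (g * x * g⁻¹) = s * f x * s⁻¹ := by
    intro g hg
    obtain ⟨β, hβ, hβe⟩ := exists_autInducedBy (K := S) g.2 (P := P)
      ((normalizerIn_map W).ge (Subgroup.mem_map_of_mem _ hg)).2
    obtain ⟨k, hk⟩ := isPGroup_autInducedBy hS P ⟨β, hβ⟩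
    have hk' : β ^ p ^ k = 1 := congrArg Subtype.val hk
    obtain ⟨s, hs, hse⟩ := mem_autInducedBy.mp (hstab (α * β * α⁻¹)
      (mul_mem (mul_mem hα (autInducedBy_le_autGroup hPS hβ)) (inv_mem hα)) k
      (by rw [conj_pow, hk', mul_one, mul_inv_cancel]))
    refine ⟨⟨s, hs⟩, fun x hx => Subtype.ext ?_⟩
    have h1 := hse (α ⟨x, Subgroup.mem_map_of_mem _ hx⟩)
    rw [MulAut.mul_apply, MulAut.mul_apply, MulAut.inv_apply_self, hαe, hαe, hβe] at h1
    rw [← ext0_coe f (g * x * g⁻¹)]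
    simp only [Subgroup.coe_subtype, Subgroup.coe_mul, Subgroup.coe_inv] at h1 ⊢
    rw [h1, ← ext0_coe f x]
  obtain ⟨f', hf', he⟩ := exists_extension_of hS hF hW hf hfr Subgroup.le_normalizer le_rfl hcond
  refine ⟨f', hf', he, fun x hx => hf'.mem_normalizer Subgroup.le_normalizer
    ((Set.image_congr fun y hy => he y hy).trans hfr) hx hx⟩

end CfsgLib.MaxClass94
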