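import Cfsg.Agent.Lib.MaxClass94.Common

/-!
# The configurations in orders `p ^ 5` and `p ^ 6` with failures on the layers two and three
-/

set_option autoImplicit false
set_option linter.style.haveILetI false

namespace CfsgLib.MaxClass94

open Cfsg Cfsg.FusionSystem CfsgLib.Fusion CfsgLib.FusionNormal
open scoped commutatorElement

theorem comm_sup {G : Type*} [Group G] {N : Subgroup G} [N.Normal] {A B : Subgroup G} {x : G}
    (hA : ∀ a ∈ A, ⁅x, a⁆ ∈ N) (hB : ∀ b ∈ B, ⁅x, b⁆ ∈ N) {w : G} (hw : w ∈ A ⊔ B) : ⁅x, w⁆ ∈ N := by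
  let π := QuotientGroup.mk' N
  have h : ∀ y, ⁅x, y⁆ ∈ N ↔ y ∈ (Subgroup.centralizer {π x}).comap π := fun y => by
    rw [Subgroup.mem_comap, Subgroup.mem_centralizer_singleton_iff, eq_comm,
      ← commutatorElement_eq_one_iff_mul_comm, ← _root_.map_commutatorElement]
    exact (QuotientGroup.eq_one_iff _).symm
  have hle : A ⊔ B ≤ (Subgroup.centralizer {π x}).comap π :=
    sup_le (fun a ha => (h a).mp (hA a ha)) fun b hb => (h b).mp (hB b hb)
  exact (h w).mpr (hle hw)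

theorem zpowers_comm_mem {G : Type*} [Group G] {N : Subgroup G} [N.Normal] {x y : G} (h : ⁅x, y⁆ ∈ N) :
    ∀ a ∈ Subgroup.zpowers y, ⁅x, a⁆ ∈ N := by
  let π := QuotientGroup.mk' N
  have h' : ∀ a, ⁅x, a⁆ ∈ N ↔ a ∈ (Subgroup.centralizer {π x}).comap π := fun a => by
    rw [Subgroup.mem_comap, Subgroup.mem_centralizer_singleton_iff, eq_comm,
      ← commutatorElement_eq_one_iff_mul_comm, ← _root_.map_commutatorElement]
    exact (QuotientGroup.eq_one_iff _).symm
  exact fun a ha => (h' a).mpr ((Subgroup.zpowers_le.mpr ((h' y).mp h)) ha)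

section group

variable {G : Type*} [Group G] [Finite G] {p n : ℕ} [Fact p.Prime]

theorem MC.dvd_of_zpow_mem (h : MC G p n) {i : ℕ} (h2 : 2 ≤ i) {y : G} (hy : y ∈ lay G i) (hy' : y ∉ lay G (i + 1))
    {k : ℤ} (hk : y ^ k ∈ lay G (i + 1)) : (p : ℤ) ∣ k := by
  by_contra hc
  obtain ⟨s, t, hst⟩ : IsCoprime k (p : ℤ) :=
    ((Nat.prime_iff_prime_int.mp Fact.out).coprime_iff_not_dvd.mpr hc).symm
  refine hy' ?_
  rw [← zpow_one y, ← hst, zpow_add, mul_comm s, zpow_mul, mul_comm t, zpow_mul, zpow_natCast]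
  exact mul_mem (zpow_mem hk s) (zpow_mem (h.pow_mem h2 hy) t)

theorem MC.dvd_or_dvd (h : MC G p n) {i : ℕ} (h2 : 2 ≤ i) {y : G} (hy : y ∈ lay G i) (hy' : y ∉ lay G (i + 1))
    {f : G → G} (hf : ∀ a b, f (a * b) = f a * f b) {c : ℤ} (hfy : f y * y ^ (-c) ∈ lay G (i + 1))
    (hlay : ∀ l ∈ lay G (i + 1), f l ∈ lay G (i + 1)) {d : G} (hd : d ∈ lay G i) (hd' : d ∉ lay G (i + 1))
    (hfd : f d * d⁻¹ ∈ lay G (i + 1)) : (p : ℤ) ∣ c - 1 := by
  let φ : G →* G := MonoidHom.mk' f hf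
  let π := QuotientGroup.mk' (lay G (i + 1))
  obtain ⟨_, ⟨r, rfl⟩, l, hl, rfl⟩ := Subgroup.mem_sup_of_normal_right.mp ((h.sup_zpowers h2 hy hy').ge hd)
  dsimp only [] at hd hd' hfd
  have h1 : π (f y) = π y ^ c := by
    have := mk_eq_one hfy
    rwa [map_mul, map_zpow, mul_eq_one_iff_eq_inv, ← zpow_neg, neg_neg] at this
  have h2' : π (f (y ^ r * l)) = π (y ^ r * l) := by
    have := mk_eq_one hfd
    rwa [map_mul, map_inv, mul_inv_eq_one] at this
  have hmem : y ^ ((c - 1) * r) ∈ lay G (i + 1) := by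
    rw [← QuotientGroup.eq_one_iff, ← QuotientGroup.mk'_apply, map_zpow]
    change π y ^ ((c - 1) * r) = 1
    rw [hf, map_mul, show f (y ^ r) = f y ^ r from map_zpow φ y r, map_zpow, h1, map_mul, map_zpow,
      show π (f l) = 1 from mk_eq_one (hlay l hl), show π l = 1 from mk_eq_one hl, mul_one, mul_one, ← zpow_mul] at h2'
    rw [sub_mul, one_mul, zpow_sub, h2', mul_inv_cancel]
  rcases (Nat.prime_iff_prime_int.mp Fact.out).dvd_or_dvd (h.dvd_of_zpow_mem h2 hy hy' hmem) with h3 | h3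
  · exact h3
  · exfalso
    obtain ⟨r', rfl⟩ := h3
    refine hd' (mul_mem ?_ hl)
    rw [zpow_mul, zpow_natCast]
    exact zpow_mem (h.pow_mem (by omega) hy) r'

omit [Finite G] [Fact p.Prime] in
/-- The sign on the next layer. -/
theorem sign_step {u m x : G} {k : ℕ} (hk : 1 ≤ k) {f : G → G} (hf : ∀ a b, f (a * b) = f a * f b)
    {ε c : ℤ} (hfu : f u = u ^ ε * m) (hm : ∀ y ∈ lay G k, ⁅m, y⁆ ∈ lay G (k + 2)) (hx : x ∈ lay G k)
    (hfx : f x * x ^ (-c) ∈ lay G (k + 1)) :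
    f ⁅u, x⁆ * ⁅u, x⁆ ^ (-(ε * c)) ∈ lay G (k + 2) := by
  let φ : G →* G := MonoidHom.mk' f hf
  let π := QuotientGroup.mk' (lay G (k + 2))
  have hfxk : f x ∈ lay G k := (mul_mem_cancel_right (zpow_mem hx _)).mp (lay_anti (Nat.le_succ k) hfx)
  have h1 : π ⁅m, f x⁆ = 1 := mk_eq_one (hm _ hfxk)
  have h2 : π ⁅u ^ ε, f x * x ^ (-c)⁆ = 1 := mk_eq_one (comm_mem' (by omega) _ hfx)
  have hX : ∀ g, Commute g ⁅π u, π x⁆ := fun g => by
    rw [← map_commutatorElement]; exact mk_central (by omega) (by omega) (comm_mem' hk u hx) g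
  rw [map_commutatorElement] at h1 h2
  rw [← QuotientGroup.eq_one_iff, ← QuotientGroup.mk'_apply]
  change π (f ⁅u, x⁆ * ⁅u, x⁆ ^ (-(ε * c))) = 1
  rw [show f ⁅u, x⁆ = ⁅f u, f x⁆ from map_commutatorElement φ u x, hfu, map_mul, map_zpow, map_commutatorElement,
    map_commutatorElement, map_mul, map_zpow,
    show ⁅π u ^ ε * π m, π (f x)⁆ = π u ^ ε * ⁅π m, π (f x)⁆ * (π u ^ ε)⁻¹ * ⁅π u ^ ε, π (f x)⁆ by
      simp only [commutatorElement_def]; group,
    h1, mul_one, mul_inv_cancel, one_mul]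
  have h3 : π (f x) = π (f x * x ^ (-c)) * π x ^ c := by
    rw [← map_zpow, ← map_mul, mul_assoc, ← zpow_add, neg_add_cancel, zpow_zero, mul_one]
  rw [map_zpow] at h2
  rw [h3, show ⁅π u ^ ε, π (f x * x ^ (-c)) * π x ^ c⁆ = ⁅π u ^ ε, π (f x * x ^ (-c))⁆ *
      (π (f x * x ^ (-c)) * ⁅π u ^ ε, π x ^ c⁆ * (π (f x * x ^ (-c)))⁻¹) by
      simp only [commutatorElement_def]; group,
    h2, one_mul, comm_zpow_zpow (hX _) (hX _), ((hX _).zpow_right (ε * c)).eq, mul_inv_cancel_right, ← zpow_add,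
    add_neg_cancel, zpow_zero]

/-- The sign on the second layer. -/
theorem sign_two (h : MC G p n) {e u m : G} (hpair : Pair e u) {f : G → G} (hf : ∀ a b, f (a * b) = f a * f b)
    {ε : ℤ} (hfu : f u = u ^ ε * m) (hm : m ∈ Subgroup.zpowers e ⊔ lay G 2) (hfe : f e * e ∈ lay G 2) :
    f (seq e u 2) * seq e u 2 ^ (-(-ε)) ∈ lay G 3 := by
  let φ : G →* G := MonoidHom.mk' f hf
  let π := QuotientGroup.mk' (lay G 3)
  have hx : ⁅e, u⁆ ∈ lay G 2 := comm_mem (a := 1) (b := 1) le_rfl le_rfl (Subgroup.mem_top e) (Subgroup.mem_top u)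
  have hX : ∀ g, Commute g ⁅π e, π u⁆ := fun g => by
    rw [← map_commutatorElement]; exact mk_central (by omega) (by omega) hx g
  have h1 : π ⁅e, m⁆ = 1 := mk_eq_one (comm_sup (zpowers_comm_mem (by rw [commutatorElement_self]; exact one_mem _))
    (fun b hb => comm_mem' (by omega) e hb) hm)
  have h2 : π ⁅f e * e, u ^ ε * m⁆ = 1 := by
    refine mk_eq_one ?_
    rw [← commutatorElement_inv]
    exact inv_mem (comm_mem' (by omega) _ hfe)
  rw [seq_succ e u le_rfl]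
  change f ⁅e, u⁆ * ⁅e, u⁆ ^ (-(-ε)) ∈ lay G 3
  rw [← QuotientGroup.eq_one_iff, ← QuotientGroup.mk'_apply]
  change π (f ⁅e, u⁆ * ⁅e, u⁆ ^ (-(-ε))) = 1
  rw [map_commutatorElement, map_mul] at h2
  rw [map_commutatorElement] at h1
  have h4 : ⁅(π e) ^ (-1 : ℤ), π (u ^ ε * m)⁆ = ⁅π e, π u⁆ ^ (-ε) := by
    have hm1 : ⁅(π e) ^ (-1 : ℤ), π m⁆ = 1 := by
      rw [zpow_neg_one, show ⁅(π e)⁻¹, π m⁆ = (π e)⁻¹ * ⁅π e, π m⁆⁻¹ * π e by
        simp only [commutatorElement_def]; group, h1, inv_one, mul_one, inv_mul_cancel]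
    rw [map_mul, map_zpow,
      show ⁅(π e) ^ (-1 : ℤ), π u ^ ε * π m⁆ = ⁅(π e) ^ (-1 : ℤ), π u ^ ε⁆ *
        (π u ^ ε * ⁅(π e) ^ (-1 : ℤ), π m⁆ * (π u ^ ε)⁻¹) by simp only [commutatorElement_def]; group,
      hm1, mul_one, mul_inv_cancel, mul_one, comm_zpow_zpow (hX _) (hX _), neg_one_mul]
  have h3 : π (f e) = π (f e * e) * π e ^ (-1 : ℤ) := by
    rw [map_mul, zpow_neg_one, mul_inv_cancel_right]
  rw [show f ⁅e, u⁆ = ⁅f e, f u⁆ from map_commutatorElement φ e u, hfu, map_mul, map_zpow, map_commutatorElement,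
    map_commutatorElement, h3,
    show ⁅π (f e * e) * π e ^ (-1 : ℤ), π (u ^ ε * m)⁆ = π (f e * e) * ⁅π e ^ (-1 : ℤ), π (u ^ ε * m)⁆ *
      (π (f e * e))⁻¹ * ⁅π (f e * e), π (u ^ ε * m)⁆ by simp only [commutatorElement_def]; group,
    map_mul π (f e) e, h2, mul_one, h4, ((hX _).zpow_right (-ε)).eq, mul_inv_cancel_right, ← zpow_add,
    add_neg_cancel, zpow_zero]

end group

variable {Ω : Type*} [Group Ω] {S : Subgroup Ω} {F : FusionSystem S} {p n : ℕ} [Fact p.Prime] [Finite S]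
  {E : Subgroup S} {e u : S}

theorem Ess.inf_two (h : Ess F p n E) (he : e ∈ E) (hpair : Pair e u) :
    Nat.card ↥(E ⊓ lay S 2) = p ^ 2 ∧ Subgroup.zpowers e ⊔ (E ⊓ lay S 2) = E := by
  have hpp : p.Prime := Fact.out
  have h1 := CfsgLib.Fusion.MaxClass.mul_card_le_of_lt h.isP
    (lt_of_le_of_ne (inf_le_left : E ⊓ lay S 2 ≤ E) fun h0 => hpair.1 (h0.ge he).2)
  rw [h.small.card, pow_succ'] at h1
  have hle : Nat.card ↥(E ⊓ lay S 2) ≤ p ^ 2 := Nat.le_of_mul_le_mul_left h1 hpp.pos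
  have hge : p ^ 2 ≤ Nat.card ↥(E ⊓ lay S 2) := by
    have hEt : E ⊔ lay S 2 ≠ ⊤ := fun ht => by
      have h2 := eq_top_of_sup_lay_two h.mc ht
      have h3 := h.small.card
      rw [h2, Subgroup.card_top, h.mc.card] at h3
      have := h.five
      exact absurd (Nat.pow_right_injective hpp.two_le h3) (by omega)
    have h2 := CfsgLib.Fusion.MaxClass.mul_card_le_of_lt h.isP hEt.lt_top
    rw [Subgroup.card_top, h.mc.card] at h2
    have h3 := card_mul_of_normal E (lay S 2)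
    have h5 := h.five
    rw [h.small.card, h.mc.card_lay le_rfl (by omega)] at h3
    have h4 : p * (p ^ 3 * p ^ (n - 2)) ≤ Nat.card ↥(E ⊓ lay S 2) * p ^ n := by
      calc p * (p ^ 3 * p ^ (n - 2)) = Nat.card ↥(E ⊓ lay S 2) * (p * Nat.card ↥(E ⊔ lay S 2)) := by rw [h3]; ring
        _ ≤ _ := Nat.mul_le_mul_left _ h2
    rw [← pow_add, ← pow_succ', show 3 + (n - 2) + 1 = 2 + n by omega, pow_add] at h4
    exact Nat.le_of_mul_le_mul_right h4 (pow_pos hpp.pos _)
  refine ⟨le_antisymm hle hge, Subgroup.eq_of_le_of_card_ge (sup_le (Subgroup.zpowers_le.mpr he) inf_le_left) ?_⟩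
  have h2 := CfsgLib.Fusion.MaxClass.mul_card_le_of_lt h.isP (H := E ⊓ lay S 2)
    (K := Subgroup.zpowers e ⊔ (E ⊓ lay S 2))
    (lt_of_le_of_ne le_sup_right fun h0 => hpair.1 (h0.ge (Subgroup.mem_sup_left (Subgroup.mem_zpowers e))).2)
  rw [h.small.card, pow_succ']
  exact (Nat.mul_le_mul_left p hge).trans h2

/-- The transvection given by a deep element, and the resulting self-map of the normalizer of `E`. -/
theorem Ess.two_data (h : Ess F p n E) (he : e ∈ E) (hpair : Pair e u) (hC : ∀ q, Commute q e ↔ q ∈ E)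
    {g : S} (hg : g ∈ lay S 2) (hgE : g ∉ E) (hgC : ∀ c ∈ E ⊓ lay S 2, Commute g c)
    (hz : ⁅g, e⁆ ∈ lay S (n - 1)) :
    (∀ w ∈ E, Commute g w → w ∈ lay S 2) ∧ Subgroup.zpowers ⁅g, e⁆ = lay S (n - 1) ∧
      Subgroup.zpowers g ⊔ E = Subgroup.normalizer (E : Set S) ∧
      ∃ f, Auto F (Subgroup.normalizer (E : Set S)) f ∧ g⁻¹ * f g ∈ E ∧ f e * e ∈ lay S 2 ∧
        ∃ d ∈ E ⊓ lay S 2, f d = d ∧ d ∉ lay S (n - 1) := by
  have hpp : p.Prime := Fact.out
  have h5 := h.five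
  obtain ⟨hCc, hEgen⟩ := h.inf_two he hpair
  obtain ⟨z, hzdef⟩ : ∃ z, z = ⁅g, e⁆ := ⟨_, rfl⟩
  rw [← hzdef] at hz ⊢
  have hz1 : z ≠ 1 := fun h0 => hgE ((hC g).mp (commutatorElement_eq_one_iff_mul_comm.mp (hzdef ▸ h0)))
  have hcen : ∀ v ∈ lay S (n - 1), ∀ q, Commute q v := fun v hv q => commutatorElement_eq_one_iff_mul_comm.mp
    (Subgroup.mem_bot.mp (h.mc.bot (i := n - 1 + 1) (by omega) ▸ comm_mem' (by omega) q hv))
  have hzp : z ^ p = 1 := Subgroup.mem_bot.mp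
    (h.mc.bot (i := n - 1 + 1) (by omega) ▸ h.mc.pow_mem (by omega) hz)
  have hL1 : Subgroup.zpowers z = lay S (n - 1) := by
    refine Subgroup.eq_of_le_of_card_ge (Subgroup.zpowers_le.mpr hz) ?_
    rw [h.mc.card_lay (by omega) (by omega), Nat.card_zpowers, orderOf_eq_prime hzp hz1,
      show n - (n - 1) = 1 by omega, pow_one]
  have hzE : z ∈ E := h.small.cent.le (Subgroup.mem_centralizer_iff.mpr fun y _ => (hcen z hz y).eq)
  have hrepr : ∀ w ∈ E, ∃ r : ℤ, ∃ c ∈ E ⊓ lay S 2, w = e ^ r * c ∧ ⁅g, w⁆ = z ^ r := by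
    intro w hw
    haveI : ((Subgroup.zpowers e).subgroupOf E).Normal :=
      ⟨fun a ha b => by
        rw [Subgroup.mem_subgroupOf] at ha ⊢
        simpa [(h.small.comm b.2 a.2).eq] using ha⟩
    have hle : Subgroup.zpowers e ⊔ (E ⊓ lay S 2) ≤
        { carrier := {w | ∃ r : ℤ, ∃ c ∈ E ⊓ lay S 2, w = e ^ r * c}
          one_mem' := ⟨0, 1, one_mem _, by simp⟩
          mul_mem' := by
            rintro _ _ ⟨r, c, hc, rfl⟩ ⟨r', c', hc', rfl⟩
            refine ⟨r + r', c * c', mul_mem hc hc', ?_⟩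
            rw [zpow_add, mul_assoc, mul_assoc, ← mul_assoc c, (h.small.comm hc.1 (zpow_mem he r')).eq]
            simp only [mul_assoc]
          inv_mem' := by
            rintro _ ⟨r, c, hc, rfl⟩
            refine ⟨-r, c⁻¹, inv_mem hc, ?_⟩
            rw [mul_inv_rev, zpow_neg, (h.small.comm (inv_mem hc.1) (inv_mem (zpow_mem he r))).eq] } :=
      sup_le (Subgroup.zpowers_le.mpr ⟨1, 1, one_mem _, by simp⟩) fun c hc => ⟨0, c, hc, by simp⟩
    obtain ⟨r, c, hc, rfl⟩ := hle (hEgen.ge hw)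
    refine ⟨r, c, hc, rfl, ?_⟩
    rw [comm_mul_right, commutatorElement_eq_one_iff_mul_comm.mpr (hgC c hc).eq, mul_one, mul_inv_cancel, mul_one]
    have h1 := comm_zpow_zpow (a := g) (b := e) (hzdef ▸ hcen z hz g) (hzdef ▸ hcen z hz e) 1 r
    rwa [zpow_one, one_mul, ← hzdef] at h1
  have hgN : g ∈ Subgroup.normalizer (E : Set S) := by
    have key : ∀ w ∈ E, ⁅g, w⁆ ∈ E := fun w hw => by
      obtain ⟨r, c, hc, -, hr⟩ := hrepr w hw
      rw [hr]; exact zpow_mem hzE r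
    rw [Subgroup.mem_normalizer_iff]
    intro y
    have hk : ∀ w ∈ E, g * w * g⁻¹ ∈ E := fun w hw => by
      rw [show g * w * g⁻¹ = ⁅g, w⁆ * w by simp [commutatorElement_def]]
      exact mul_mem (key w hw) hw
    have hle : E.map (MulAut.conj g).toMonoidHom = E := Subgroup.eq_of_le_of_card_ge
      (by rintro _ ⟨w, hw, rfl⟩; exact hk w hw)
      (by rw [Subgroup.card_map_of_injective (MulAut.conj g).injective])
    refine ⟨hk y, fun hy => ?_⟩
    obtain ⟨w, hw, hwy⟩ := hle.ge hy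
    exact (MulAut.conj g).injective hwy ▸ hw
  have hgc : ∀ w ∈ E, ⁅g, w⁆ ∈ Subgroup.zpowers z := fun w hw => by
    obtain ⟨r, c, hc, -, hr⟩ := hrepr w hw
    rw [hr]; exact zpow_mem (Subgroup.mem_zpowers z) r
  obtain ⟨-, γ, hγ, hγr, hγc, hγz, d, hdE, hγd, hgd, hdz⟩ := data_of_elem h.isP h.sat h.ess h.small.card h.small.pow
    h.small.cent hgN hgE hzE (mul_inv_eq_iff_eq_mul.mpr (hcen z hz g).eq) hgc
  obtain ⟨f, hf, hfE, hfg⟩ := h.extend_normalizer hgN hgE ⟨hγ, hγr⟩ hγc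
  have hfix : ∀ w ∈ E, Commute g w → w ∈ lay S 2 := by
    intro w hw hgw
    obtain ⟨r, c, hc, rfl, hr⟩ := hrepr w hw
    rw [commutatorElement_eq_one_iff_mul_comm.mpr hgw.eq] at hr
    obtain ⟨c', hc'⟩ := (orderOf_eq_prime hzp hz1) ▸ orderOf_dvd_iff_zpow_eq_one.mpr hr.symm
    rw [hc', zpow_mul, zpow_natCast, h.small.pow e he, one_zpow, one_mul]
    exact hc.2
  refine ⟨hfix, hL1, h.normalizer_eq hgN hgE, f, hf, hfg, ?_, d, ⟨hdE, hfix d hdE hgd⟩,
    by rw [hfE d hdE, hγd], fun hd => hdz (hL1.ge hd)⟩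
  rw [hfE e he]
  exact hfix _ (mul_mem (by rw [← SetLike.mem_coe, ← hγr]; exact Set.mem_image_of_mem _ he) he)
    (h.mul_self_fixed hgN hzE ⟨hγ, hγr⟩ hγc hγz he (hgc e he))

theorem Ess.not_five (h : Ess F p 5 E) (he : e ∈ E) (hpair : Pair e u) (hC : ∀ q, Commute q e ↔ q ∈ E)
    (h3 : lay S 3 ≤ E) (hf2 : Fail e 2) (hf3 : Fail e 3) : False := by
  have hpp : p.Prime := Fact.out
  have hp5 := h.hp
  obtain ⟨hCc, -⟩ := h.inf_two he hpair
  have hCeq : E ⊓ lay S 2 = lay S 3 := (Subgroup.eq_of_le_of_card_ge (le_inf h3 (lay_anti (by omega)))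
    (by rw [hCc, h.mc.card_lay (by omega) (by omega)])).symm
  have hab : ∀ a ∈ lay S 2, ∀ b ∈ lay S 2, Commute a b := fun a ha b hb =>
    commutatorElement_eq_one_iff_mul_comm.mp (Subgroup.mem_bot.mp
      (h.mc.bot (i := 2 * 2 + 1) (by omega) ▸ h.mc.comm_self le_rfl ha hb))
  obtain ⟨g, hg, hg'⟩ := SetLike.not_le_iff_exists.mp (h.mc.lay_lt (i := 2) (by omega) (by omega))
  have hgE : g ∉ E := fun hgE => hg' (hCeq.le ⟨hgE, hg⟩)
  obtain ⟨hfix, hL1, hNgen, f, hf, hfg, hfe, d, hd, hfd, hd4⟩ := h.two_data he hpair hC hg hgE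
    (fun c hc => hab g hg c hc.2) (by rw [← commutatorElement_inv]; exact inv_mem (hf2 g hg))
  set M := Subgroup.zpowers e ⊔ lay S 2 with hMdef
  have hgL : lay S 2 = Subgroup.zpowers g ⊔ lay S 3 := (h.mc.sup_zpowers le_rfl hg hg').symm
  have hN : Subgroup.normalizer (E : Set S) = M := by
    refine le_antisymm ?_ (sup_le ((Subgroup.zpowers_le.mpr he).trans Subgroup.le_normalizer) ?_)
    · rw [← hNgen]
      refine sup_le (Subgroup.zpowers_le.mpr (Subgroup.mem_sup_right hg)) ?_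
      rw [← (h.inf_two he hpair).2]
      exact sup_le_sup_left inf_le_right _
    · rw [hgL, ← hNgen]
      exact sup_le_sup_left h3 _
  rw [hN] at hf
  haveI hMn : M.Normal := ⟨fun x hx y => by
    rw [show y * x * y⁻¹ = ⁅y, x⁆ * x by simp [commutatorElement_def]]
    exact mul_mem (Subgroup.mem_sup_right (comm_mem (a := 1) (b := 1) le_rfl le_rfl
      (Subgroup.mem_top y) (Subgroup.mem_top x))) hx⟩
  have hLM : ∀ l ∈ lay S 2, ∀ w ∈ M, ⁅l, w⁆ ∈ lay S 4 := fun l hl w hw =>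
    comm_sup (zpowers_comm_mem (by rw [← commutatorElement_inv]; exact inv_mem (hf2 l hl)))
      (fun b hb => comm_mem (by omega) (by omega) hl hb) hw
  have hL2inv : ∀ φ, Auto F M φ → ∀ y ∈ lay S 2, φ y ∈ lay S 2 := by
    intro φ hφ
    refine h.image_le (C := lay S 3) (by rw [h.mc.card_lay le_rfl (by omega)]) hab h3 (lay_anti (by omega))
      (by rw [h.mc.card_lay (by omega) (by omega)]) he hpair.1
      (fun hall => hgE ((hC g).mp (hall g hg).symm)) (fun k hk => lay_anti (by omega) (hf2 k hk)) ?_ hφ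
    intro k hk
    have hx : ⁅u, e⁆ ∈ lay S 2 := comm_mem (a := 1) (b := 1) le_rfl le_rfl (Subgroup.mem_top u) (Subgroup.mem_top e)
    have hx' : ⁅u, e⁆ ∉ lay S 3 := fun hc => hpair.seq_two h.mc (by
      rw [seq_succ e u le_rfl]
      show ⁅e, u⁆ ∈ lay S 3
      rw [← commutatorElement_inv]; exact inv_mem hc)
    obtain ⟨_, ⟨r, rfl⟩, c, hc, rfl⟩ := Subgroup.mem_sup_of_normal_right.mp ((h.mc.sup_zpowers le_rfl hx hx').ge hk)
    refine ⟨u ^ r, fun z hz => (lay_normal _).conj_mem _ hz _, ?_⟩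
    dsimp only []
    rw [← mul_assoc]
    refine mul_mem ?_ hc
    rw [← QuotientGroup.eq_one_iff, ← QuotientGroup.mk'_apply, _root_.map_mul, _root_.map_inv,
      _root_.map_commutatorElement, _root_.map_zpow, _root_.map_zpow, _root_.map_commutatorElement,
      commutator_zpow_left (X := ⁅QuotientGroup.mk' (lay S 3) u, QuotientGroup.mk' (lay S 3) e⁆)
        (fun q => by rw [← _root_.map_commutatorElement]; exact mk_central (a := 2) (by omega) (by omega) hx q)
        rfl, inv_mul_cancel]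
  have hMc : Nat.card M = p ^ 4 := by rw [← hN, h.small.norm]
  have hfnM : F.IsFullyNormalized (M.map S.subtype) := fullyNormalized_of fun Q _ => by
    rw [Subgroup.normalizer_eq_top_iff.mpr hMn, Subgroup.card_top]
    exact Subgroup.card_le_card_group _
  let L : ℕ → Subgroup S := fun k =>
    if k = 0 then ⊥ else if k = 1 then lay S 4 else if k = 2 then lay S 3 else if k = 3 then lay S 2 else M
  obtain ⟨ψ, hψ, hψe, -⟩ := extend_of_flag h.isP h.sat hfnM 4 L (by simp [L]) (by simp [L])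
    (fun k hk => by
      rcases (show k = 0 ∨ k = 1 ∨ k = 2 ∨ k = 3 by omega) with rfl | rfl | rfl | rfl <;> simp only [L] <;> norm_num
      · exact lay_anti (by omega)
      · exact lay_anti (by omega)
      · exact le_sup_right)
    (fun k hk => by
      rcases (show k = 0 ∨ k = 1 ∨ k = 2 ∨ k = 3 by omega) with rfl | rfl | rfl | rfl <;> simp only [L] <;>
        norm_num [h.mc.card_lay, hMc] <;> ring)
    (fun φ hφ hφr k hk y hy => by
      have hau : Auto F M φ := ⟨hφ, hφr⟩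
      have hgM : g ∈ M := Subgroup.mem_sup_right hg
      have heM : e ∈ M := Subgroup.mem_sup_left (Subgroup.mem_zpowers e)
      simp only [L] at hy ⊢
      split_ifs at hy ⊢ with h0 h1 h2 h3'
      · rw [Subgroup.mem_bot] at hy ⊢; rw [hy, hφ.map_one]
      · rw [← hL1] at hy
        obtain ⟨r, rfl⟩ := hy
        dsimp only []
        rw [hφ.map_zpow (Subgroup.mem_sup_right (lay_anti (by omega) (hL1.le (Subgroup.mem_zpowers _)))) r,
          hφ.map_comm hgM heM]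
        exact zpow_mem (hLM _ (hL2inv φ hau g hg) _ (hau.mem heM)) r
      · have hy2 : y ∈ lay S 2 := lay_anti (by omega) hy
        obtain ⟨e0, he0, hee⟩ := hau.surj heM
        have hle : M ≤ Subgroup.centralizer {y} := sup_le
          (Subgroup.zpowers_le.mpr (Subgroup.mem_centralizer_singleton_iff.mpr (h.small.comm he (h3 hy)).eq))
          fun l hl => Subgroup.mem_centralizer_singleton_iff.mpr (hab l hl y hy2).eq
        refine hCeq.le ⟨(hC _).mp ?_, hL2inv φ hau y hy2⟩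
        rw [← hee, Commute, SemiconjBy, ← hφ.map_mul (Subgroup.mem_sup_right hy2) he0,
          ← hφ.map_mul he0 (Subgroup.mem_sup_right hy2), Subgroup.mem_centralizer_singleton_iff.mp (hle he0)]
      · exact hL2inv φ hau y hy
      · exact hau.mem hy)
    hf.gfn hf.img
  rw [Subgroup.normalizer_eq_top] at hψ
  have hψm : ∀ a b, ψ (a * b) = ψ a * ψ b := fun a b => hψ.map_mul (Subgroup.mem_top a) (Subgroup.mem_top b)
  have hψL2 : ∀ y ∈ lay S 2, ψ y ∈ lay S 2 := fun y hy => by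
    rw [hψe y (Subgroup.mem_sup_right hy)]; exact hL2inv f hf y hy
  -- signs
  obtain ⟨_, ⟨ε, rfl⟩, m, hm, hum⟩ := Subgroup.mem_sup_of_normal_right.mp
    ((hpair.sup_eq_top h.mc).ge (Subgroup.mem_top (ψ u)))
  dsimp only [] at hum
  have hy2 := sign_two h.mc hpair hψm hum.symm hm
    (by rw [hψe e (Subgroup.mem_sup_left (Subgroup.mem_zpowers e))]; exact hfe)
  have hψ3 : ∀ y ∈ lay S 3, ψ y ∈ lay S 3 := fun y hy => by
    have hy2' : y ∈ lay S 2 := lay_anti (by omega) hy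
    refine hCeq.le ⟨(hC _).mp ?_, hψL2 y hy2'⟩
    obtain ⟨e0, he0, hee⟩ := hf.surj (Subgroup.mem_sup_left (Subgroup.mem_zpowers e) : e ∈ M)
    have hle : M ≤ Subgroup.centralizer {y} := sup_le
      (Subgroup.zpowers_le.mpr (Subgroup.mem_centralizer_singleton_iff.mpr (h.small.comm he (h3 hy)).eq))
      fun l hl => Subgroup.mem_centralizer_singleton_iff.mpr (hab l hl y hy2').eq
    rw [hψe y (Subgroup.mem_sup_right hy2'), ← hee, Commute, SemiconjBy,
      ← hf.gfn.map_mul (Subgroup.mem_sup_right hy2') he0, ← hf.gfn.map_mul he0 (Subgroup.mem_sup_right hy2'),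
      Subgroup.mem_centralizer_singleton_iff.mp (hle he0)]
  have hc2 := h.mc.dvd_or_dvd le_rfl (seq_mem e u 2) (hpair.seq_two h.mc) hψm hy2 hψ3 hg hg' (by
    rw [hψe g (Subgroup.mem_sup_right hg)]
    have h2 : g⁻¹ * f g ∈ lay S 3 := hCeq.le ⟨hfg, (lay S 2).mul_mem ((lay S 2).inv_mem hg) (hL2inv f hf g hg)⟩
    have := (lay_normal 3).conj_mem _ h2 g
    rwa [show g * (g⁻¹ * f g) * g⁻¹ = f g * g⁻¹ by group] at this)
  have hy3 := sign_step (k := 2) (by omega) hψm hum.symm (fun y hy => by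
    rw [← commutatorElement_inv]; exact inv_mem (hLM y hy m hm)) (seq_mem e u 2) hy2
  have hy3n : ⁅u, seq e u 2⁆ ∉ lay S 4 := fun hc =>
    not_central h.mc hpair le_rfl (by omega) (seq_mem e u 2) (hpair.seq_two h.mc) (hf2 _ (seq_mem e u 2)) hc
  have hd3 : d ∈ lay S 3 := hCeq.le hd
  have hψ4 : ∀ y ∈ lay S 4, ψ y ∈ lay S 4 := fun y hy => by
    have hy' := hy
    rw [← hL1] at hy'
    obtain ⟨r, rfl⟩ := hy'
    dsimp only []
    have hgM : g ∈ M := Subgroup.mem_sup_right hg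
    have heM : e ∈ M := Subgroup.mem_sup_left (Subgroup.mem_zpowers e)
    rw [hψ.map_zpow (Subgroup.mem_top _) r, hψe _ (Subgroup.mem_sup_right (lay_anti (by omega)
      (hL1.le (Subgroup.mem_zpowers _)))), hf.gfn.map_comm hgM heM]
    exact zpow_mem (hLM _ (hL2inv f hf g hg) _ (hf.mem heM)) r
  have hc3 := h.mc.dvd_or_dvd (i := 3) (by omega) (comm_mem' (by omega) u (seq_mem e u 2)) hy3n hψm hy3 hψ4 hd3
    hd4 (by rw [hψe d (Subgroup.mem_sup_right hd.2), hfd, mul_inv_cancel]; exact one_mem _)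
  have hdvd : (p : ℤ) ∣ 2 := by
    have : (2 : ℤ) = (-ε - 1) * (ε - 1) - (ε * (-ε) - 1) * 1 + ((ε * (-ε) - 1) - (ε * (-ε) - 1)) + 0 * ε := by ring
    rw [this]
    exact dvd_add (dvd_add (dvd_sub (Dvd.dvd.mul_right hc2 _) (Dvd.dvd.mul_right hc3 _)) (by simp)) (by simp)
  have := Int.le_of_dvd (by norm_num) hdvd
  omega

theorem Ess.not_six (h : Ess F p 6 E) (he : e ∈ E) (hpair : Pair e u) (hC : ∀ q, Commute q e ↔ q ∈ E)
    (h23 : E ⊓ lay S 2 ≤ lay S 3) (h45 : E ⊓ lay S 4 = lay S 5) (hf2 : Fail e 2) (hf3 : Fail e 3)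
    (hnf4 : NF e 4) (hx : ∃ x ∈ lay S 2, ⁅e, x⁆ ∉ lay S 5) : False := by
  have hpp : p.Prime := Fact.out
  have hp5 := h.hp
  obtain ⟨hCc, hEgen⟩ := h.inf_two he hpair
  set C := E ⊓ lay S 2 with hCdef
  have hab : ∀ a ∈ lay S 3, ∀ b ∈ lay S 3, Commute a b := fun a ha b hb =>
    commutatorElement_eq_one_iff_mul_comm.mp (Subgroup.mem_bot.mp
      (h.mc.bot (i := 3 + 3) (by omega) ▸ comm_mem (by omega) (by omega) ha hb))
  have hL5E : lay S 5 ≤ E := h45.ge.trans inf_le_left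
  obtain ⟨g, hg, hg'⟩ := SetLike.not_le_iff_exists.mp (h.mc.lay_lt (i := 4) (by omega) (by omega))
  have hgE : g ∉ E := fun hgE => hg' (h45.le ⟨hgE, hg⟩)
  obtain ⟨hfix, hL1, hNgen, f, hf, hfg, hfe, d, hd, hfd, hd5⟩ := h.two_data he hpair hC
    (lay_anti (by omega) hg) hgE (fun c hc => hab g (lay_anti (by omega) hg) c (h23 hc)) (by
      rw [← commutatorElement_inv]; exact inv_mem (comm_mem' (b := 4) (by omega) e hg))
  have hd4 : d ∉ lay S 4 := fun hd' => hd5 (h45.le ⟨hd.1, hd'⟩)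
  have hL3 : lay S 3 = C ⊔ lay S 4 := by
    refine (Subgroup.eq_of_le_of_card_ge (sup_le h23 (lay_anti (by omega))) ?_).symm
    have h1 := CfsgLib.Fusion.MaxClass.mul_card_le_of_lt h.isP (H := lay S 4) (K := C ⊔ lay S 4)
      (lt_of_le_of_ne le_sup_right fun h0 => hd4 (h0.ge (Subgroup.mem_sup_left hd)))
    rw [h.mc.card_lay (by omega) (by omega), ← pow_succ'] at h1
    rwa [h.mc.card_lay (by omega) (by omega)]
  set N := Subgroup.zpowers e ⊔ lay S 3 with hNdef
  have hN : Subgroup.normalizer (E : Set S) = N := by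
    refine le_antisymm ?_ (sup_le ((Subgroup.zpowers_le.mpr he).trans Subgroup.le_normalizer) ?_)
    · rw [← hNgen]
      refine sup_le (Subgroup.zpowers_le.mpr (Subgroup.mem_sup_right (lay_anti (by omega) hg))) ?_
      rw [← hEgen]
      exact sup_le_sup_left h23 _
    · rw [hL3, ← hNgen]
      refine sup_le (inf_le_left.trans le_sup_right) ?_
      rw [← h.mc.sup_zpowers (i := 4) (by omega) hg hg']
      exact sup_le_sup_left hL5E _
  rw [hN] at hf
  obtain ⟨x₀, hx₀, hx₀'⟩ := hx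
  obtain ⟨q, hqdef⟩ : ∃ q, q = ⁅x₀, e⁆ := ⟨_, rfl⟩
  have hq : q ∈ lay S 4 := by rw [hqdef, ← commutatorElement_inv]; exact inv_mem (hf2 x₀ hx₀)
  have hq' : q ∉ lay S 5 := fun hc => hx₀' (by
    rw [← commutatorElement_inv, ← hqdef]; exact inv_mem hc)
  have hLN : ∀ l ∈ lay S 3, ∀ w ∈ N, ⁅l, w⁆ ∈ lay S 5 := fun l hl w hw =>
    comm_sup (zpowers_comm_mem (by rw [← commutatorElement_inv]; exact inv_mem (hf3 l hl)))
      (fun b hb => comm_mem_le (by omega) (by omega) (by omega) hl hb) hw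
  have hL3inv : ∀ φ, Auto F N φ → ∀ y ∈ lay S 3, φ y ∈ lay S 3 := by
    intro φ hφ
    refine h.image_le (C := C) (by rw [h.mc.card_lay (by omega) (by omega)]) hab inf_le_left h23 hCc he
      (fun hc => hpair.1 (lay_anti (by omega) hc))
      (fun hall => hgE ((hC g).mp (hall g (lay_anti (by omega) hg)).symm))
      (fun k hk => ⟨hL5E (hf3 k hk), lay_anti (by omega) (hf3 k hk)⟩) ?_ hφ
    intro k hk
    rw [hL3] at hk
    obtain ⟨c, hc, l, hl, rfl⟩ := Subgroup.mem_sup_of_normal_right.mp hk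
    obtain ⟨_, ⟨r, rfl⟩, c5, hc5, rfl⟩ := Subgroup.mem_sup_of_normal_right.mp
      ((h.mc.sup_zpowers (by omega) hq hq').ge hl)
    have hc5C : c5 ∈ C := ⟨hL5E hc5, lay_anti (by omega) hc5⟩
    refine ⟨x₀ ^ r, fun z hz => ?_, ?_⟩
    · rw [show x₀ ^ r * z * (x₀ ^ r)⁻¹ = ⁅x₀ ^ r, z⁆ * z by simp [commutatorElement_def]]
      have h1 : ⁅x₀ ^ r, z⁆ ∈ lay S 5 := comm_mem (by omega) (by omega) (zpow_mem hx₀ r) (h23 hz)
      exact mul_mem ⟨hL5E h1, lay_anti (by omega) h1⟩ hz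
    dsimp only [] at hl ⊢
    have hqL3 : q ^ r ∈ lay S 3 := zpow_mem (lay_anti (by omega) hq) r
    rw [← (hab (q ^ r * c5) (lay_anti (by omega) hl) c (h23 hc)).eq, ← mul_assoc]
    refine mul_mem ?_ hc
    rw [← mul_assoc]
    refine mul_mem ?_ hc5C
    have hm : ⁅x₀ ^ r, e⁆⁻¹ * q ^ r ∈ lay S 5 := by
      rw [← QuotientGroup.eq_one_iff, ← QuotientGroup.mk'_apply, _root_.map_mul, _root_.map_inv, hqdef,
        _root_.map_commutatorElement, _root_.map_zpow, _root_.map_zpow, _root_.map_commutatorElement,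
        commutator_zpow_left (X := ⁅QuotientGroup.mk' (lay S 5) x₀, QuotientGroup.mk' (lay S 5) e⁆)
          (fun w => by
            rw [← _root_.map_commutatorElement, ← hqdef]; exact mk_central (a := 4) (by omega) (by omega) hq w)
          rfl, inv_mul_cancel]
    exact ⟨hL5E hm, lay_anti (by omega) hm⟩
  have hNc : Nat.card N = p ^ 4 := by rw [← hN, h.small.norm]
  have heN : e ∈ N := Subgroup.mem_sup_left (Subgroup.mem_zpowers e)
  have hgN : g ∈ N := Subgroup.mem_sup_right (lay_anti (by omega) hg)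
  have hCinv : ∀ φ, Auto F N φ → ∀ y ∈ C, φ y ∈ C := by
    intro φ hφ y hy
    have hy3 : y ∈ lay S 3 := h23 hy
    obtain ⟨e0, he0, hee⟩ := hφ.surj heN
    have hle : N ≤ Subgroup.centralizer {y} := sup_le
      (Subgroup.zpowers_le.mpr (Subgroup.mem_centralizer_singleton_iff.mpr (h.small.comm he hy.1).eq))
      fun l hl => Subgroup.mem_centralizer_singleton_iff.mpr (hab l hl y hy3).eq
    refine ⟨(hC _).mp ?_, lay_anti (by omega) (hL3inv φ hφ y hy3)⟩
    rw [← hee, Commute, SemiconjBy, ← hφ.gfn.map_mul (Subgroup.mem_sup_right hy3) he0,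
      ← hφ.gfn.map_mul he0 (Subgroup.mem_sup_right hy3), Subgroup.mem_centralizer_singleton_iff.mp (hle he0)]
  set M := Subgroup.zpowers e ⊔ lay S 2 with hMdef
  haveI hMn : M.Normal := ⟨fun x hx y => by
    rw [show y * x * y⁻¹ = ⁅y, x⁆ * x by simp [commutatorElement_def]]
    exact mul_mem (Subgroup.mem_sup_right (comm_mem (a := 1) (b := 1) le_rfl le_rfl
      (Subgroup.mem_top y) (Subgroup.mem_top x))) hx⟩
  have hMc : p ^ 5 ≤ Nat.card M := by
    have h1 := CfsgLib.Fusion.MaxClass.mul_card_le_of_lt h.isP (H := lay S 2) (K := M)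
      (lt_of_le_of_ne le_sup_right fun h0 => hpair.1 (h0.ge (Subgroup.mem_sup_left (Subgroup.mem_zpowers e))))
    rwa [h.mc.card_lay le_rfl (by omega), ← pow_succ'] at h1
  have hfive : ∀ Q : Subgroup S, Nat.card Q = p ^ 4 → ∀ x ∈ Q, x ∉ lay S 2 →
      Nat.card (Subgroup.normalizer (Q : Set S)) ≤ p ^ 5 := by
    intro Q hQc x hxQ hx2
    by_contra hc
    rw [not_le] at hc
    obtain ⟨t, ht⟩ := IsPGroup.iff_card.mp (h.isP.to_subgroup (Subgroup.normalizer (Q : Set S)))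
    rw [ht] at hc
    have h5 := (Nat.pow_lt_pow_iff_right hpp.one_lt).mp hc
    have h7 : t ≤ 6 := by
      have := Subgroup.card_le_card_group (Subgroup.normalizer (Q : Set S))
      rw [ht, h.mc.card] at this
      exact (Nat.pow_le_pow_iff_right hpp.one_lt).mp this
    haveI : Q.Normal := Subgroup.normalizer_eq_top_iff.mp (Subgroup.eq_top_of_card_eq _ (by
      rw [ht, h.mc.card]; congr 1; omega))
    have hQi : Q.index = p ^ 2 := by
      have := Q.card_mul_index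
      rw [hQc, h.mc.card, show (6 : ℕ) = 4 + 2 from rfl, pow_add] at this
      exact Nat.eq_of_mul_eq_mul_left (pow_pos hpp.pos _) this
    have hab' : IsMulCommutative (S ⧸ Q) :=
      IsPGroup.isMulCommutative_of_card_eq_prime_sq (p := p) (by rw [← Subgroup.index_eq_card, hQi])
    have hle : lay S 2 ≤ Q := by
      rw [lay_two, commutator_def, Subgroup.commutator_le]
      intro a _ b _
      rw [← QuotientGroup.eq_one_iff, ← QuotientGroup.mk'_apply, _root_.map_commutatorElement]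
      exact commutatorElement_eq_one_iff_mul_comm.mpr (hab'.is_comm.comm _ _)
    exact hx2 ((Subgroup.eq_of_le_of_card_ge hle (by rw [hQc, h.mc.card_lay le_rfl (by omega)])).ge hxQ)
  have hMN : M ≤ Subgroup.normalizer (N : Set S) := by
    refine sup_le ((Subgroup.zpowers_le.mpr heN).trans Subgroup.le_normalizer) fun l hl => ?_
    have key : ∀ l ∈ lay S 2, ∀ w ∈ N, l * w * l⁻¹ ∈ N := by
      intro l hl w hw
      rw [show l * w * l⁻¹ = ⁅l, w⁆ * w by simp [commutatorElement_def]]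
      refine mul_mem (Subgroup.mem_sup_right (lay_anti (show 3 ≤ 4 by omega) ?_)) hw
      exact comm_sup (zpowers_comm_mem (by rw [← commutatorElement_inv]; exact inv_mem (hf2 l hl)))
        (fun b hb => comm_mem_le (by omega) (by omega) (by omega) hl hb) hw
    rw [Subgroup.mem_normalizer_iff]
    refine fun y => ⟨key l hl y, fun hy => ?_⟩
    have := key l⁻¹ (inv_mem hl) _ hy
    rwa [show l⁻¹ * (l * y * l⁻¹) * l⁻¹⁻¹ = y by group] at this
  have hNN : Subgroup.normalizer (N : Set S) = M :=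
    (Subgroup.eq_of_le_of_card_ge hMN ((hfive N hNc e heN hpair.1).trans hMc)).symm
  have hfnN : F.IsFullyNormalized (N.map S.subtype) := fullyNormalized_of fun Q hQ => by
    rw [hNN]
    refine le_trans ?_ hMc
    obtain ⟨k, hk, hkr⟩ := hQ.exists_fn
    let E' : Subgroup S :=
      { carrier := k '' E
        one_mem' := ⟨1, one_mem _, hk.map_one⟩
        mul_mem' := by
          rintro _ _ ⟨a, ha, rfl⟩ ⟨b, hb, rfl⟩
          exact ⟨a * b, mul_mem ha hb, hk.map_mul (hN.le (Subgroup.le_normalizer ha)) (hN.le (Subgroup.le_normalizer hb))⟩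
        inv_mem' := by
          rintro _ ⟨a, ha, rfl⟩
          exact ⟨a⁻¹, inv_mem ha, hk.map_inv (hN.le (Subgroup.le_normalizer ha))⟩ }
    have hs := h.small' (E' := E')
      ((hk.mono (Subgroup.le_normalizer.trans hN.le)).gconj rfl)
    obtain ⟨e', u', he', hpair', -, -⟩ := hs.shape h.mc h.hp h.five
    obtain ⟨a, ha, hae⟩ := he'
    exact hfive Q (by rw [hQ.card_eq, hNc]) e' (hkr.le ⟨a, hN.le (Subgroup.le_normalizer ha), hae⟩) hpair'.1
  let L : ℕ → Subgroup S := fun k =>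
    if k = 0 then ⊥ else if k = 1 then lay S 5 else if k = 2 then C else if k = 3 then lay S 3 else N
  obtain ⟨f₂, hf₂, hf₂e, hf₂m⟩ := extend_of_flag h.isP h.sat hfnN 4 L (by simp [L]) (by simp [L])
    (fun k hk => by
      rcases (show k = 0 ∨ k = 1 ∨ k = 2 ∨ k = 3 by omega) with rfl | rfl | rfl | rfl <;> simp only [L] <;> norm_num
      · exact le_inf hL5E (lay_anti (by omega))
      · exact h23
      · exact le_sup_right)
    (fun k hk => by
      rcases (show k = 0 ∨ k = 1 ∨ k = 2 ∨ k = 3 by omega) with rfl | rfl | rfl | rfl <;> simp only [L] <;>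
        norm_num [h.mc.card_lay, hNc, hCc] <;> ring)
    (fun φ hφ hφr k hk y hy => by
      have hau : Auto F N φ := ⟨hφ, hφr⟩
      simp only [L] at hy ⊢
      split_ifs at hy ⊢ with h0 h1 h2 h3'
      · rw [Subgroup.mem_bot] at hy ⊢; rw [hy, hφ.map_one]
      · rw [← hL1] at hy
        obtain ⟨r, rfl⟩ := hy
        dsimp only []
        rw [hφ.map_zpow (Subgroup.mem_sup_right (lay_anti (by omega) (hL1.le (Subgroup.mem_zpowers _)))) r,
          hφ.map_comm hgN heN]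
        exact zpow_mem (hLN _ (hL3inv φ hau g (lay_anti (by omega) hg)) _ (hau.mem heN)) r
      · exact hCinv φ hau y hy
      · exact hL3inv φ hau y hy
      · exact hau.mem hy)
    hf.gfn hf.img
  rw [hNN] at hf₂ hf₂m
  have hfM : Auto F M f₂ := Auto.of_mem hf₂ hf₂m
  have hM4 : ∀ l ∈ lay S 2, ∀ w ∈ M, ⁅l, w⁆ ∈ lay S 4 := fun l hl w hw =>
    comm_sup (zpowers_comm_mem (by rw [← commutatorElement_inv]; exact inv_mem (hf2 l hl)))
      (fun b hb => comm_mem (by omega) (by omega) hl hb) hw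
  have hMM : ∀ a ∈ M, ∀ b ∈ M, ⁅a, b⁆ ∈ lay S 4 := by
    intro a ha b hb
    rw [← commutatorElement_inv]
    refine inv_mem (comm_sup (zpowers_comm_mem ?_) (fun l hl => ?_) ha)
    · rw [← commutatorElement_inv]
      exact inv_mem (comm_sup (zpowers_comm_mem (by rw [commutatorElement_self]; exact one_mem _))
        (fun l hl => hf2 l hl) hb)
    · rw [← commutatorElement_inv]
      exact inv_mem (hM4 l hl b hb)
  have hqM : q ∈ M := Subgroup.mem_sup_right (lay_anti (by omega) hq)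
  have hx₀M : x₀ ∈ M := Subgroup.mem_sup_right hx₀
  have heM : e ∈ M := Subgroup.mem_sup_left (Subgroup.mem_zpowers e)
  have hgM : g ∈ M := Subgroup.mem_sup_right (lay_anti (by omega) hg)
  have hiff : ∀ y ∈ M, y ∈ lay S 2 ↔ ∀ a ∈ M, ∀ b ∈ M, Commute y ⁅a, b⁆ := by
    intro y hy
    constructor
    · intro hy2 a ha b hb
      exact commutatorElement_eq_one_iff_mul_comm.mp (Subgroup.mem_bot.mp
        (h.mc.bot (i := 2 + 4) (by omega) ▸ comm_mem (by omega) (by omega) hy2 (hMM a ha b hb)))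
    · intro hall
      obtain ⟨_, ⟨r, rfl⟩, l, hl, rfl⟩ := Subgroup.mem_sup_of_normal_right.mp hy
      dsimp only [] at hall ⊢
      have hcl : Commute l q := commutatorElement_eq_one_iff_mul_comm.mp (Subgroup.mem_bot.mp
        (h.mc.bot (i := 2 + 4) (by omega) ▸ comm_mem (by omega) (by omega) hl hq))
      have hyq : Commute (e ^ r) q := by
        have h1 : Commute (e ^ r * l) q := hqdef ▸ hall x₀ hx₀M e heM
        have h2 := h1.mul_left hcl.inv_left
        rwa [mul_inv_cancel_right] at h2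
      refine mul_mem ?_ hl
      rcases eq_or_ne (e ^ r) 1 with her | her
      · rw [her]; exact one_mem _
      exfalso
      have heo : orderOf e = p := orderOf_eq_prime (h.small.pow e he) fun h0 => hpair.1 (h0 ▸ one_mem _)
      have hzz : Subgroup.zpowers (e ^ r) = Subgroup.zpowers e := by
        refine Subgroup.eq_of_le_of_card_ge (Subgroup.zpowers_le.mpr (zpow_mem (Subgroup.mem_zpowers e) r)) ?_
        rw [Nat.card_zpowers, Nat.card_zpowers, heo, orderOf_eq_prime (h.small.pow _ (zpow_mem he r)) her]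
      obtain ⟨s, hs⟩ := hzz.ge (Subgroup.mem_zpowers e)
      have hec : Commute e q := hs ▸ hyq.zpow_left s
      refine hq' (hnf4 q hq ?_)
      rw [commutatorElement_eq_one_iff_mul_comm.mpr hec.eq]
      exact one_mem _
  have hL2inv : ∀ φ, Auto F M φ → ∀ y ∈ lay S 2, φ y ∈ lay S 2 := by
    intro φ hφ y hy
    have hyM : y ∈ M := Subgroup.mem_sup_right hy
    refine (hiff _ (hφ.mem hyM)).mpr fun a ha b hb => ?_
    obtain ⟨a', ha', rfl⟩ := hφ.surj ha
    obtain ⟨b', hb', rfl⟩ := hφ.surj hb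
    have hab : ⁅a', b'⁆ ∈ M := Subgroup.mem_sup_right (lay_anti (by omega) (hMM a' ha' b' hb'))
    rw [← hφ.gfn.map_comm ha' hb', Commute, SemiconjBy, ← hφ.gfn.map_mul hyM hab, ← hφ.gfn.map_mul hab hyM,
      ((hiff y hyM).mp hy a' ha' b' hb').eq]
  have hL5inv : ∀ φ, Auto F M φ → (∀ y ∈ lay S 4, φ y ∈ lay S 4) → ∀ y ∈ lay S 5, φ y ∈ lay S 5 := by
    intro φ hφ h4 y hy
    have hy' := hy
    rw [← hL1] at hy'
    obtain ⟨r, rfl⟩ := hy'
    dsimp only []
    rw [hφ.gfn.map_zpow (Subgroup.mem_sup_right (lay_anti (by omega) (hL1.le (Subgroup.mem_zpowers _)))) r,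
      hφ.gfn.map_comm hgM heM]
    refine zpow_mem ?_ r
    rw [← commutatorElement_inv]
    exact inv_mem (comm_mem' (b := 4) (by omega) _ (h4 g hg))
  have hL4inv : ∀ φ, Auto F M φ → ∀ y ∈ lay S 4, φ y ∈ lay S 4 := by
    intro φ hφ y hy
    have hqim : φ q ∈ lay S 4 := by
      rw [hqdef, hφ.gfn.map_comm hx₀M heM]
      exact hM4 _ (hL2inv φ hφ x₀ hx₀) _ (hφ.mem heM)
    obtain ⟨_, ⟨r, rfl⟩, c, hc, rfl⟩ := Subgroup.mem_sup_of_normal_right.mp
      ((h.mc.sup_zpowers (by omega) hq hq').ge hy)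
    dsimp only []
    rw [hφ.gfn.map_mul (zpow_mem hqM r) (Subgroup.mem_sup_right (lay_anti (by omega) hc)), hφ.gfn.map_zpow hqM]
    refine mul_mem (zpow_mem hqim r) ?_
    rw [← hL1] at hc
    obtain ⟨s, rfl⟩ := hc
    dsimp only []
    rw [hφ.gfn.map_zpow (Subgroup.mem_sup_right (lay_anti (by omega) (hL1.le (Subgroup.mem_zpowers _)))),
      hφ.gfn.map_comm hgM heM]
    exact zpow_mem (hM4 _ (hL2inv φ hφ g (lay_anti (by omega) hg)) _ (hφ.mem heM)) s
  have hM5 : ∀ l ∈ lay S 3, ∀ w ∈ M, ⁅l, w⁆ ∈ lay S 5 := fun l hl w hw =>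
    comm_sup (zpowers_comm_mem (by rw [← commutatorElement_inv]; exact inv_mem (hf3 l hl)))
      (fun b hb => comm_mem (by omega) (by omega) hl hb) hw
  have hL3inv' : ∀ φ, Auto F M φ → ∀ y ∈ lay S 3, φ y ∈ lay S 3 := by
    intro φ hφ y hy
    have hy2 : y ∈ lay S 2 := lay_anti (by omega) hy
    by_contra hn
    refine hx₀' (h.mc.comm_layer (N := lay S 5) le_rfl (hL2inv φ hφ y hy2) hn ?_ (fun z hz => hf3 z hz) x₀ hx₀)
    obtain ⟨e0, he0, hee⟩ := hφ.surj heM
    rw [← hee, ← hφ.gfn.map_comm he0 (Subgroup.mem_sup_right hy2)]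
    refine hL5inv φ hφ (hL4inv φ hφ) _ ?_
    rw [← commutatorElement_inv]
    exact inv_mem (hM5 y hy e0 he0)
  have hfnM : F.IsFullyNormalized (M.map S.subtype) := fullyNormalized_of fun Q _ => by
    rw [Subgroup.normalizer_eq_top_iff.mpr hMn, Subgroup.card_top]
    exact Subgroup.card_le_card_group _
  have hMc' : Nat.card M = p ^ 5 := le_antisymm (hNN ▸ hfive N hNc e heN hpair.1) hMc
  let L' : ℕ → Subgroup S := fun k => if k = 0 then ⊥ else if k = 1 then lay S 5 else if k = 2 then lay S 4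
    else if k = 3 then lay S 3 else if k = 4 then lay S 2 else M
  obtain ⟨ψ, hψ, hψe, -⟩ := extend_of_flag h.isP h.sat hfnM 5 L' (by simp [L']) (by simp [L'])
    (fun k hk => by
      rcases (show k = 0 ∨ k = 1 ∨ k = 2 ∨ k = 3 ∨ k = 4 by omega) with rfl | rfl | rfl | rfl | rfl <;>
        simp only [L'] <;> norm_num
      · exact lay_anti (by omega)
      · exact lay_anti (by omega)
      · exact lay_anti (by omega)
      · exact le_sup_right)
    (fun k hk => by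
      rcases (show k = 0 ∨ k = 1 ∨ k = 2 ∨ k = 3 ∨ k = 4 by omega) with rfl | rfl | rfl | rfl | rfl <;>
        simp only [L'] <;> norm_num [h.mc.card_lay, hMc'] <;> ring)
    (fun φ hφ hφr k hk y hy => by
      have hau : Auto F M φ := ⟨hφ, hφr⟩
      simp only [L'] at hy ⊢
      split_ifs at hy ⊢ with h0 h1 h2 h3' h4'
      · rw [Subgroup.mem_bot] at hy ⊢; rw [hy, hφ.map_one]
      · exact hL5inv φ hau (hL4inv φ hau) y hy
      · exact hL4inv φ hau y hy
      · exact hL3inv' φ hau y hy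
      · exact hL2inv φ hau y hy
      · exact hau.mem hy)
    hfM.gfn hfM.img
  rw [Subgroup.normalizer_eq_top] at hψ
  have hψm : ∀ a b, ψ (a * b) = ψ a * ψ b := fun a b => hψ.map_mul (Subgroup.mem_top a) (Subgroup.mem_top b)
  have hψ4 : ∀ y ∈ lay S 4, ψ y ∈ lay S 4 := fun y hy => by
    rw [hψe y (Subgroup.mem_sup_right (lay_anti (by omega) hy))]; exact hL4inv f₂ hfM y hy
  have hψ5 : ∀ y ∈ lay S 5, ψ y ∈ lay S 5 := fun y hy => by
    rw [hψe y (Subgroup.mem_sup_right (lay_anti (by omega) hy))]; exact hL5inv f₂ hfM (hL4inv f₂ hfM) y hy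
  -- signs
  obtain ⟨_, ⟨ε, rfl⟩, m, hm, hum⟩ := Subgroup.mem_sup_of_normal_right.mp
    ((hpair.sup_eq_top h.mc).ge (Subgroup.mem_top (ψ u)))
  dsimp only [] at hum
  have hy2 := sign_two h.mc hpair hψm hum.symm hm (by rw [hψe e heM, hf₂e e heN]; exact hfe)
  have hy3 := sign_step (k := 2) (by omega) hψm hum.symm (fun y hy => by
    rw [← commutatorElement_inv]; exact inv_mem (hM4 y hy m hm)) (seq_mem e u 2) hy2
  have hy3m : ⁅u, seq e u 2⁆ ∈ lay S 3 := comm_mem' (by omega) u (seq_mem e u 2)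
  have hy3n : ⁅u, seq e u 2⁆ ∉ lay S 4 := fun hc =>
    not_central h.mc hpair le_rfl (by omega) (seq_mem e u 2) (hpair.seq_two h.mc) (hf2 _ (seq_mem e u 2)) hc
  have hy4 := sign_step (k := 3) (by omega) hψm hum.symm (fun y hy => by
    rw [← commutatorElement_inv]; exact inv_mem (hM5 y hy m hm)) hy3m hy3
  have hy4n : ⁅u, ⁅u, seq e u 2⁆⁆ ∉ lay S 5 := fun hc =>
    not_central h.mc hpair (k := 3) (by omega) (by omega) hy3m hy3n (hf3 _ hy3m) hc
  have hc3 := h.mc.dvd_or_dvd (i := 3) (by omega) hy3m hy3n hψm hy3 hψ4 (h23 hd) hd4 (by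
    rw [hψe d (Subgroup.mem_sup_right hd.2), hf₂e d (Subgroup.mem_sup_right (h23 hd)), hfd, mul_inv_cancel]
    exact one_mem _)
  have hc4 := h.mc.dvd_or_dvd (i := 4) (by omega) (comm_mem' (by omega) u hy3m) hy4n hψm hy4 hψ5 hg hg' (by
    have h1 : g⁻¹ * f g ∈ lay S 5 := by
      refine h45.le ⟨hfg, (lay S 4).mul_mem ((lay S 4).inv_mem hg) ?_⟩
      rw [← hf₂e g hgN]; exact hL4inv f₂ hfM g hg
    rw [hψe g hgM, hf₂e g hgN]
    have := (lay_normal 5).conj_mem _ h1 g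
    rwa [show g * (g⁻¹ * f g) * g⁻¹ = f g * g⁻¹ by group] at this)
  have hdvd : (p : ℤ) ∣ 2 := by
    obtain ⟨a, ha⟩ := hc3
    obtain ⟨b, hb⟩ := hc4
    obtain ⟨c, hc⟩ : (p : ℤ) ∣ ε - 1 := ⟨b - ε * a, by linear_combination hb - ε * ha⟩
    exact ⟨-a - (ε + 1) * c, by linear_combination -(1 : ℤ) * ha - (ε + 1) * hc⟩
  have := Int.le_of_dvd (by norm_num) hdvd
  omega

end CfsgLib.MaxClass94
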