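import Cfsg.Agent.Lib.MaxClass94.TypeOne
import Cfsg.Agent.Lib.MaxClass94.TypeTwo

/-!
# Small essential subgroups in a group of maximal class are pearls
-/

set_option autoImplicit false
set_option linter.style.haveILetI false

namespace CfsgLib.MaxClass94

open Cfsg Cfsg.FusionSystem CfsgLib.Fusion CfsgLib.FusionNormal

variable {Ω : Type*} [Group Ω] {S : Subgroup Ω} {F : FusionSystem S} {p n : ℕ} [Fact p.Prime] [Finite S]

theorem Ess.false_of_shape {E : Subgroup S} (h : Ess F p n E) : False := by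
  obtain ⟨e, u, he, hpair, hC, hsh⟩ := h.small.shape h.mc h.hp h.five
  rcases hsh with ⟨hev, h6, htop, hnf, hfail⟩ | ⟨rfl, h3, hf2, hf3⟩ | ⟨rfl, h23, h45, hf2, hf3, hnf4, hx⟩
  · exact h.not_one ⟨h.mc, h.small, he, hpair, h6, hev, htop, hnf, hfail, hC⟩ hev
  · exact h.not_five he hpair hC h3 hf2 hf3
  · exact h.not_six he hpair hC h23 h45 hf2 hf3 hnf4 hx

/-- An essential subgroup of order less than `p ^ 4` is a pearl. -/
theorem small_is_pearl (hS : IsPGroup p S) (hF : F.IsSaturated p) (hG : MC S p n) (h5 : 5 ≤ n) (hp : 5 ≤ p)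
    {E : Subgroup Ω} (hE : F.IsEssential p E) (hlt : Nat.card E < p ^ 4) :
    (Nat.card E = p ^ 2 ∧ Cfsg.IsElementaryAbelian p E) ∨
      (Nat.card E = p ^ 3 ∧ Cfsg.IsExtraspecial p E ∧ Monoid.exponent E = p) := by
  have hpp : p.Prime := Fact.out
  have hES : E ≤ S := hE.1.1
  haveI : Finite E := finite_of_le hES
  obtain ⟨k, hk⟩ := IsPGroup.iff_card.mp (hS.to_le hES)
  have hk3 : k < 4 := (Nat.pow_lt_pow_iff_right hpp.one_lt).mp (hk ▸ hlt)
  rcases (show k = 0 ∨ k = 1 ∨ k = 2 ∨ k = 3 by omega) with rfl | rfl | rfl | rfl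
  · exact (CfsgLib.FusionFlag.not_flag hS hE 0 (fun _ => ⊥) rfl
      (Subgroup.eq_top_of_card_eq _ (by rw [Subgroup.card_bot, hk, pow_zero])) (fun i _ a x hx => by
        rw [Subgroup.mem_bot] at hx; rw [hx, map_one]; exact one_mem _)
      (fun i hi => absurd hi (Nat.not_lt_zero i)) (fun i hi => absurd hi (Nat.not_lt_zero i))).elim
  · exact (CfsgLib.FusionFlag.not_flag hS hE 1 (fun i => if i = 0 then ⊥ else ⊤) (if_pos rfl) (if_neg one_ne_zero)
      (fun i _ a x hx => by
        split_ifs at hx ⊢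
        · rw [Subgroup.mem_bot] at hx; rw [hx, map_one]; exact one_mem _
        · exact Subgroup.mem_top _)
      (fun i hi => by obtain rfl : i = 0 := by omega
                      simp)
      (fun i hi => by
        obtain rfl : i = 0 := by omega
        simp [hk])).elim
  · left
    letI : CommGroup E := { (inferInstance : Group E) with mul_comm := IsPGroup.commutative_of_card_eq_prime_sq hk }
    refine ⟨hk, ⟨⟨fun a b => mul_comm a b⟩⟩, ?_⟩
    by_contra hexp
    push Not at hexp
    obtain ⟨a, ha, hap⟩ := hexp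
    let f : ↥E →* ↥E := powMonoidHom p
    have hfne : f ⟨a, ha⟩ ≠ 1 := fun h0 => hap (by
      have := congrArg Subtype.val h0
      simpa [f] using this)
    have hrc : Nat.card f.range = p := by
      obtain ⟨j, hj, hje⟩ := (Nat.dvd_prime_pow hpp).mp (hk ▸ Subgroup.card_subgroup_dvd_card f.range)
      rcases (show j = 0 ∨ j = 1 ∨ j = 2 by omega) with rfl | rfl | rfl
      · rw [pow_zero] at hje
        exact absurd (Subgroup.mem_bot.mp (Subgroup.card_eq_one.mp hje ▸ ⟨_, rfl⟩ : f ⟨a, ha⟩ ∈ (⊥ : Subgroup E))) hfne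
      · rw [hje, pow_one]
      · exfalso
        obtain ⟨w, hw⟩ := exists_prime_orderOf_dvd_card' (G := ↥E) p (hk ▸ dvd_pow_self p two_ne_zero)
        have hsurj : Function.Surjective f := MonoidHom.range_eq_top.mp
          (Subgroup.eq_top_of_card_eq _ (hje.trans hk.symm))
        have hwk : f w = 1 := by show w ^ p = 1; rw [← hw, pow_orderOf_eq_one]
        have := Finite.injective_iff_surjective.mpr hsurj (hwk.trans (map_one f).symm)
        rw [this, orderOf_one] at hw
        exact hpp.ne_one hw.symm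
    refine CfsgLib.FusionFlag.not_flag hS hE 2 (fun i => if i = 0 then ⊥ else if i = 1 then f.range else ⊤)
      (if_pos rfl) (by simp) (fun i _ b x hx => ?_) (fun i hi => ?_) (fun i hi => ?_)
    · split_ifs at hx ⊢
      · rw [Subgroup.mem_bot] at hx; rw [hx, map_one]; exact one_mem _
      · exact CfsgLib.FusionFlag.mem_range_pow (f := f) (q := p) (fun _ => rfl) b hx
      · exact Subgroup.mem_top _
    · rcases (show i = 0 ∨ i = 1 by omega) with rfl | rfl <;> simp
    · rcases (show i = 0 ∨ i = 1 by omega) with rfl | rfl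
      · rw [if_neg (show ¬ (0 + 1 = 0) by omega), if_pos (show (0 + 1 = 1) from rfl), if_pos rfl, Subgroup.card_bot,
          mul_one, hrc]
      · rw [if_neg (show ¬ (1 + 1 = 0) by omega), if_neg (show ¬ (1 + 1 = 1) by omega), if_neg one_ne_zero, if_pos rfl,
          Subgroup.card_top, hk, hrc, pow_two]
  · rcases CfsgLib.FusionFlag.classify_cube (p := p) (K := E) hk (fun L₁ L₂ h₁ h₂ h12 hc₁ hc₂ => by
      refine CfsgLib.FusionFlag.not_flag hS hE 3
        (fun i => if i = 0 then ⊥ else if i = 1 then L₁ else if i = 2 then L₂ else ⊤) (if_pos rfl) (by simp)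
        (fun i _ b x hx => ?_) (fun i hi => ?_) (fun i hi => ?_)
      · split_ifs at hx ⊢
        · rw [Subgroup.mem_bot] at hx; rw [hx, map_one]; exact one_mem _
        · exact h₁ b x hx
        · exact h₂ b x hx
        · exact Subgroup.mem_top _
      · rcases (show i = 0 ∨ i = 1 ∨ i = 2 by omega) with rfl | rfl | rfl <;> simp [h12]
      · rcases (show i = 0 ∨ i = 1 ∨ i = 2 by omega) with rfl | rfl | rfl <;>
          simp [hc₁, hc₂, hk, pow_two, pow_succ] <;> ring) with ⟨hab, hexp⟩ | ⟨-, hex, hexp⟩ | ⟨h2, -⟩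
    · exfalso
      have hE' : (E.subgroupOf S).map S.subtype = E := Subgroup.map_subgroupOf_eq_of_le hES
      refine (ess_of hS hF hG h5 hp (E := E.subgroupOf S) (by rwa [hE']) ?_ ?_ ?_).false_of_shape
      · rw [Nat.card_congr (Subgroup.subgroupOfEquivOfLe hES).toEquiv, hk]
      · intro x hx
        exact Subtype.ext (congrArg (fun y : E => (y : Ω)) (hexp ⟨x, hx⟩))
      · intro a ha b hb
        exact Subtype.ext (congrArg (fun y : E => (y : Ω)) (hab.is_comm.comm ⟨a, ha⟩ ⟨b, hb⟩))
    · refine Or.inr ⟨hk, hex, ?_⟩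
      rcases (Nat.dvd_prime hpp).mp (Monoid.exponent_dvd_of_forall_pow_eq_one hexp) with h1 | h1
      · exfalso
        have hs := Monoid.exp_eq_one_iff.mp h1
        rw [Nat.card_eq_one_iff_unique.mpr ⟨hs, ⟨1⟩⟩] at hk
        exact (Nat.one_lt_pow (by norm_num) hpp.one_lt).ne hk
      · exact h1
    · omega

end CfsgLib.MaxClass94
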