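import Cfsg.Agent.Lib.MaxClass94.Common

/-!
# The exceptional configuration
-/

set_option autoImplicit false
set_option linter.style.haveILetI false

namespace CfsgLib.MaxClass94

open Subgroup
open scoped commutatorElement

section group

variable {G : Type*} [Group G] [Finite G] {p n : ℕ} [Fact p.Prime]

/-- The exceptional shape. -/
structure TOne (H : Subgroup G) (p n : ℕ) (e u : G) : Prop where
  mc : MC G p n
  small : Small H p
  he : e ∈ H
  pair : Pair e u
  six : 6 ≤ n
  even : Even n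
  top : lay G (n - 2) ≤ H
  nf : ∀ k, 2 ≤ k → k + 3 ≤ n → NF e k
  fail : Fail e (n - 2)
  cent : ∀ g, Commute g e ↔ g ∈ H

variable {H : Subgroup G} {e u : G}

theorem TOne.inf_two (h : TOne H p n e u) : H ⊓ lay G 2 = lay G (n - 2) := by
  have h6 := h.six
  refine (Subgroup.eq_of_le_of_card_ge (le_inf h.top (lay_anti (by omega))) ?_).symm
  rw [h.mc.card_lay (by omega) (by omega), show n - (n - 2) = 2 by omega]
  have h1 := CfsgLib.Fusion.MaxClass.mul_card_le_of_lt h.mc.isPGroup
    (lt_of_le_of_ne (inf_le_left : H ⊓ lay G 2 ≤ H) fun h0 => h.pair.1 (h0.ge h.he).2)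
  rw [h.small.card, pow_succ'] at h1
  exact Nat.le_of_mul_le_mul_left h1 (Fact.out : p.Prime).pos

theorem TOne.gen (h : TOne H p n e u) {i : ℕ} (hi : i ≤ n - 2) :
    Subgroup.zpowers e ⊔ lay G i = H ⊔ lay G i := by
  refine le_antisymm (sup_le_sup_right (Subgroup.zpowers_le.mpr h.he) _) (sup_le ?_ le_sup_right)
  have h6 := h.six
  have hlt : lay G (n - 2) < Subgroup.zpowers e ⊔ lay G (n - 2) := lt_of_le_of_ne le_sup_right fun h0 =>
    h.pair.1 (lay_anti (by omega) (h0.ge (Subgroup.mem_sup_left (Subgroup.mem_zpowers e))))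
  have h1 := CfsgLib.Fusion.MaxClass.mul_card_le_of_lt h.mc.isPGroup hlt
  rw [h.mc.card_lay (by omega) (by omega), ← pow_succ', show n - (n - 2) + 1 = 3 by omega, ← h.small.card] at h1
  have h2 := Subgroup.eq_of_le_of_card_ge (sup_le (Subgroup.zpowers_le.mpr h.he) h.top) h1
  exact h2 ▸ sup_le_sup_left (lay_anti hi) _

theorem TOne.card_sup (h : TOne H p n e u) {i : ℕ} (h2 : 2 ≤ i) (hi : i ≤ n - 2) :
    Nat.card ↥(H ⊔ lay G i) = p ^ (n - i + 1) := by
  have hinf : H ⊓ lay G i = lay G (n - 2) := le_antisymm ((inf_le_inf_left H (lay_anti h2)).trans h.inf_two.le)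
    (le_inf h.top (lay_anti hi))
  have h6 := h.six
  have h1 := card_mul_of_normal H (lay G i)
  rw [hinf, h.small.card, h.mc.card_lay h2 (by omega), h.mc.card_lay (by omega) (by omega), ← pow_add,
    show n - (n - 2) = 2 by omega, show 3 + (n - i) = n - i + 1 + 2 by omega, pow_add] at h1
  exact (Nat.eq_of_mul_eq_mul_right (pow_pos (Fact.out : p.Prime).pos _) h1).symm

/-- The elements moving `e` into a deep layer. -/
theorem TOne.dset_le (h : TOne H p n e u) {i : ℕ} (h2 : 2 ≤ i) :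
    i ≤ n - 1 → dset e i ≤ H ⊔ lay G (i - 1) := by
  induction i, h2 using Nat.le_induction with
  | base => intro _; rw [show 2 - 1 = 1 from rfl, lay_one, sup_top_eq]; exact le_top
  | succ i hi ih =>
    intro hin g hg
    obtain ⟨a, ha, b, hb, rfl⟩ :=
      Subgroup.mem_sup_of_normal_right.mp (ih (by omega) (dset_anti e (Nat.le_succ i) hg))
    have hbi : ⁅b, e⁆ ∈ lay G (i + 1) := by
      have h1 := mem_dset.mp hg
      rw [show ⁅a * b, e⁆ = a * ⁅b, e⁆ * a⁻¹ * ⁅a, e⁆ by simp only [commutatorElement_def]; group,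
        commutatorElement_eq_one_iff_mul_comm.mpr ((h.cent a).mpr ha).eq, mul_one] at h1
      have h2 := (lay_normal (i + 1)).conj_mem _ h1 a⁻¹
      rwa [show a⁻¹ * (a * ⁅b, e⁆ * a⁻¹) * a⁻¹⁻¹ = ⁅b, e⁆ by group] at h2
    refine mul_mem (Subgroup.mem_sup_left ha) ?_
    rw [show i + 1 - 1 = i by omega]
    rcases Nat.lt_or_ge i 3 with hlow | hhigh
    · obtain rfl : i = 2 := by omega
      haveI hnorm : (Subgroup.zpowers e ⊔ lay G 2).Normal := ⟨fun x hx y => by
        rw [show y * x * y⁻¹ = ⁅y, x⁆ * x by simp [commutatorElement_def]]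
        exact mul_mem (Subgroup.mem_sup_right (comm_mem (a := 1) (b := 1) le_rfl le_rfl
          (Subgroup.mem_top y) (Subgroup.mem_top x))) hx⟩
      obtain ⟨c, ⟨r, rfl⟩, d, hd, rfl⟩ := Subgroup.mem_sup_of_normal_right.mp
        ((h.pair.sup_eq_top h.mc).ge (Subgroup.mem_top b))
      dsimp only [] at hbi ⊢
      have hd' : Subgroup.zpowers e ⊔ lay G 2 ≤ dset e 3 := sup_le
        (Subgroup.zpowers_le.mpr (mem_dset.mpr (by rw [commutatorElement_self]; exact one_mem _)))
        (lay_le_dset e (by omega) (by omega))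
      have hu : u ^ r ∈ dset e 3 := by
        have := mul_mem (mem_dset.mpr hbi) (inv_mem (hd' hd))
        rwa [mul_inv_cancel_right] at this
      have hdH : d ∈ H ⊔ lay G 2 := (sup_le_sup_right (Subgroup.zpowers_le.mpr h.he) _) hd
      refine mul_mem ?_ hdH
      have hpu : u ^ (p : ℤ) ∈ Subgroup.zpowers e ⊔ lay G 2 := by
        rw [zpow_natCast]
        have hidx : (Subgroup.zpowers e ⊔ lay G 2).index ∣ p := by
          have hlt : lay G 2 < Subgroup.zpowers e ⊔ lay G 2 := lt_of_le_of_ne le_sup_right fun h0 =>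
            h.pair.1 (h0.ge (Subgroup.mem_sup_left (Subgroup.mem_zpowers e)))
          have h1 := CfsgLib.Fusion.MaxClass.mul_card_le_of_lt h.mc.isPGroup hlt
          rw [h.mc.card_lay le_rfl (by omega), ← pow_succ'] at h1
          obtain ⟨t, ht⟩ := h.mc.isPGroup.index (Subgroup.zpowers e ⊔ lay G 2)
          have h3 := (Subgroup.zpowers e ⊔ lay G 2).card_mul_index
          rw [ht, h.mc.card] at h3
          rw [ht]
          have h4 : p ^ (n - 2 + 1) * p ^ t ≤ p ^ n := h3 ▸ Nat.mul_le_mul_right _ h1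
          rw [← pow_add] at h4
          have := (Nat.pow_le_pow_iff_right (Fact.out : p.Prime).one_lt).mp h4
          exact (pow_dvd_pow p (show t ≤ 1 by omega)).trans (pow_one p).dvd
        obtain ⟨c, hc⟩ := hidx
        rw [hc, pow_mul]
        exact pow_mem (Subgroup.pow_index_mem _ u) c
      by_cases hr : (p : ℤ) ∣ r
      · obtain ⟨c, rfl⟩ := hr
        rw [zpow_mul]
        exact zpow_mem ((sup_le_sup_right (Subgroup.zpowers_le.mpr h.he) _) hpu) c
      · exfalso
        obtain ⟨s, t, hst⟩ : IsCoprime r (p : ℤ) :=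
          ((Nat.prime_iff_prime_int.mp Fact.out).coprime_iff_not_dvd.mpr hr).symm
        refine h.pair.seq_two h.mc ?_
        rw [seq_succ e u le_rfl]
        refine mem_dset'.mp ?_
        show u ∈ dset e 3
        rw [← zpow_one u, ← hst, zpow_add, mul_comm s, zpow_mul, mul_comm t, zpow_mul]
        exact mul_mem (zpow_mem hu s) (zpow_mem (hd' hpu) t)
    · refine Subgroup.mem_sup_right ?_
      have h1 := h.nf (i - 1) (by omega) (by omega) b hb (by
        rw [show i - 1 + 2 = i + 1 by omega, ← commutatorElement_inv]; exact inv_mem hbi)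
      rwa [show i - 1 + 1 = i by omega] at h1

theorem TOne.normalizer_sup (h : TOne H p n e u) {i : ℕ} (h3 : 3 ≤ i) (hi : i ≤ n - 2) :
    Subgroup.normalizer ((H ⊔ lay G i : Subgroup G) : Set G) = H ⊔ lay G (i - 1) := by
  refine le_antisymm (fun g hg => ?_) ?_
  · refine h.dset_le (by omega) (by omega) (mem_dset.mpr ?_)
    have hge : g * e * g⁻¹ ∈ H ⊔ lay G i := (Subgroup.mem_normalizer_iff.mp hg e).mp (Subgroup.mem_sup_left h.he)
    have hc : ⁅g, e⁆ ∈ H ⊔ lay G i := by
      rw [show ⁅g, e⁆ = g * e * g⁻¹ * e⁻¹ by simp [commutatorElement_def]]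
      exact mul_mem hge (inv_mem (Subgroup.mem_sup_left h.he))
    obtain ⟨a, ha, b, hb, hab⟩ := Subgroup.mem_sup_of_normal_right.mp hc
    have ha2 : a ∈ lay G 2 := by
      have h1 : a * b ∈ lay G 2 := hab ▸ comm_mem (a := 1) (b := 1) le_rfl le_rfl (Subgroup.mem_top g) (Subgroup.mem_top e)
      have := mul_mem h1 (inv_mem (lay_anti (show 2 ≤ i by omega) hb))
      rwa [mul_inv_cancel_right] at this
    rw [← hab]
    exact mul_mem (lay_anti hi (h.inf_two.le ⟨ha, ha2⟩)) hb
  · refine sup_le (le_sup_left.trans Subgroup.le_normalizer) fun g hg => ?_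
    have key : ∀ g ∈ lay G (i - 1), ∀ y ∈ H ⊔ lay G i, g * y * g⁻¹ ∈ H ⊔ lay G i := by
      intro g hg y hy
      rw [show g * y * g⁻¹ = ⁅g, y⁆ * y by simp [commutatorElement_def]]
      refine mul_mem (Subgroup.mem_sup_right ?_) hy
      rw [← commutatorElement_inv]
      exact inv_mem (lay_anti (by omega) (comm_mem' (b := i - 1) (by omega) y hg))
    rw [Subgroup.mem_normalizer_iff]
    refine fun y => ⟨key g hg y, fun hy => ?_⟩
    have := key g⁻¹ (inv_mem hg) _ hy
    rwa [show g⁻¹ * (g * y * g⁻¹) * g⁻¹⁻¹ = y by group] at this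

end group

open Cfsg Cfsg.FusionSystem CfsgLib.Fusion CfsgLib.FusionNormal

variable {Ω : Type*} [Group Ω] {S : Subgroup Ω} {F : FusionSystem S} {p n : ℕ} [Fact p.Prime] [Finite S]
  {E : Subgroup S} {e u : S}

theorem Ess.fullyNormalized_sup (h : Ess F p n E) (h1 : TOne E p n e u) {i : ℕ} (h3 : 3 ≤ i) (hni : n ≤ 2 * i)
    (hi : i ≤ n - 2) : F.IsFullyNormalized ((E ⊔ lay S i).map S.subtype) := by
  have hpp : p.Prime := Fact.out
  have h6 := h1.six
  refine fullyNormalized_of fun Q hQ => ?_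
  rw [h1.normalizer_sup h3 hi, h1.card_sup (by omega) (by omega)]
  obtain ⟨f, hf, hfr⟩ := hQ.exists_fn
  have hfE := hf.mono (le_sup_left : E ≤ E ⊔ lay S i)
  let E' : Subgroup S :=
    { carrier := f '' E
      one_mem' := ⟨1, one_mem _, hf.map_one⟩
      mul_mem' := by
        rintro _ _ ⟨a, ha, rfl⟩ ⟨b, hb, rfl⟩
        exact ⟨a * b, mul_mem ha hb, hfE.map_mul ha hb⟩
      inv_mem' := by
        rintro _ ⟨a, ha, rfl⟩
        exact ⟨a⁻¹, inv_mem ha, hfE.map_inv ha⟩ }
  have hs := h.small' (E' := E') (hfE.gconj rfl)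
  have hE'Q : E' ≤ Q := fun z hz => by
    obtain ⟨a, ha, rfl⟩ := hz
    exact hfr.le ⟨a, Subgroup.mem_sup_left ha, rfl⟩
  obtain ⟨e', u', he', hpair', hC', hshape⟩ := hs.shape h.mc h.hp h.five
  rcases Nat.lt_or_ge n 8 with hsmall | hbig
  · -- the group has order `p ^ 6`
    obtain ⟨k6, hk6⟩ := h1.even
    rcases (show i = n - 2 ∨ (i = n - 3 ∧ n = 6) by omega) with rfl | ⟨rfl, rfl⟩
    · have hWE : E ⊔ lay S (n - 2) = E := sup_eq_left.mpr h1.top
      rw [hWE] at hQ
      rw [show n - (n - 2 - 1) + 1 = 4 by omega, ← h.small.norm]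
      exact gconj_normalizer_le h.ess.2.1 hQ
    · by_contra hc
      rw [not_le] at hc
      obtain ⟨t, ht⟩ := IsPGroup.iff_card.mp (h.isP.to_subgroup (Subgroup.normalizer (Q : Set S)))
      rw [ht] at hc
      have h5 := (Nat.pow_lt_pow_iff_right hpp.one_lt).mp hc
      have h7 : t ≤ 6 := by
        have := Subgroup.card_le_card_group (Subgroup.normalizer (Q : Set S))
        rw [ht, h.mc.card] at this
        exact (Nat.pow_le_pow_iff_right hpp.one_lt).mp this
      haveI : Q.Normal := Subgroup.normalizer_eq_top_iff.mp (Subgroup.eq_top_of_card_eq _ (by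
        rw [ht, h.mc.card]; congr 1; omega))
      have hQc : Nat.card Q = p ^ 4 := by rw [hQ.card_eq, h1.card_sup (by omega) (by omega)]
      have hQi : Q.index = p ^ 2 := by
        have := Q.card_mul_index
        rw [hQc, h.mc.card, show (6 : ℕ) = 4 + 2 from rfl, pow_add] at this
        exact Nat.eq_of_mul_eq_mul_left (pow_pos hpp.pos _) this
      have hab : IsMulCommutative (S ⧸ Q) :=
        IsPGroup.isMulCommutative_of_card_eq_prime_sq (p := p) (by rw [← Subgroup.index_eq_card, hQi])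
      have hle : lay S 2 ≤ Q := by
        rw [lay_two, commutator_def, Subgroup.commutator_le]
        intro a _ b _
        rw [← QuotientGroup.eq_one_iff, ← QuotientGroup.mk'_apply, _root_.map_commutatorElement]
        exact commutatorElement_eq_one_iff_mul_comm.mpr (hab.is_comm.comm _ _)
      have heq := Subgroup.eq_of_le_of_card_ge hle (by
        rw [hQc, h.mc.card_lay le_rfl (by omega)])
      exact hpair'.1 (heq.ge (hE'Q he'))
  · have h1' : TOne E' p n e' u' := by
      rcases hshape with ⟨-, -, htop, hnf, hfail⟩ | ⟨hn5, -⟩ | ⟨hn6, -⟩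
      · exact ⟨h.mc, hs, he', hpair', h6, h1.even, htop, hnf, hfail, hC'⟩
      · omega
      · omega
    have himg : ∀ d, i + d ≤ n - 2 → ∀ x ∈ E ⊔ lay S (n - 2 - d), f x ∈ E' ⊔ lay S (n - 2 - d) := by
      intro d
      induction d with
      | zero =>
        intro _ x hx
        rw [Nat.sub_zero, sup_eq_left.mpr h1.top] at hx
        exact Subgroup.mem_sup_left ⟨x, hx, rfl⟩
      | succ d ih =>
        intro hd x hx
        have hsub : E ⊔ lay S (n - 2 - d) ≤ E ⊔ lay S i := sup_le_sup_left (lay_anti (by omega)) _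
        have hr : f '' (E ⊔ lay S (n - 2 - d) : Subgroup S) = ((E' ⊔ lay S (n - 2 - d) : Subgroup S) : Set S) :=
          (hf.mono hsub).image_eq (ih (by omega))
            (by rw [h1.card_sup (by omega) (by omega), h1'.card_sup (by omega) (by omega)])
        have hxi : x ∈ E ⊔ lay S i := sup_le_sup_left (lay_anti (by omega)) _ hx
        have hxn : x ∈ Subgroup.normalizer ((E ⊔ lay S (n - 2 - d) : Subgroup S) : Set S) := by
          rw [h1.normalizer_sup (by omega) (by omega), show n - 2 - d - 1 = n - 2 - (d + 1) by omega]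
          exact hx
        have := hf.mem_normalizer hsub hr hxi hxn
        rwa [h1'.normalizer_sup (by omega) (by omega), show n - 2 - d - 1 = n - 2 - (d + 1) by omega] at this
    have hQeq : Q = E' ⊔ lay S i := by
      refine Subgroup.eq_of_le_of_card_ge (fun q hq => ?_) ?_
      · obtain ⟨x, hx, rfl⟩ := hfr.ge hq
        have := himg (n - 2 - i) (by omega) x (by rwa [show n - 2 - (n - 2 - i) = i by omega])
        rwa [show n - 2 - (n - 2 - i) = i by omega] at this
      · rw [h1'.card_sup (by omega) hi, hQ.card_eq, h1.card_sup (by omega) hi]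
    rw [hQeq, h1'.normalizer_sup h3 hi, h1'.card_sup (by omega) (by omega)]

/-- The exceptional configuration does not occur. -/
theorem Ess.not_one (h : Ess F p n E) (h1 : TOne E p n e u) (heven : Even n) : False := by
  have hpp : p.Prime := Fact.out
  have h6 := h1.six
  have hp5 := h.hp
  obtain ⟨hh, hhn⟩ := heven
  have hEc : ∀ a ∈ E, ∀ b ∈ E, Commute a b := fun a ha b hb => h.small.comm ha hb
  -- abelian layers
  have hab : ∀ a ∈ lay S hh, ∀ b ∈ lay S hh, Commute a b := fun a ha b hb =>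
    commutatorElement_eq_one_iff_mul_comm.mp (Subgroup.mem_bot.mp
      (h.mc.bot (i := 2 * hh + 1) (by omega) ▸ h.mc.comm_self (by omega) ha hb))
  -- the element inducing the transvection
  obtain ⟨g, hg, hg'⟩ := SetLike.not_le_iff_exists.mp (h.mc.lay_lt (i := n - 3) (by omega) (by omega))
  have hgE : g ∉ E := fun hgE => hg' (by
    rw [show n - 3 + 1 = n - 2 by omega]; exact h1.inf_two.le ⟨hgE, lay_anti (by omega) hg⟩)
  have hcomm2 : ∀ x, ⁅g, x⁆ ∈ lay S (n - 2) := fun x => by
    rw [← commutatorElement_inv]; exact inv_mem (lay_anti (by omega) (comm_mem' (by omega) x hg))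
  have hgN : g ∈ Subgroup.normalizer (E : Set S) := by
    rw [Subgroup.mem_normalizer_iff]
    intro y
    rw [show g * y * g⁻¹ = ⁅g, y⁆ * y by simp [commutatorElement_def]]
    exact (mul_mem_cancel_left (h1.top (hcomm2 y))).symm
  have hcen : ∀ c ∈ lay S (n - 2), ∀ w ∈ E ⊔ lay S hh, Commute c w := fun c hc w hw =>
    (Subgroup.mem_centralizer_singleton_iff.mp ((sup_le
      (fun y hy => Subgroup.mem_centralizer_singleton_iff.mpr (hEc y hy c (h1.top hc)).eq)
      (fun y hy => Subgroup.mem_centralizer_singleton_iff.mpr (hab y hy c (lay_anti (by omega) hc)).eq) :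
        E ⊔ lay S hh ≤ Subgroup.centralizer {c}) hw)).symm
  obtain ⟨x, hxdef⟩ : ∃ x, x = ⁅g, e⁆ := ⟨_, rfl⟩
  have hxm : x ∈ lay S (n - 2) := hxdef ▸ hcomm2 e
  have hx' : x ∉ lay S (n - 1) := fun hc => by
    refine hg' (h1.nf (n - 3) (by omega) (by omega) g hg ?_)
    rw [← commutatorElement_inv, show n - 3 + 2 = n - 1 by omega, ← hxdef]
    exact inv_mem hc
  have hgW : g ∈ E ⊔ lay S hh := Subgroup.mem_sup_right (lay_anti (by omega) hg)
  have hgx : Commute g x := (hcen x hxm g hgW).symm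
  have heh : e ∈ E ⊔ lay S hh := Subgroup.mem_sup_left h1.he
  have hex : Commute e x := hEc e h1.he x (h1.top hxm)
  -- commutators of the layer `n - 3`
  have hT : ∀ v ∈ lay S (n - 3), ∀ w ∈ E ⊔ lay S hh, ⁅v, w⁆ ∈ Subgroup.zpowers x := by
    intro v hv w hw
    obtain ⟨_, ⟨r, rfl⟩, c, hc, rfl⟩ :=
      Subgroup.mem_sup_of_normal_right.mp ((h.mc.sup_zpowers (by omega) hg hg').ge hv)
    rw [← h1.gen (by omega)] at hw
    obtain ⟨_, ⟨a, rfl⟩, l, hl, rfl⟩ := Subgroup.mem_sup_of_normal_right.mp hw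
    dsimp only [] at hw ⊢
    have hc2 : c ∈ lay S (n - 2) := by rwa [show n - 3 + 1 = n - 2 by omega] at hc
    have hwW : e ^ a * l ∈ E ⊔ lay S hh := mul_mem (zpow_mem heh a) (Subgroup.mem_sup_right hl)
    rw [comm_mul_left, commutatorElement_eq_one_iff_mul_comm.mpr (hcen c hc2 _ hwW).eq, mul_one, mul_inv_cancel,
      one_mul, comm_mul_right,
      commutatorElement_eq_one_iff_mul_comm.mpr (hab _ (zpow_mem (lay_anti (by omega) hg) r) l hl).eq, mul_one,
      mul_inv_cancel, mul_one, comm_zpow_zpow (hxdef ▸ hgx) (hxdef ▸ hex), ← hxdef]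
    exact zpow_mem (Subgroup.mem_zpowers x) _
  have hgc : ∀ y ∈ E, ⁅g, y⁆ ∈ Subgroup.zpowers x := fun y hy => hT g hg y (Subgroup.mem_sup_left hy)
  obtain ⟨-, γ, hγ, hγr, hγc, hγx, d, hdE, hγd, hgd, hdx⟩ := data_of_elem h.isP h.sat h.ess h.small.card h.small.pow
    h.small.cent hgN hgE (h1.top hxm) (mul_inv_eq_iff_eq_mul.mpr hgx.eq) hgc
  obtain ⟨f₁, hf₁, hf₁E, hf₁g⟩ := h.extend_normalizer hgN hgE ⟨hγ, hγr⟩ hγc
  have hN : Subgroup.normalizer (E : Set S) = E ⊔ lay S (n - 3) := by
    have := h1.normalizer_sup (i := n - 2) (by omega) le_rfl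
    rwa [sup_eq_left.mpr h1.top, show n - 2 - 1 = n - 3 by omega] at this
  rw [hN] at hf₁
  -- the centre of a member of the chain
  have hcenW : ∀ i, hh ≤ i → i ≤ n - 3 → ∀ φ, Auto F (E ⊔ lay S i) φ → (∀ y ∈ lay S i, φ y ∈ lay S i) →
      ∀ y ∈ lay S (n - 2), φ y ∈ lay S (n - 2) := by
    intro i hi hi' φ hφ hL y hy
    have hyi : y ∈ lay S i := lay_anti (by omega) hy
    have hec : Commute (φ y) e := by
      obtain ⟨e0, he0, hee⟩ := hφ.surj (Subgroup.mem_sup_left h1.he)
      rw [← hee, Commute, SemiconjBy, ← hφ.gfn.map_mul (Subgroup.mem_sup_right hyi) he0,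
        ← hφ.gfn.map_mul he0 (Subgroup.mem_sup_right hyi), (hcen y hy e0 (sup_le_sup_left (lay_anti hi) _ he0)).eq]
    exact h1.inf_two.le ⟨(h1.cent _).mp hec, lay_anti (by omega) (hL y hyi)⟩
  -- the layers are invariant
  have hbase : ∀ φ, Auto F (E ⊔ lay S (n - 3)) φ → ∀ y ∈ lay S (n - 3), φ y ∈ lay S (n - 3) := by
    intro φ hφ
    rw [← h1.gen (by omega)] at hφ
    refine h.image_le (C := lay S (n - 2)) ?_ (fun a ha b hb => hab a (lay_anti (by omega) ha) b (lay_anti (by omega) hb))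
      h1.top (lay_anti (by omega)) ?_ h1.he (fun hc => h1.pair.1 (lay_anti (by omega) hc)) ?_ ?_ ?_ hφ
    · rw [h.mc.card_lay (by omega) (by omega)]; congr 1; omega
    · rw [h.mc.card_lay (by omega) (by omega)]; congr 1; omega
    · intro hall
      refine hx' ?_
      rw [hxdef, commutatorElement_eq_one_iff_mul_comm.mpr (hall g hg).eq.symm]
      exact one_mem _
    · intro k hk
      exact lay_anti (by omega) (comm_mem' (by omega) e hk)
    · intro k hk
      obtain ⟨y, hy, hy'⟩ := SetLike.not_le_iff_exists.mp (h.mc.lay_lt (i := n - 4) (by omega) (by omega))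
      have hye : ⁅y, e⁆ ∈ lay S (n - 3) := by
        rw [← commutatorElement_inv]
        have := comm_mem' (b := n - 4) (by omega) e hy
        rw [show n - 4 + 1 = n - 3 by omega] at this
        exact inv_mem this
      have hye' : ⁅y, e⁆ ∉ lay S (n - 3 + 1) := fun hc => hy' (h1.nf (n - 4) (by omega) (by omega) y hy (by
        rw [← commutatorElement_inv, show n - 4 + 2 = n - 3 + 1 by omega]; exact inv_mem hc))
      obtain ⟨_, ⟨r, rfl⟩, c, hc, rfl⟩ := Subgroup.mem_sup_of_normal_right.mp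
        ((h.mc.sup_zpowers (by omega) hye hye').ge hk)
      refine ⟨y ^ r, fun z hz => (lay_normal _).conj_mem _ hz _, ?_⟩
      dsimp only []
      rw [← mul_assoc]
      refine mul_mem ?_ (by rwa [show n - 3 + 1 = n - 2 by omega] at hc)
      rw [← QuotientGroup.eq_one_iff, ← QuotientGroup.mk'_apply, map_mul, map_inv, map_commutatorElement, map_zpow,
        map_zpow, map_commutatorElement,
        commutator_zpow_left (X := ⁅QuotientGroup.mk' (lay S (n - 2)) y, QuotientGroup.mk' (lay S (n - 2)) e⁆)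
          (fun q => by rw [← map_commutatorElement]; exact mk_central (a := n - 3) (by omega) (by omega) hye q)
          rfl, inv_mul_cancel]
  have hL : ∀ i, hh ≤ i → i ≤ n - 3 → ∀ φ, Auto F (E ⊔ lay S i) φ → ∀ y ∈ lay S i, φ y ∈ lay S i := by
    intro i hi hi' φ hφ
    rcases eq_or_lt_of_le hi' with rfl | hlt
    · exact hbase φ hφ
    intro y hy
    by_contra hy'
    set W := E ⊔ lay S i with hW
    let A : Subgroup S :=
      { carrier := φ '' lay S i
        one_mem' := ⟨1, one_mem _, hφ.gfn.map_one⟩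
        mul_mem' := by
          rintro _ _ ⟨a, ha, rfl⟩ ⟨b, hb, rfl⟩
          exact ⟨a * b, mul_mem ha hb, hφ.gfn.map_mul (Subgroup.mem_sup_right ha) (Subgroup.mem_sup_right hb)⟩
        inv_mem' := by
          rintro _ ⟨a, ha, rfl⟩
          exact ⟨a⁻¹, inv_mem ha, hφ.gfn.map_inv (Subgroup.mem_sup_right ha)⟩ }
    have hAW : A ≤ W := by rintro _ ⟨a, ha, rfl⟩; exact hφ.mem (Subgroup.mem_sup_right ha)
    have hAc : Nat.card A = p ^ (n - i) := by
      rw [← h.mc.card_lay (by omega) (by omega : i ≤ n), ← (hφ.gfn.mono le_sup_right).card_image,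
        ← Nat.card_coe_set_eq]; rfl
    have hsup : A ⊔ lay S i = W := by
      refine Subgroup.eq_of_le_of_card_ge (sup_le hAW le_sup_right) ?_
      have := CfsgLib.Fusion.MaxClass.mul_card_le_of_lt h.isP (H := lay S i) (K := A ⊔ lay S i)
        (lt_of_le_of_ne le_sup_right fun h0 => hy' (h0.ge (Subgroup.mem_sup_left ⟨y, hy, rfl⟩)))
      rw [h.mc.card_lay (by omega) (by omega), ← pow_succ'] at this
      rwa [h1.card_sup (by omega) (by omega)]
    have hAcomm : ∀ a ∈ A, ∀ b ∈ A, Commute a b := by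
      rintro _ ⟨a, ha, rfl⟩ _ ⟨b, hb, rfl⟩
      rw [Commute, SemiconjBy, ← hφ.gfn.map_mul (Subgroup.mem_sup_right ha) (Subgroup.mem_sup_right hb),
        ← hφ.gfn.map_mul (Subgroup.mem_sup_right hb) (Subgroup.mem_sup_right ha),
        (hab a (lay_anti hi ha) b (lay_anti hi hb)).eq]
    have hle : A ⊓ lay S i ≤ lay S (n - 2) := by
      intro v hv
      have hc : W ≤ Subgroup.centralizer {v} := hsup ▸ sup_le
        (fun a ha => Subgroup.mem_centralizer_singleton_iff.mpr (hAcomm a ha v hv.1).eq)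
        (fun a ha => Subgroup.mem_centralizer_singleton_iff.mpr (hab a (lay_anti hi ha) v (lay_anti hi hv.2)).eq)
      have := Subgroup.mem_centralizer_singleton_iff.mp (hc (Subgroup.mem_sup_left h1.he))
      exact h1.inf_two.le ⟨(h1.cent v).mp this.symm, lay_anti (by omega) hv.2⟩
    have hc2 := card_mul_of_normal A (lay S i)
    rw [hsup, hAc, h1.card_sup (by omega) (by omega), h.mc.card_lay (by omega) (by omega)] at hc2
    have hc3 := Subgroup.card_le_of_le hle
    rw [h.mc.card_lay (by omega) (by omega)] at hc3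
    have : p ^ (n - i) * p ^ (n - i) ≤ p ^ (n - i + 1) * p ^ (n - (n - 2)) := hc2 ▸ Nat.mul_le_mul_left _ hc3
    rw [← pow_add, ← pow_add] at this
    have := (Nat.pow_le_pow_iff_right hpp.one_lt).mp this
    omega
  have hLm : ∀ i, hh ≤ i → i ≤ n - 3 → ∀ φ, Auto F (E ⊔ lay S i) φ →
      ∀ m, i ≤ m → m ≤ n - 2 → ∀ y ∈ lay S m, φ y ∈ lay S m := by
    intro i hi hi' φ hφ m hm
    induction m, hm using Nat.le_induction with
    | base => intro _; exact hL i hi hi' φ hφ
    | succ m hm ih =>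
      intro hmn
      have ih' := ih (by omega)
      have hc2 := hcenW i hi hi' φ hφ (hL i hi hi' φ hφ)
      intro y hy
      suffices hsuff : ∀ d m', m' + d = n - 2 → m + 1 ≤ m' → ∀ y ∈ lay S m', φ y ∈ lay S (m + 1) by
        exact hsuff (n - 2 - (m + 1)) (m + 1) (by omega) le_rfl y hy
      intro d
      induction d with
      | zero =>
        intro m' hm' _ y hy
        rw [Nat.add_zero] at hm'
        exact lay_anti hmn (hc2 y (hm' ▸ hy))
      | succ d ihd =>
        intro m' hm' hmm' y hy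
        obtain ⟨v, hv, hv'⟩ := SetLike.not_le_iff_exists.mp (h.mc.lay_lt (i := m' - 1) (by omega) (by omega))
        have hev : ⁅e, v⁆ ∈ lay S m' := by
          have := comm_mem' (b := m' - 1) (by omega) e hv
          rwa [show m' - 1 + 1 = m' by omega] at this
        have hev' : ⁅e, v⁆ ∉ lay S (m' + 1) := fun hc => hv' (h1.nf (m' - 1) (by omega) (by omega) v hv (by
          rwa [show m' - 1 + 2 = m' + 1 by omega]))
        obtain ⟨_, ⟨r, rfl⟩, c, hc, rfl⟩ := Subgroup.mem_sup_of_normal_right.mp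
          ((h.mc.sup_zpowers (by omega) hev hev').ge hy)
        dsimp only []
        have hevW : ⁅e, v⁆ ∈ E ⊔ lay S i := Subgroup.mem_sup_right (lay_anti (by omega) hev)
        rw [hφ.gfn.map_mul (zpow_mem hevW r) (Subgroup.mem_sup_right (lay_anti (by omega) hc)),
          hφ.gfn.map_zpow hevW]
        refine mul_mem (zpow_mem ?_ r) (ihd (m' + 1) (by omega) (by omega) c hc)
        rw [hφ.gfn.map_comm (Subgroup.mem_sup_left h1.he) (Subgroup.mem_sup_right (lay_anti (by omega) hv))]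
        exact comm_mem' (by omega) _ (ih' v (lay_anti (by omega) hv))
  -- the chain
  have hchain : ∀ d, hh - 1 + d ≤ n - 3 → ∃ f, Auto F (E ⊔ lay S (n - 3 - d)) f ∧ (∀ y ∈ E, f y = γ y) ∧
      g⁻¹ * f g ∈ E ∧ ∀ j, n - 3 - d ≤ j → j ≤ n - 3 → ∀ y ∈ E ⊔ lay S j, f y ∈ E ⊔ lay S j := by
    intro d
    induction d with
    | zero =>
      intro _
      rw [Nat.sub_zero]
      refine ⟨f₁, hf₁, hf₁E, hf₁g, fun j hj hj' y hy => ?_⟩
      obtain rfl : j = n - 3 := by omega
      exact hf₁.mem hy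
    | succ d ih =>
      intro hd
      obtain ⟨f, hf, hfγ, hfg, hfW⟩ := ih (by omega)
      obtain ⟨i, hi⟩ : ∃ i, i = n - 3 - d := ⟨_, rfl⟩
      rw [← hi] at hf hfW
      rw [show n - 3 - (d + 1) = i - 1 by omega]
      let L : ℕ → Subgroup S := fun k => if k = 0 then ⊥ else if k = 1 then Subgroup.zpowers x
        else if k ≤ n - i then lay S (n - k) else E ⊔ lay S i
      have hxord : Nat.card (Subgroup.zpowers x) = p := by
        rw [Nat.card_zpowers]
        exact orderOf_eq_prime (h.small.pow x (h1.top hxm)) fun h0 => hx' (h0 ▸ one_mem _)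
      obtain ⟨f', hf', hfe, hfm⟩ := extend_of_flag h.isP h.sat
        (h.fullyNormalized_sup h1 (i := i) (by omega) (by omega) (by omega)) (n - i + 1) L (by simp [L])
        (by simp only [L]; rw [if_neg (by omega), if_neg (by omega), if_neg (by omega)])
        (fun k hk => by
          simp only [L]
          rcases (show k = 0 ∨ k = 1 ∨ 2 ≤ k by omega) with rfl | rfl | hk2
          · simp
          · rw [if_neg (by omega), if_pos rfl, if_neg (by omega), if_neg (by omega), if_pos (by omega)]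
            exact (Subgroup.zpowers_le.mpr hxm).trans (lay_anti (by omega))
          · rw [if_neg (by omega), if_neg (by omega), if_pos (by omega), if_neg (by omega), if_neg (by omega)]
            split_ifs with hk'
            · exact lay_anti (by omega)
            · exact le_sup_of_le_right (lay_anti (by omega)))
        (fun k hk => by
          simp only [L]
          rcases (show k = 0 ∨ k = 1 ∨ 2 ≤ k by omega) with rfl | rfl | hk2
          · simp [hxord]
          · rw [if_neg (by omega), if_neg (by omega), if_pos (by omega), if_neg (by omega), if_pos rfl, hxord,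
              h.mc.card_lay (by omega) (by omega), ← pow_two]
            congr 1; omega
          · rw [if_neg (show ¬ k + 1 = 0 by omega), if_neg (show ¬ k + 1 = 1 by omega), if_neg (show ¬ k = 0 by omega),
              if_neg (show ¬ k = 1 by omega), if_pos (show k ≤ n - i by omega), h.mc.card_lay (by omega) (by omega),
              ← pow_succ']
            split_ifs with hk'
            · rw [h.mc.card_lay (by omega) (by omega)]; congr 1; omega
            · rw [h1.card_sup (by omega) (by omega)]; congr 1; omega)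
        (fun φ hφ hφr k hk y hy => by
          have hau : Auto F (E ⊔ lay S i) φ := ⟨hφ, hφr⟩
          simp only [L] at hy ⊢
          split_ifs at hy ⊢ with h0 h1' h2
          · rw [Subgroup.mem_bot] at hy ⊢; rw [hy, hφ.map_one]
          · obtain ⟨r, rfl⟩ := hy
            dsimp only []
            rw [hφ.map_zpow (Subgroup.mem_sup_right (lay_anti (by omega) hxm))]
            refine zpow_mem ?_ r
            rw [show φ x = ⁅φ g, φ e⁆ by
              rw [hxdef, hφ.map_comm (Subgroup.mem_sup_right (lay_anti (by omega) hg)) (Subgroup.mem_sup_left h1.he)]]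
            exact hT _ (hLm i (by omega) (by omega) φ hau (n - 3) (by omega) (by omega) g hg) _
              (sup_le_sup_left (lay_anti (by omega)) _ (hau.mem (Subgroup.mem_sup_left h1.he)))
          · exact hLm i (by omega) (by omega) φ hau (n - k) (by omega) (by omega) y hy
          · exact hau.mem hy)
        hf.gfn hf.img
      have hNi := h1.normalizer_sup (i := i) (by omega) (by omega)
      rw [hNi] at hf' hfm
      have hgi : g ∈ E ⊔ lay S i := Subgroup.mem_sup_right (lay_anti (by omega) hg)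
      refine ⟨f', Auto.of_mem hf' hfm, fun y hy => by rw [hfe y (Subgroup.mem_sup_left hy), hfγ y hy],
        by rw [hfe g hgi]; exact hfg, fun j hj hj' y hy => ?_⟩
      rcases eq_or_lt_of_le hj with rfl | hlt
      · exact hfm y hy
      · rw [hfe y (sup_le_sup_left (lay_anti (by omega)) _ hy)]
        exact hfW j (by omega) hj' y hy
  obtain ⟨f, hf, hfγ, hfg, hfW⟩ := hchain (n - 3 - (hh - 1)) (by omega)
  rw [show n - 3 - (n - 3 - (hh - 1)) = hh - 1 by omega] at hf hfW
  have hfh : Auto F (E ⊔ lay S hh) f := Auto.of_mem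
    (hf.gfn.mono (sup_le_sup_left (lay_anti (by omega)) _)) (hfW hh (by omega) (by omega))
  have hLf := hLm hh le_rfl (by omega) f hfh
  have hEfix : ∀ w ∈ E, Commute g w → w ∈ lay S (n - 2) := by
    intro w hw hgw
    have hwE : w ∈ Subgroup.zpowers e ⊔ lay S (n - 2) := by
      rw [h1.gen le_rfl]; exact Subgroup.mem_sup_left hw
    obtain ⟨_, ⟨r, rfl⟩, c, hc, rfl⟩ := Subgroup.mem_sup_of_normal_right.mp hwE
    dsimp only [] at hgw ⊢
    refine mul_mem ?_ hc
    have h0 : ⁅g, e ^ r * c⁆ = 1 := commutatorElement_eq_one_iff_mul_comm.mpr hgw.eq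
    rw [comm_mul_right, commutatorElement_eq_one_iff_mul_comm.mpr (hcen c hc g hgW).eq.symm, mul_one, mul_inv_cancel,
      mul_one] at h0
    have h2 := comm_zpow_zpow (a := g) (b := e) (hxdef ▸ hgx) (hxdef ▸ hex) 1 r
    rw [zpow_one, h0, ← hxdef, one_mul] at h2
    have hxo : orderOf x = p := orderOf_eq_prime (h.small.pow x (h1.top hxm)) fun h0 => hx' (h0 ▸ one_mem _)
    obtain ⟨c', hc'⟩ := hxo ▸ orderOf_dvd_iff_zpow_eq_one.mpr h2.symm
    rw [hc', zpow_mul, zpow_natCast, h.small.pow e h1.he, one_zpow]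
    exact one_mem _
  have hfe : f e * e ∈ lay S (n - 2) := by
    rw [hfγ e h1.he]
    exact hEfix _ (mul_mem (by rw [← SetLike.mem_coe, ← hγr]; exact Set.mem_image_of_mem _ h1.he) h1.he)
      (h.mul_self_fixed hgN (h1.top hxm) ⟨hγ, hγr⟩ hγc hγx h1.he (hgc e h1.he))
  -- the signs
  have hsign : ∀ d, hh - 1 + d ≤ n - 3 → ∀ v ∈ lay S (n - 3 - d),
      ∃ a ∈ E, ∃ b ∈ lay S (n - 3 - d), f v = a * b ∧ b * v ^ (-((-1 : ℤ) ^ d)) ∈ lay S (n - 3 - d + 1) ∧
        (hh ≤ n - 3 - d → a = 1) := by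
    intro d
    induction d with
    | zero =>
      intro _ v hv
      rw [Nat.sub_zero] at hv ⊢
      obtain ⟨_, ⟨r, rfl⟩, c, hc, rfl⟩ :=
        Subgroup.mem_sup_of_normal_right.mp ((h.mc.sup_zpowers (by omega) hg hg').ge hv)
      dsimp only [] at hv ⊢
      have hfv := hLf (n - 3) (by omega) (by omega) _ hv
      refine ⟨1, one_mem _, _, hfv, (one_mul _).symm, ?_, fun _ => rfl⟩
      rw [pow_zero, zpow_neg_one]
      have hgc' : f g * g⁻¹ ∈ lay S (n - 3 + 1) := by
        rw [show n - 3 + 1 = n - 2 by omega]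
        have hfg' := hLf (n - 3) (by omega) (by omega) g hg
        have h2 : g⁻¹ * f g ∈ lay S (n - 2) :=
          h1.inf_two.le ⟨hfg, lay_anti (by omega) (mul_mem (inv_mem hg) hfg')⟩
        have := (lay_normal _).conj_mem _ h2 g
        rwa [show g * (g⁻¹ * f g) * g⁻¹ = f g * g⁻¹ by group] at this
      have hcW : c ∈ E ⊔ lay S hh := Subgroup.mem_sup_right (lay_anti (by omega) hc)
      have hfc : f c ∈ lay S (n - 3 + 1) := by
        rw [show n - 3 + 1 = n - 2 by omega] at hc ⊢
        exact hLf (n - 2) (by omega) le_rfl c hc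
      rw [hfh.gfn.map_mul (zpow_mem hgW r) hcW, hfh.gfn.map_zpow hgW, ← QuotientGroup.eq_one_iff,
        ← QuotientGroup.mk'_apply, map_mul, map_mul, map_inv, map_mul, map_zpow, map_zpow, mk_eq_one hfc, mk_eq_one hc,
        mul_one, mul_one]
      have h2 := mk_eq_one hgc'
      rw [map_mul, map_inv, mul_inv_eq_one] at h2
      rw [h2, mul_inv_cancel]
    | succ d ih =>
      intro hd v hv
      obtain ⟨m, hm⟩ : ∃ m, m = n - 3 - (d + 1) := ⟨_, rfl⟩
      rw [← hm] at hv ⊢
      have hm1 : n - 3 - d = m + 1 := by omega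
      have hy : ⁅e, v⁆ ∈ lay S (m + 1) := comm_mem' (by omega) e hv
      obtain ⟨a₀, -, b₀, -, hfy, hb₀, ha₀⟩ := ih (by omega) ⁅e, v⁆ (hm1 ▸ hy)
      rw [ha₀ (by omega), one_mul] at hfy
      rw [hm1] at hb₀
      have hvW : v ∈ E ⊔ lay S (hh - 1) := Subgroup.mem_sup_right (lay_anti (by omega) hv)
      have heW : e ∈ E ⊔ lay S (hh - 1) := Subgroup.mem_sup_left h1.he
      have hfv : f v ∈ E ⊔ lay S m := hfW m (by omega) (by omega) v (Subgroup.mem_sup_right hv)
      obtain ⟨a, ha, b, hb, hab', ha1⟩ : ∃ a ∈ E, ∃ b ∈ lay S m, f v = a * b ∧ (hh ≤ m → a = 1) := by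
        by_cases hhm : hh ≤ m
        · exact ⟨1, one_mem _, f v, hLf m hhm (by omega) v hv, (one_mul _).symm, fun _ => rfl⟩
        · obtain ⟨a, ha, b, hb, hab'⟩ := Subgroup.mem_sup_of_normal_right.mp hfv
          exact ⟨a, ha, b, hb, hab'.symm, fun h0 => absurd h0 hhm⟩
      refine ⟨a, ha, b, hb, hab', ?_, ha1⟩
      refine h1.nf m (by omega) (by omega) _ (mul_mem hb (zpow_mem hv _)) ?_
      let π := QuotientGroup.mk' (lay S (m + 2))
      have hcz : ∀ z ∈ lay S (m + 1), ∀ q, Commute q (π z) := fun z hz q => mk_central (by omega) (by omega) hz q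
      have hfy' : f ⁅e, v⁆ = ⁅e⁻¹ * (f e * e), a * b⁆ := by
        rw [hf.gfn.map_comm heW hvW, hab']
        congr 1
        rw [((hEc _ (inv_mem h1.he) _ (hfh.mem (Subgroup.mem_sup_left h1.he) |> fun _ => by
          rw [hfγ e h1.he]; exact mul_mem (by rw [← SetLike.mem_coe, ← hγr]; exact Set.mem_image_of_mem _ h1.he) h1.he)).eq)]
        group
      have h2 : π (f ⁅e, v⁆) = (π ⁅e, b⁆)⁻¹ := by
        rw [hfy', comm_mul_left, comm_mul_right e⁻¹ a b,
          commutatorElement_eq_one_iff_mul_comm.mpr (hEc _ (inv_mem h1.he) a ha).eq, one_mul, map_mul, map_mul, map_mul]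
        have hce : π ⁅f e * e, a * b⁆ = 1 := by
          refine mk_eq_one ?_
          rw [← commutatorElement_inv]
          exact inv_mem (lay_anti (by omega) (comm_mem' (by omega) (a * b) hfe))
        have hb1 : ⁅e⁻¹, b⁆ ∈ lay S (m + 1) := comm_mem' (by omega) _ hb
        have heb : ⁅e, b⁆ ∈ lay S (m + 1) := comm_mem' (by omega) e hb
        rw [hce, mul_one]
        simp only [map_mul, map_inv, inv_inv, inv_mul_cancel, mul_inv_cancel, one_mul]
        rw [(hcz _ hb1 (π a)).eq, mul_inv_cancel_right]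
        rw [show ⁅e⁻¹, b⁆ = e⁻¹ * ⁅e, b⁆⁻¹ * e by simp only [commutatorElement_def]; group, map_mul, map_mul, map_inv,
          map_inv, ((hcz _ heb (π e)⁻¹).inv_right).eq, inv_mul_cancel_right]
      have hpow : π ⁅e, v ^ (-((-1 : ℤ) ^ (d + 1)))⁆ = π ⁅e, v⁆ ^ (-((-1 : ℤ) ^ (d + 1))) := by
        have hce : Commute (π e) ⁅π e, π v⁆ := by rw [← map_commutatorElement]; exact hcz _ hy _
        have hcv : Commute (π v) ⁅π e, π v⁆ := by rw [← map_commutatorElement]; exact hcz _ hy _
        have h3 := comm_zpow_zpow hce hcv 1 (-((-1 : ℤ) ^ (d + 1)))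
        rw [zpow_one, one_mul] at h3
        rw [map_commutatorElement, map_commutatorElement, map_zpow, h3]
      rw [← QuotientGroup.eq_one_iff, ← QuotientGroup.mk'_apply]
      change π ⁅e, b * v ^ (-((-1 : ℤ) ^ (d + 1)))⁆ = 1
      have hv2 : ⁅e, v ^ (-((-1 : ℤ) ^ (d + 1)))⁆ ∈ lay S (m + 1) := comm_mem' (by omega) e (zpow_mem hv _)
      rw [comm_mul_right, map_mul, map_mul, map_mul, map_inv, (hcz _ hv2 (π b)).eq, mul_inv_cancel_right, hpow,
        show π ⁅e, b⁆ = (π (f ⁅e, v⁆))⁻¹ by rw [h2, inv_inv]]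
      have h4 : π (f ⁅e, v⁆) = π ⁅e, v⁆ ^ ((-1 : ℤ) ^ d) := by
        have h5 := mk_eq_one hb₀
        rw [map_mul, map_zpow, mul_eq_one_iff_eq_inv, ← zpow_neg, neg_neg] at h5
        rw [hfy]; exact h5
      rw [h4, ← zpow_neg, ← zpow_add, show -((-1 : ℤ) ^ d) + -((-1) ^ (d + 1)) = 0 by rw [pow_succ]; ring, zpow_zero]
  -- the critical commutator
  have hnfs : ∀ k, 2 ≤ k → k < n - 2 → NF e k := fun k h2 hk => h1.nf k h2 (by omega)
  have hne1 := first_failure_ne h.mc h1.pair (J := n - 2) (by omega) (by omega) hnfs h1.fail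
  have halt := alt_first (e := e) (u := u) (J := n - 2) h1.fail
  obtain ⟨v, hvdef⟩ : ∃ v, v = seq e u (hh - 1) := ⟨_, rfl⟩
  obtain ⟨w, hwdef⟩ : ∃ w, w = seq e u hh := ⟨_, rfl⟩
  have hv : v ∈ lay S (hh - 1) := hvdef ▸ seq_mem e u _
  have hw : w ∈ lay S hh := hwdef ▸ seq_mem e u _
  have hw' : w ∉ lay S (hh + 1) := hwdef ▸ h1.pair.seq_notMem h.mc hnfs hh (by omega) (by omega)
  obtain ⟨z, hzdef⟩ : ∃ z, z = ⁅v, w⁆ := ⟨_, rfl⟩
  have hz1 : z ≠ 1 := by
    intro hz
    refine hne1 ((QuotientGroup.eq_one_iff _).mp ?_)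
    have := alt_eq_one (f := fun i => QuotientGroup.mk' (lay S (n - 2 + 2)) ⁅seq e u i, seq e u (n - 2 + 1 - i)⁆)
      (lo := 1) (hi := n - 2) halt (m := hh - 1) (by omega) (by omega)
      (by rw [show n - 2 + 1 - (hh - 1) = hh by omega, ← hvdef, ← hwdef, ← hzdef, hz, map_one]) 1 le_rfl (by omega)
    rwa [show n - 2 + 1 - 1 = n - 2 by omega] at this
  have hzm : z ∈ lay S (n - 1) := hzdef ▸ comm_mem_le (by omega) (by omega) (by omega) hv hw
  have hzc : ∀ q, Commute q z := fun q => commutatorElement_eq_one_iff_mul_comm.mp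
    (Subgroup.mem_bot.mp (h.mc.bot (i := n - 1 + 1) (by omega) ▸ comm_mem' (by omega) q hzm))
  have hzp : z ^ p = 1 := Subgroup.mem_bot.mp
    (h.mc.bot (i := n - 1 + 1) (by omega) ▸ h.mc.pow_mem (by omega) hzm)
  obtain ⟨dd, hdd⟩ : ∃ dd, n - 3 - dd = hh - 1 ∧ dd = n - 3 - (hh - 1) := ⟨_, by omega, rfl⟩
  obtain ⟨a, ha, b, hb, hfv, hb', -⟩ := hsign dd (by omega) v (hdd.1.symm ▸ hv)
  rw [hdd.1] at hb hb'
  obtain ⟨a₁, -, b₁, hb₁, hfw, hb₁', ha₁⟩ := hsign (dd - 1) (by omega) w
    (by rw [show n - 3 - (dd - 1) = hh by omega]; exact hw)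
  rw [show n - 3 - (dd - 1) = hh by omega] at hb₁ hb₁' ha₁
  rw [show hh - 1 + 1 = hh by omega] at hb'
  rw [ha₁ le_rfl, one_mul] at hfw
  obtain ⟨ε, hεdef⟩ : ∃ ε : ℤ, ε = (-1) ^ (dd - 1) := ⟨_, rfl⟩
  have hεd : (-1 : ℤ) ^ dd = -ε := by
    rw [hεdef]; conv_lhs => rw [show dd = dd - 1 + 1 by omega, pow_succ]
    ring
  rw [hεd, neg_neg] at hb'
  rw [← hεdef] at hb₁'
  have hεε : ε * ε = 1 := by rw [hεdef, ← mul_pow]; norm_num
  have hbw : ⁅b, b₁⁆ = z⁻¹ := by
    have hzero : ∀ l ∈ lay S (hh + 1), ∀ y ∈ lay S (hh - 1), ⁅y, l⁆ = 1 := fun l hl y hy =>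
      Subgroup.mem_bot.mp (h.mc.bot (i := hh - 1 + (hh + 1)) (by omega) ▸ comm_mem (by omega) (by omega) hy hl)
    obtain ⟨l₁, hl₁, hbe⟩ : ∃ l₁ ∈ lay S hh, b = l₁ * v ^ (-ε) :=
      ⟨b * v ^ ε, hb', by rw [mul_assoc, ← zpow_add, add_neg_cancel, zpow_zero, mul_one]⟩
    obtain ⟨l₂, hl₂, hb₁e⟩ : ∃ l₂ ∈ lay S (hh + 1), b₁ = w ^ ε * l₂ := by
      refine ⟨w ^ (-ε) * b₁, ?_, by rw [← mul_assoc, ← zpow_add, add_neg_cancel, zpow_zero, one_mul]⟩
      have := (lay_normal (hh + 1)).conj_mem _ hb₁' (w ^ (-ε))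
      rwa [show w ^ (-ε) * (b₁ * w ^ (-ε)) * (w ^ (-ε))⁻¹ = w ^ (-ε) * b₁ by group] at this
    have hb₁h : b₁ ∈ lay S hh := hb₁
    rw [hbe, comm_mul_left, commutatorElement_eq_one_iff_mul_comm.mpr (hab l₁ hl₁ b₁ hb₁h).eq, mul_one, hb₁e,
      comm_mul_right, hzero l₂ hl₂ _ (zpow_mem hv _), mul_one, mul_inv_cancel, mul_one,
      comm_zpow_zpow (hzdef ▸ hzc v) (hzdef ▸ hzc w), ← hzdef, neg_mul, hεε, zpow_neg_one, (hzc l₁).inv_right.eq,
      mul_inv_cancel_right]
  have hzW : z ∈ E ⊔ lay S hh := Subgroup.mem_sup_left (h1.top (lay_anti (by omega) hzm))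
  have hfz : f z * z ∈ Subgroup.zpowers x := by
    have hfzeq : f z = z⁻¹ * ⁅a, b₁⁆ := by
      rw [hzdef, hf.gfn.map_comm (Subgroup.mem_sup_right hv) (Subgroup.mem_sup_right (lay_anti (by omega) hw)), hfv, hfw,
        comm_mul_left, hbw, ← hzdef, (hzc a).inv_right.eq, mul_inv_cancel_right]
    have haz : ⁅a, b₁⁆ ∈ lay S (n - 2) := by
      have h2 := hLf (n - 2) (by omega) le_rfl z (lay_anti (by omega) hzm)
      rw [hfzeq] at h2
      exact (mul_mem_cancel_left (inv_mem (lay_anti (by omega) hzm))).mp h2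
    rw [hfzeq, mul_assoc, (hzc ⁅a, b₁⁆).eq, inv_mul_cancel_left]
    rcases Nat.lt_or_ge (hh + 1) (n - 2) with hbig | hsmall
    · -- the element of `E` is in the second centre
      have haE : a ∈ Subgroup.zpowers e ⊔ lay S (n - 2) := by
        rw [h1.gen le_rfl]; exact Subgroup.mem_sup_left ha
      obtain ⟨_, ⟨r, rfl⟩, c, hc, rfl⟩ := Subgroup.mem_sup_of_normal_right.mp haE
      dsimp only [] at haz ⊢
      have hcb : ⁅c, b₁⁆ = 1 := commutatorElement_eq_one_iff_mul_comm.mpr (hcen c hc b₁ (Subgroup.mem_sup_right hb₁)).eq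
      rw [comm_mul_left, hcb, mul_one, mul_inv_cancel, one_mul] at haz ⊢
      rcases eq_or_ne (e ^ r) 1 with her | her
      · rw [her, commutatorElement_one_left]; exact one_mem _
      exfalso
      let π := QuotientGroup.mk' (lay S (n - 2))
      have hc1 : π (e ^ r) ∈ Subgroup.centralizer {π b₁} := Subgroup.mem_centralizer_singleton_iff.mpr
        (commutatorElement_eq_one_iff_mul_comm.mp (by rw [← map_commutatorElement]; exact mk_eq_one haz))
      have heo : orderOf e = p := orderOf_eq_prime (h.small.pow e h1.he) fun h0 => h1.pair.1 (h0 ▸ one_mem _)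
      have hzz : Subgroup.zpowers (e ^ r) = Subgroup.zpowers e := by
        refine Subgroup.eq_of_le_of_card_ge (Subgroup.zpowers_le.mpr (zpow_mem (Subgroup.mem_zpowers e) r)) ?_
        rw [Nat.card_zpowers, Nat.card_zpowers, heo, orderOf_eq_prime (h.small.pow _ (zpow_mem h1.he r)) her]
      obtain ⟨s, hs⟩ := hzz.ge (Subgroup.mem_zpowers e)
      have hcom : π e * π b₁ = π b₁ * π e := Subgroup.mem_centralizer_singleton_iff.mp (by
        rw [← hs]
        dsimp only []
        rw [map_zpow]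
        exact zpow_mem hc1 s)
      have heb : ⁅e, b₁⁆ ∈ lay S (n - 2) := (QuotientGroup.eq_one_iff _).mp (by
        rw [← QuotientGroup.mk'_apply, map_commutatorElement]
        exact commutatorElement_eq_one_iff_mul_comm.mpr hcom)
      have hb₁1 := h1.nf hh (by omega) (by omega) b₁ hb₁ (lay_anti (by omega) heb)
      have hwε : w ^ (-ε) ∈ lay S (hh + 1) := (mul_mem_cancel_left hb₁1).mp hb₁'
      refine hw' ?_
      have := zpow_mem hwε (-ε)
      rwa [← zpow_mul, neg_mul_neg, hεε, zpow_one] at this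
    · rw [← commutatorElement_inv]
      exact inv_mem (hT b₁ (lay_anti (by omega) hb₁) a (Subgroup.mem_sup_left ha))
  -- the fixed point
  have hd2 : d ∈ lay S (n - 2) := hEfix d hdE hgd
  have hzx : z ∉ Subgroup.zpowers x := by
    rintro hzx'
    have hxo : Nat.card (Subgroup.zpowers x) = p := by
      rw [Nat.card_zpowers]
      exact orderOf_eq_prime (h.small.pow x (h1.top hxm)) fun h0 => hx' (h0 ▸ one_mem _)
    have heq : Subgroup.zpowers z = Subgroup.zpowers x := by
      refine Subgroup.eq_of_le_of_card_ge (Subgroup.zpowers_le.mpr hzx') ?_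
      rw [hxo, Nat.card_zpowers, orderOf_eq_prime hzp hz1]
    exact hx' ((Subgroup.zpowers_le.mpr hzm) (heq.ge (Subgroup.mem_zpowers x)))
  have hZ2 : Subgroup.zpowers x ⊔ lay S (n - 1) = lay S (n - 2) := by
    have := h.mc.sup_zpowers (i := n - 2) (by omega) hxm (by rwa [show n - 2 + 1 = n - 1 by omega])
    rwa [show n - 2 + 1 = n - 1 by omega] at this
  have hL1 : Subgroup.zpowers z = lay S (n - 1) := by
    refine Subgroup.eq_of_le_of_card_ge (Subgroup.zpowers_le.mpr hzm) ?_
    rw [h.mc.card_lay (by omega) (by omega), Nat.card_zpowers, orderOf_eq_prime hzp hz1,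
      show n - (n - 1) = 1 by omega, pow_one]
  obtain ⟨_, ⟨i, rfl⟩, q, hq, hdeq⟩ := Subgroup.mem_sup_of_normal_right.mp (hZ2.ge hd2)
  obtain ⟨j, rfl⟩ := hL1.ge hq
  dsimp only [] at hdeq
  have hxW : x ∈ E ⊔ lay S hh := Subgroup.mem_sup_left (h1.top hxm)
  have hfd : f d = d := by rw [hfγ d hdE, hγd]
  rw [← hdeq, hfh.gfn.map_mul (zpow_mem hxW i) (zpow_mem hzW j), hfh.gfn.map_zpow hxW, hfh.gfn.map_zpow hzW,
    hfγ x (h1.top hxm), hγx] at hfd
  have hxz : Commute x z := hzc x
  have hfzc : Commute (f z) z := hzc (f z)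
  have hkey : z ^ (j + j) ∈ Subgroup.zpowers x := by
    have h2 : (f z * z) ^ j = x ^ (i + i) * z ^ (j + j) := by
      calc (f z * z) ^ j = f z ^ j * z ^ j := hfzc.mul_zpow j
        _ = x ^ i * (x⁻¹ ^ i * f z ^ j) * z ^ j := by rw [inv_zpow]; group
        _ = x ^ i * (x ^ i * z ^ j) * z ^ j := by rw [hfd]
        _ = _ := by rw [zpow_add, zpow_add]; group
    have h3 := zpow_mem hfz j
    rw [h2] at h3
    exact (mul_mem_cancel_left (zpow_mem (Subgroup.mem_zpowers x) _)).mp h3
  refine hdx ?_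
  rw [← hdeq]
  refine mul_mem (zpow_mem (Subgroup.mem_zpowers x) i) ?_
  by_cases hpj : (p : ℤ) ∣ j + j
  · have hpj' : (p : ℤ) ∣ j := by
      rcases (Nat.prime_iff_prime_int.mp hpp).dvd_or_dvd (show (p : ℤ) ∣ 2 * j by rwa [two_mul]) with h2 | h2
      · have := Int.le_of_dvd (by norm_num) h2; omega
      · exact h2
    obtain ⟨c, rfl⟩ := hpj'
    rw [zpow_mul, zpow_natCast, hzp, one_zpow]
    exact one_mem _
  · exfalso
    refine hzx ?_
    have hzp' : z ^ (p : ℤ) = 1 := by rw [zpow_natCast, hzp]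
    obtain ⟨s, t, hst⟩ : IsCoprime (j + j) (p : ℤ) :=
      ((Nat.prime_iff_prime_int.mp hpp).coprime_iff_not_dvd.mpr hpj).symm
    rw [← zpow_one z, ← hst, zpow_add, mul_comm s, zpow_mul, mul_comm t, zpow_mul, hzp', one_zpow, mul_one]
    exact zpow_mem hkey s

end CfsgLib.MaxClass94
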